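import Groth.Agent.ASB64.ProjUnits
import Groth.Agent.Csa25.ProjAutLinear
import Groth.Agent.Csa25.SBPicTwist
import Groth.Agent.Curves2.Glue.Descend
import Groth.Agent.ParaF26.Spread
import Groth.Agent.S0233

/-! Invertible modules on projective space over a field are twists. -/

set_option autoImplicit false
set_option backward.isDefEq.respectTransparency.types false

universe u

open CategoryTheory CategoryTheory.Limits AlgebraicGeometry TopologicalSpace Opposite HomogeneousLocalization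

noncomputable section

namespace Groth.Agent.ASB64.PicProj

open Om3.OmegaPn Approx60.ProjCharts Var76.LineBundle
open scoped Groth.Agent.Csa25

variable {k : Type u} [Field k] {n : ℕ}

local notation "𝓟" => CohB1.polyGrading n k
local notation "P" => CohB1.ProjSpace n k

theorem exists_frame (M : (P).Modules) (hM : PicF.IsInvertible M) (i : Fin (n + 1)) :
    ∃ e : Γ(M, U k n i), IsFrame M (U k n i) e := by
  let R := Away 𝓟 (MvPolynomial.X i)
  haveI : IsDomain R := MulEquiv.isDomain _ (Csa25.awayEquiv (K := k) i).toMulEquiv.symm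
  haveI : UniqueFactorizationMonoid R :=
    MulEquiv.uniqueFactorizationMonoid (Csa25.awayEquiv (K := k) i).toMulEquiv inferInstance
  let j : (U k n i : Scheme.{u}) ≅ ((⊤ : (Spec (CommRingCat.of R)).Opens) : Scheme.{u}) :=
    Proj.basicOpenIsoSpec 𝓟 (MvPolynomial.X i) (MvPolynomial.isHomogeneous_X k i) one_pos ≪≫
      (Scheme.topIso _).symm
  obtain ⟨t⟩ := Groth.Agent.S0233.result R ⊤ _ (Amp73.isInvertible_pullback (j.inv ≫ (U k n i).ι) hM)
  have φ : M.restrict (U k n i).ι ≅ Coh.structureModule (U k n i : Scheme.{u}) :=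
    (Scheme.Modules.restrictFunctorIsoPullback (U k n i).ι).app M ≪≫
      (Scheme.Modules.pullbackCongr (Iso.hom_inv_id_assoc j (U k n i).ι).symm).app M ≪≫
      ((Scheme.Modules.pullbackComp j.hom (j.inv ≫ (U k n i).ι)).app M).symm ≪≫
      (Scheme.Modules.pullback j.hom).mapIso t ≪≫ PicLoc.pullbackStructureIso j.hom
  exact ParaF26.exists_frame_of_restrict_iso φ

/-- The point of the hyperplane `x_l = 0`. -/
def hypPt (l i : Fin (n + 1)) (h : l ≠ i) : P :=
  ⟨⟨Ideal.span {(MvPolynomial.X l : MvPolynomial (Fin (n + 1)) k)}, Ideal.homogeneous_span _ _ (by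
      rintro _ rfl
      exact ⟨1, MvPolynomial.isHomogeneous_X k l⟩)⟩,
    (Ideal.span_singleton_prime (MvPolynomial.X_ne_zero l)).2 MvPolynomial.X_prime,
    fun hir => by
      have : MvPolynomial.X i ∈ Ideal.span {(MvPolynomial.X l : MvPolynomial (Fin (n + 1)) k)} :=
        hir (HomogeneousIdeal.mem_irrelevant_of_mem _ one_pos (MvPolynomial.isHomogeneous_X k i))
      rw [Ideal.mem_span_singleton, MvPolynomial.X_dvd_X] at this
      exact h this⟩

theorem mem_U_hypPt {l i : Fin (n + 1)} (h : l ≠ i) {m : Fin (n + 1)} (hm : l ≠ m) :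
    hypPt (k := k) l i h ∈ U k n m := fun hmem => by
  have : MvPolynomial.X m ∈ Ideal.span {(MvPolynomial.X l : MvPolynomial (Fin (n + 1)) k)} := hmem
  rw [Ideal.mem_span_singleton, MvPolynomial.X_dvd_X] at this
  exact hm this

theorem isIntegral_proj : IsIntegral P := Curves2.ProjLine.isIntegral (k := k) n

theorem res_injective {V V' : Scheme.Opens P} (h : V' ≤ V) (hne : Nonempty V') :
    Function.Injective ((P).presheaf.map (homOfLE h).op) := by
  haveI := isIntegral_proj (k := k) (n := n)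
  haveI := hne
  intro a b hab
  refine AlgebraicGeometry.map_injective_of_isIntegral (P) (homOfLE h) hab

/-- A power of a coordinate quotient extends invertibly across the hyperplane only for exponent zero. -/
theorem exponent_eq_zero {i j l : Fin (n + 1)} (hli : l ≠ i) (hlj : l ≠ j) (m : ℤ)
    (w : Γ(P, U k n i ⊓ U k n j)ˣ)
    (h : Units.map ((P).presheaf.map (homOfLE (inf_le_left : U k n i ⊓ U k n j ⊓ U k n l ≤ U k n i ⊓ U k n j)).op).hom.toMonoidHom w =
      quot i l (inf_le_left.trans inf_le_left) inf_le_right ^ m) : m = 0 := by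
  by_contra hm
  wlog hneg : 0 < m generalizing m w
  · refine this (-m) w⁻¹ (by rw [map_inv, h, zpow_neg]) (neg_ne_zero.mpr hm) (by omega)
  obtain ⟨p, rfl⟩ := Int.eq_ofNat_of_zero_le hneg.le
  have hp : 0 < p := by omega
  let V := U k n i ⊓ U k n j
  let W := V ⊓ U k n l
  have hx : hypPt (k := k) l i hli ∈ V := ⟨mem_U_hypPt hli hli, mem_U_hypPt hli hlj⟩
  let c : Γ(P, V) := (P).presheaf.map (homOfLE (inf_le_left : V ≤ U k n i)).op (coord k n i l) ^ p * (w : Γ(P, V))
  have hne : Nonempty W := ⟨⟨Csa25.genericPt,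
    ⟨Csa25.genericPt_mem (MvPolynomial.X_ne_zero i), Csa25.genericPt_mem (MvPolynomial.X_ne_zero j)⟩,
    Csa25.genericPt_mem (MvPolynomial.X_ne_zero l)⟩⟩
  have hc : c = 1 := by
    refine res_injective (inf_le_left : W ≤ V) hne (ext_valHom fun x => ?_)
    have hw := congrArg (fun z : Γ(P, W)ˣ => valHom x (z : Γ(P, W))) h
    simp only [Units.coe_map] at hw
    show valHom x ((P).presheaf.map _ c) = valHom x ((P).presheaf.map _ 1)
    rw [map_one, map_one]
    show valHom x ((P).presheaf.map (homOfLE (inf_le_left : W ≤ V)).op (_ * (w : Γ(P, V)))) = 1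
    rw [map_mul, map_mul]
    refine (congrArg (_ * ·) hw).trans ?_
    rw [valHom_res, map_pow, valHom_res, valHom_coord, valHom_quot_zpow, zpow_natCast, Units.val_pow_eq_pow_val,
      Units.val_mul, ← mul_pow]
    show ((xUnit x.1 l x.2.2).val * _ * ((xUnit x.1 i x.2.1.1).val * _)) ^ p = 1
    rw [← Units.val_mul, ← Units.val_mul, ← Units.val_mul,
      show xUnit x.1 l x.2.2 * (xUnit x.1 i x.2.1.1)⁻¹ * (xUnit x.1 i x.2.1.1 * (xUnit x.1 l x.2.2)⁻¹) = 1 by group,
      Units.val_one, one_pow]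
  have h1 : IsUnit (valHom (⟨hypPt l i hli, hx⟩ : V) ((P).presheaf.map (homOfLE (inf_le_left : V ≤ U k n i)).op (coord k n i l))) := by
    have h2 : IsUnit (valHom (⟨hypPt l i hli, hx⟩ : V) c) := by rw [hc, map_one]; exact isUnit_one
    rw [map_mul, map_pow, IsUnit.mul_iff] at h2
    exact (isUnit_pow_iff hp.ne').mp h2.1
  rw [valHom_res, valHom_coord, IsUnit.mul_iff, Localization.mk_one_eq_algebraMap] at h1
  have h3 := (IsLocalization.AtPrime.isUnit_to_map_iff (Localization (hypPt l i hli).asHomogeneousIdeal.toIdeal.primeCompl)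
    (hypPt l i hli).asHomogeneousIdeal.toIdeal (MvPolynomial.X l)).mp h1.1
  exact h3 (Ideal.mem_span_singleton_self _)

theorem exists_unit_coeff {M : (P).Modules} {V : Scheme.Opens P} {e e' : Γ(M, V)} (he : IsFrame M V e)
    (he' : IsFrame M V e') : ∃ c : Γ(P, V)ˣ, (c : Γ(P, V)) • e = e' := by
  obtain ⟨c, hc⟩ := (he V le_rfl).2 e'
  obtain ⟨d, hd⟩ := (he' V le_rfl).2 e
  dsimp only at hc hd
  rw [Amp73.res_self] at hc hd
  have h1 : d * c = 1 := by
    refine (he V le_rfl).1 ?_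
    dsimp only
    rw [Amp73.res_self, mul_smul, hc, hd, one_smul]
  exact ⟨⟨c, d, mul_comm d c ▸ h1, h1⟩, hc⟩

theorem isFrame_unit_smul {M : (P).Modules} {V : Scheme.Opens P} {e : Γ(M, V)} (he : IsFrame M V e)
    (c : Γ(P, V)ˣ) : IsFrame M V ((c : Γ(P, V)) • e) := fun W hW => by
  have hw : IsUnit ((P).presheaf.map (homOfLE hW).op (c : Γ(P, V))) := c.isUnit.map _
  refine (congrArg Function.Bijective (funext fun a => ?_)).mp ((he W hW).comp hw.unit.mulRight.bijective)
  show (a * _) • _ = a • res M hW ((c : Γ(P, V)) • e)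
  rw [res_smul, mul_smul]
  rfl

theorem exists_iso_twist (M : (P).Modules) (hM : PicF.IsInvertible M) :
    ∃ d : ℤ, Nonempty (M ≅ Twist.twistProjSpace n k d) := by
  classical
  choose e₀ he₀ using exists_frame M hM
  have h : ∀ i : Fin (n + 1), ∃ (e : Γ(M, U k n i)) (_ : IsFrame M (U k n i) e) (a : ℤ),
      ((quot i 0 (inf_le_left : U k n i ⊓ U k n 0 ≤ U k n i) inf_le_right ^ a : Γ(P, U k n i ⊓ U k n 0)ˣ) : Γ(P, U k n i ⊓ U k n 0)) •
          res M inf_le_right (e₀ 0) = res M inf_le_left e := by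
    intro i
    by_cases hi : i = 0
    · subst hi
      exact ⟨e₀ 0, he₀ 0, 0, by rw [zpow_zero, Units.val_one, one_smul]⟩
    obtain ⟨c, hc⟩ := exists_unit_coeff ((he₀ 0).res (inf_le_right : U k n i ⊓ U k n 0 ≤ U k n 0))
      ((he₀ i).res (inf_le_left : U k n i ⊓ U k n 0 ≤ U k n i))
    obtain ⟨κ', a, hκ⟩ := exists_eq_quot_zpow i 0 hi (c : Γ(P, _)) c.isUnit
    let κ := scUnit (n := n) i κ'
    refine ⟨((κ⁻¹ : Γ(P, U k n i)ˣ) : Γ(P, U k n i)) • e₀ i, isFrame_unit_smul (he₀ i) κ⁻¹, a, ?_⟩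
    rw [res_smul, ← hc, smul_smul, hκ, ← mul_assoc, ← map_mul, Units.inv_mul, map_one, one_mul]
  choose e he a ha using h
  have key : ∀ i j : Fin (n + 1), i ≠ 0 → j ≠ 0 → a i = a j := by
    intro i j hi hj
    let W := U k n i ⊓ U k n j ⊓ U k n 0
    obtain ⟨c, hc⟩ := exists_unit_coeff ((he j).res (inf_le_right : U k n i ⊓ U k n j ≤ U k n j))
      ((he i).res (inf_le_left : U k n i ⊓ U k n j ≤ U k n i))
    have hA := congrArg (res M (inf_le_inf inf_le_left le_rfl : W ≤ U k n i ⊓ U k n 0)) (ha i)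
    have hB := congrArg (res M (inf_le_inf inf_le_right le_rfl : W ≤ U k n j ⊓ U k n 0)) (ha j)
    have hC := congrArg (res M (inf_le_left : W ≤ U k n i ⊓ U k n j)) hc
    simp only [res_smul, res_res] at hA hB hC
    rw [← hA, ← hB, smul_smul] at hC
    have h4 := (he₀ 0 W inf_le_right).1 hC
    let w : Γ(P, U k n i ⊓ U k n j)ˣ := c * (quot i j inf_le_left inf_le_right ^ a j)⁻¹
    refine sub_eq_zero.mp (exponent_eq_zero (Ne.symm hi) (Ne.symm hj) (a i - a j) w (Units.ext (ext_valHom fun x => ?_)))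
    have h5 := congrArg (valHom x) h4
    have hinv : valHom x ((P).presheaf.map (homOfLE (inf_le_left : W ≤ U k n i ⊓ U k n j)).op
        (((quot i j inf_le_left inf_le_right ^ a j)⁻¹ : Γ(P, U k n i ⊓ U k n j)ˣ) : Γ(P, _))) =
        (((xUnit x.1 i x.2.1.1 * (xUnit x.1 j x.2.1.2)⁻¹) ^ (-(a j)) : Units _) : Localization _) := by
      rw [← zpow_neg, valHom_res, valHom_quot_zpow]
    simp only [map_mul, valHom_res, valHom_quot_zpow] at h5
    simp only [w, Units.coe_map, Units.val_mul]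
    show valHom x ((P).presheaf.map _ ((c : Γ(P, U k n i ⊓ U k n j)) * _)) = _
    rw [map_mul, map_mul, hinv, valHom_quot_zpow, valHom_res]
    rw [← Units.eq_mul_inv_iff_mul_eq] at h5
    rw [h5, ← Units.val_mul, ← Units.val_mul]
    congr 1
    apply Additive.ofMul.injective
    simp only [ofMul_mul, ofMul_inv, ofMul_zpow]
    module
  obtain ⟨A, hA⟩ : ∃ A : ℤ, ∀ i, i ≠ 0 → a i = A := by
    by_cases hn : ∃ i : Fin (n + 1), i ≠ 0
    · obtain ⟨i, hi⟩ := hn
      exact ⟨a i, fun j hj => key j i hj hi⟩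
    · exact ⟨0, fun i hi => absurd ⟨i, hi⟩ hn⟩
  have hA' : ∀ i, ((quot i 0 (inf_le_left : U k n i ⊓ U k n 0 ≤ U k n i) inf_le_right ^ A : Γ(P, U k n i ⊓ U k n 0)ˣ) : Γ(P, U k n i ⊓ U k n 0)) •
      res M inf_le_right (e₀ 0) = res M inf_le_left (e i) := by
    intro i
    by_cases hi : i = 0
    · subst hi
      have h1 : quot (k := k) (0 : Fin (n + 1)) 0 (inf_le_left : U k n 0 ⊓ U k n 0 ≤ U k n 0) inf_le_right = 1 :=
        Units.ext (by show (P).presheaf.map _ (coord k n 0 0) = 1; rw [coord_self, map_one])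
      have h2 := ha 0
      rw [h1, one_zpow] at h2
      rwa [h1, one_zpow]
    · rw [← hA i hi]; exact ha i
  refine ⟨A, Curves2.Glue.nonempty_iso_of_frames (U k n) (fun x => Approx60.ProjCharts.exists_mem_U k n x) e
    (fun i => (Var76.Reg.gUnit (X₁ k n i) A).fwd) he (fun i => Var76.Reg.isFrame_unit _) fun i j c hc => ?_⟩
  let W := U k n i ⊓ U k n j ⊓ U k n 0
  obtain ⟨(d : Γ(P, U k n i ⊓ U k n j)), hd⟩ := (Var76.Reg.isFrame_unit (Var76.Reg.gUnit (X₁ k n j) A) (U k n i ⊓ U k n j) inf_le_right).2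
    (res (Twist.twistProjSpace n k A) inf_le_left (Var76.Reg.gUnit (X₁ k n i) A).fwd)
  dsimp only at hd
  refine Eq.trans (congrArg (· • _) ?_) hd
  have hne : Nonempty W := ⟨⟨Csa25.genericPt,
    ⟨Csa25.genericPt_mem (MvPolynomial.X_ne_zero i), Csa25.genericPt_mem (MvPolynomial.X_ne_zero j)⟩,
    Csa25.genericPt_mem (MvPolynomial.X_ne_zero _)⟩⟩
  refine res_injective (inf_le_left : W ≤ U k n i ⊓ U k n j) hne ?_
  have hAi := congrArg (res M (inf_le_inf inf_le_left le_rfl : W ≤ U k n i ⊓ U k n 0)) (hA' i)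
  have hBj := congrArg (res M (inf_le_inf inf_le_right le_rfl : W ≤ U k n j ⊓ U k n 0)) (hA' j)
  have hC := congrArg (res M (inf_le_left : W ≤ U k n i ⊓ U k n j)) hc
  simp only [res_smul, res_res] at hAi hBj hC
  rw [← hAi, ← hBj, smul_smul] at hC
  have h4 := (he₀ 0 W inf_le_right).1 hC
  have hT := congrArg (res (Twist.twistProjSpace n k A) (inf_le_left : W ≤ U k n i ⊓ U k n j)) hd
  replace hT : (P).presheaf.map (homOfLE (inf_le_left : W ≤ U k n i ⊓ U k n j)).op d •
      res (Twist.twistProjSpace n k A) (inf_le_left.trans inf_le_right : W ≤ U k n j) (Var76.Reg.gUnit (X₁ k n j) A).fwd =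
      res (Twist.twistProjSpace n k A) (inf_le_left.trans inf_le_left : W ≤ U k n i) (Var76.Reg.gUnit (X₁ k n i) A).fwd :=
    (congrArg (_ • ·) (res_res _ _ _ _).symm).trans ((res_smul _ _ _ _).symm.trans (hT.trans (res_res _ _ _ _)))
  rw [← quot_zpow_smul_frame i j (inf_le_left.trans inf_le_left) (inf_le_left.trans inf_le_right) A] at hT
  refine Eq.trans ?_ ((Var76.Reg.isFrame_unit (Var76.Reg.gUnit (X₁ k n j) A) W (inf_le_left.trans inf_le_right)).1 hT).symm
  refine ext_valHom fun x => ?_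
  have h5 := congrArg (valHom x) h4
  simp only [map_mul, valHom_res, valHom_quot_zpow] at h5
  rw [← Units.eq_mul_inv_iff_mul_eq] at h5
  rw [valHom_res, valHom_quot_zpow, h5, ← Units.val_mul]
  congr 1
  apply Additive.ofMul.injective
  simp only [ofMul_mul, ofMul_inv, ofMul_zpow]
  module

set_option maxHeartbeats 1600000 in
/-- An invertible function on a standard open is constant on its overlaps. -/
theorem unit_const {i l : Fin (n + 1)} (h : l ≠ i) (c : Γ(P, U k n i)ˣ) :
    ∃ v : kˣ, ∀ (x : P) (hi : x ∈ U k n i) (_hl : x ∈ U k n l),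
      valHom (⟨x, hi⟩ : U k n i) (c : Γ(P, U k n i)) = Localization.mk (MvPolynomial.C (v : k)) 1 := by
  obtain ⟨v, a, hv⟩ := exists_eq_quot_zpow l i h
    ((P).presheaf.map (homOfLE (inf_le_right : U k n l ⊓ U k n i ≤ U k n i)).op (c : Γ(P, U k n i))) (c.isUnit.map _)
  let w : Γ(P, U k n i ⊓ U k n i)ˣ :=
    Units.map ((P).presheaf.map (homOfLE (inf_le_left : U k n i ⊓ U k n i ≤ U k n i)).op).hom.toMonoidHom
      (c * (scUnit i v)⁻¹)
  have key : ∀ (x : P) (hi : x ∈ U k n i) (hl : x ∈ U k n l),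
      valHom (⟨x, hi⟩ : U k n i) (c : Γ(P, U k n i)) = Localization.mk (MvPolynomial.C (v : k)) 1 *
        (((xUnit x l hl * (xUnit x i hi)⁻¹) ^ a : Units _) : Localization _) := fun x hi hl => by
    have := congrArg (valHom (⟨x, hl, hi⟩ : (U k n l ⊓ U k n i : Scheme.Opens P))) hv
    rwa [map_mul, valHom_res, valHom_res, valHom_scUnit, valHom_quot_zpow] at this
  have ha : a = 0 := by
    refine neg_eq_zero.mp (exponent_eq_zero h h (-a) w (Units.ext (ext_valHom fun x => ?_)))
    rw [valHom_quot_zpow, zpow_neg, ← inv_zpow, mul_inv_rev, inv_inv]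
    simp only [w, Units.coe_map]
    show valHom x ((P).presheaf.map _ ((P).presheaf.map _ ((c : Γ(P, U k n i)) * _))) = _
    rw [valHom_res, valHom_res, map_mul, key x.1 x.2.1.1 x.2.2]
    rw [show (((scUnit i v)⁻¹ : Γ(P, U k n i)ˣ) : Γ(P, U k n i)) = sc i ((v⁻¹ : kˣ) : k) from rfl, valHom_sc,
      mul_right_comm, Localization.mk_mul, ← map_mul, Units.mul_inv, map_one, mul_one,
      Localization.mk_one, one_mul]
  refine ⟨v, fun x hi hl => ?_⟩
  rw [key x hi hl, ha, zpow_zero, Units.val_one, mul_one]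

/-- The frame `x_l ^ a` of `O(a)`. -/
def frm (a : ℤ) (l : Fin (n + 1)) : Γ(Twist.twistProjSpace n k a, U k n l) := (Var76.Reg.gUnit (X₁ k n l) a).fwd

theorem isFrame_frm (a : ℤ) (l : Fin (n + 1)) : IsFrame (Twist.twistProjSpace n k a) (U k n l) (frm a l) :=
  Var76.Reg.isFrame_unit _

theorem quot_zpow_smul_frm (i j : Fin (n + 1)) {V : Scheme.Opens P} (hi : V ≤ U k n i) (hj : V ≤ U k n j)
    (a : ℤ) :
    ((quot i j hi hj ^ a : Γ(P, V)ˣ) : Γ(P, V)) • res (Twist.twistProjSpace n k a) hj (frm a j) =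
      res (Twist.twistProjSpace n k a) hi (frm a i) :=
  quot_zpow_smul_frame i j hi hj a

set_option maxHeartbeats 1600000 in
set_option synthInstance.maxHeartbeats 400000 in
theorem eq_of_iso_twist (hn : 1 ≤ n) {d e : ℤ}
    (φ : Twist.twistProjSpace n k d ≅ Twist.twistProjSpace n k e) : d = e := by
  obtain ⟨i, hi⟩ : ∃ i : Fin (n + 1), i ≠ 0 := ⟨⟨1, by omega⟩, fun h => by simp [Fin.ext_iff] at h⟩
  have hfr : ∀ l, ∃ c : Γ(P, U k n l)ˣ, (c : Γ(P, U k n l)) • frm e l =
      φ.hom.app (U k n l) (frm d l) := fun l =>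
    exists_unit_coeff (isFrame_frm e l) ((Amp73.isFrame_app_iff φ.hom _).2 (isFrame_frm d l))
  choose c hc using hfr
  obtain ⟨v, hv⟩ := unit_const hi (c 0)
  obtain ⟨v', hv'⟩ := unit_const hi.symm (c i)
  let V := U k n i ⊓ U k n 0
  have h1 := congrArg (φ.hom.app V) (quot_zpow_smul_frm (k := k) i 0 (inf_le_left : V ≤ U k n i) inf_le_right d)
  simp only [Scheme.Modules.Hom.app_smul, Mero90.app_res, ← hc] at h1
  simp only [res_smul] at h1
  rw [← quot_zpow_smul_frm (k := k) i 0 (inf_le_left : V ≤ U k n i) inf_le_right e, smul_smul, smul_smul] at h1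
  have h2 := (isFrame_frm e 0 V inf_le_right).1 h1
  let w : Γ(P, U k n i ⊓ U k n i)ˣ :=
    Units.map ((P).presheaf.map (homOfLE (inf_le_left : U k n i ⊓ U k n i ≤ U k n i)).op).hom.toMonoidHom
      (scUnit i (v' * v⁻¹))
  refine sub_eq_zero.mp (exponent_eq_zero hi.symm hi.symm (d - e) w (Units.ext (ext_valHom fun x => ?_)))
  have h3 := congrArg (valHom (⟨x.1, x.2.1.1, x.2.2⟩ : V)) h2
  simp only [map_mul, valHom_res, valHom_quot_zpow, hv x.1 x.2.2 x.2.1.1, hv' x.1 x.2.1.1 x.2.2] at h3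
  show valHom x ((P).presheaf.map _ ((P).presheaf.map _ (sc i ((v' * v⁻¹ : kˣ) : k)))) = _
  rw [valHom_res, valHom_res, valHom_sc, valHom_quot_zpow, zpow_sub, Units.val_mul (_ ^ d),
    Units.eq_mul_inv_iff_mul_eq]
  have hC : Localization.mk (MvPolynomial.C ((v' * v⁻¹ : kˣ) : k)) (1 : x.1.asHomogeneousIdeal.toIdeal.primeCompl) =
      Localization.mk (MvPolynomial.C (v' : k)) 1 * Localization.mk (MvPolynomial.C ((v⁻¹ : kˣ) : k)) 1 := by
    rw [Localization.mk_mul, ← map_mul, mul_one, Units.val_mul]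
  rw [hC, mul_right_comm, ← h3, mul_assoc, Localization.mk_mul, ← map_mul, Units.mul_inv, map_one, mul_one,
    Localization.mk_one, mul_one]

end Groth.Agent.ASB64.PicProj

end
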