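import Groth.Agent.Brauer24.ExtPower
import Groth.Agent.Csa25.Index
import Mathlib.Data.Nat.Choose.Lucas
import Mathlib.Data.Nat.Factors

/-! Powers of a class with equal period and index. -/

set_option autoImplicit false
universe u

open scoped TensorProduct Groth.Agent.Csa25
open Module

namespace Groth.Agent.ASB64

open Csa25

variable {k : Type u} [Field k] {A : Type u} [Ring A] [Algebra k A] [Algebra.IsCentral k A] [IsSimpleRing A]
  [FiniteDimensional k A]

theorem not_prime_dvd_choose_pred {q N : ℕ} (hq : q.Prime) (hN : q ∣ N) (hN0 : 0 < N) :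
    ¬ q ∣ (N - 1).choose (q - 1) := by
  haveI : Fact q.Prime := ⟨hq⟩
  obtain ⟨t, rfl⟩ := hN
  obtain ⟨s, rfl⟩ : ∃ s, t = s + 1 := ⟨t - 1, by rcases t with _ | t <;> simp_all⟩
  have h1 : q * (s + 1) - 1 = (q - 1) + q * s := by
    have := hq.pos
    rw [Nat.mul_succ]; omega
  have hlt : q - 1 < q := Nat.sub_lt hq.pos one_pos
  have hmod : (q * (s + 1) - 1) % q = q - 1 := by rw [h1, Nat.add_mul_mod_self_left, Nat.mod_eq_of_lt hlt]
  have h := Choose.choose_modEq_choose_mod_mul_choose_div_nat (p := q) (n := q * (s + 1) - 1) (k := q - 1)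
  rw [hmod, Nat.mod_eq_of_lt hlt, Nat.div_eq_of_lt hlt, Nat.choose_self, Nat.choose_zero_right, mul_one] at h
  intro hd
  have h0 : (1 : ℕ) ≡ 0 [MOD q] := h.symm.trans (Nat.modEq_zero_iff_dvd.mpr hd)
  exact hq.not_dvd_one (Nat.modEq_zero_iff_dvd.mp h0)

/-- One prime step. -/
theorem isIndex_pow_prime {N q : ℕ} (hq : q.Prime) (hqN : q ∣ N) (hd : CSAGal.IsIndex k A N)
    (hord : orderOf (cl k A) = N) :
    CSAGal.IsIndex k (CSAGal.tpow k A q) (N / q) ∧ orderOf (cl k A ^ q) = N / q := by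
  obtain ⟨_, _, _, -, -⟩ := pi_tensor_csa (k := k) (Fin q) fun _ => A
  have ho : orderOf (cl k A ^ q) = N / q := by
    rw [orderOf_pow_of_dvd hq.ne_zero (hord ▸ hqN), hord]
  obtain ⟨t, ht⟩ := exists_isIndex (k := k) (CSAGal.tpow k A q)
  have h1 : N / q ∣ t := by
    have := orderOf_dvd_index ht
    rwa [cl_tpow, ho] at this
  have h2 : t ∣ N := isIndex_dvd_of_mem_zpowers (A := A) (B := CSAGal.tpow k A q)
    (by rw [cl_tpow]; exact ⟨(q : ℤ), zpow_natCast _ _⟩) hd ht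
  obtain ⟨hN0, m, D, _, _, _, _, _, hD, ⟨iso⟩⟩ := isIndex_data hd
  obtain ⟨-, m', D', _, _, _, _, _, hD', ⟨iso'⟩⟩ := isIndex_data ht
  have h3 : t ∣ N.choose q := Brauer24.index_tpow_dvd_choose iso (hD.trans (pow_two N).symm) q iso'
    (hD'.trans (pow_two t).symm)
  have h4 : N.choose q = (N / q) * (N - 1).choose (q - 1) := by
    obtain ⟨N', rfl⟩ : ∃ N', N = N' + 1 := ⟨N - 1, by omega⟩
    obtain ⟨q', rfl⟩ : ∃ q', q = q' + 1 := ⟨q - 1, by have := hq.pos; omega⟩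
    refine Nat.eq_of_mul_eq_mul_right q'.succ_pos ?_
    rw [Nat.mul_right_comm, Nat.div_mul_cancel hqN]
    exact (Nat.add_one_mul_choose_eq N' q').symm
  have h5 : t ∣ N / q := by
    have hg : t ∣ Nat.gcd ((N / q) * q) ((N / q) * (N - 1).choose (q - 1)) :=
      Nat.dvd_gcd (by rwa [Nat.div_mul_cancel hqN]) (h4 ▸ h3)
    rwa [Nat.gcd_mul_left, Nat.Coprime.gcd_eq_one
      (hq.coprime_iff_not_dvd.mpr (not_prime_dvd_choose_pred hq hqN hN0)), mul_one] at hg
  rw [Nat.dvd_antisymm h1 h5]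
  exact ⟨ht, ho.trans (Nat.dvd_antisymm h1 h5)⟩

/-- If period and index agree, so they do for the powers by divisors. -/
theorem isIndex_pow_of_dvd {N : ℕ} (hd : CSAGal.IsIndex k A N) (hord : orderOf (cl k A) = N) (g : ℕ)
    (hg : g ∣ N) : CSAGal.IsIndex k (CSAGal.tpow k A g) (N / g) ∧ orderOf (cl k A ^ g) = N / g := by
  induction g using Nat.strong_induction_on with
  | _ g ih =>
    obtain ⟨_, _, _, -, -⟩ := pi_tensor_csa (k := k) (Fin g) fun _ => A
    rcases eq_or_ne g 1 with rfl | hg1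
    · rw [Nat.div_one, pow_one]
      exact ⟨isIndex_of_cl_eq (by rw [cl_tpow, pow_one]) hd, hord⟩
    obtain ⟨q, hq, hqg⟩ := Nat.exists_prime_and_dvd hg1
    obtain ⟨c, rfl⟩ := hqg
    have hg0 : q * c ≠ 0 := fun h0 => by
      rw [h0, zero_dvd_iff] at hg
      exact hd.1.ne' hg
    have hcN : c ∣ N := (dvd_mul_left c q).trans hg
    obtain ⟨h1, h2⟩ := ih c (lt_mul_of_one_lt_left (Nat.pos_of_ne_zero fun h0 => hg0 (by rw [h0, mul_zero])) hq.one_lt) hcN
    obtain ⟨_, _, _, -, -⟩ := pi_tensor_csa (k := k) (Fin c) fun _ => A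
    obtain ⟨_, _, _, -, -⟩ := pi_tensor_csa (k := k) (Fin q) fun _ => CSAGal.tpow k A c
    have hqd : q ∣ N / c := by
      rw [mul_comm] at hg
      exact Nat.dvd_div_of_mul_dvd hg
    obtain ⟨h3, h4⟩ := isIndex_pow_prime hq hqd h1 (by rw [cl_tpow, h2])
    rw [cl_tpow, ← pow_mul, mul_comm c q, Nat.div_div_eq_div_mul, mul_comm c q] at h4
    rw [Nat.div_div_eq_div_mul, mul_comm c q] at h3
    exact ⟨isIndex_of_cl_eq (by rw [cl_tpow, cl_tpow, cl_tpow, ← pow_mul, mul_comm c q]) h3, h4⟩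

end Groth.Agent.ASB64
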