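import Groth.Agent.ASB64.Compare
import Groth.Agent.ASB64.PeriodIndex

/-! Rules for the multiplicities. -/

set_option autoImplicit false
set_option maxSynthPendingDepth 6
set_option synthInstance.maxHeartbeats 200000
set_option backward.isDefEq.respectTransparency.types false
universe u

open CategoryTheory CategoryTheory.Limits AlgebraicGeometry
open scoped TensorProduct Groth.Agent.Csa25

noncomputable section

namespace Groth.Agent.ASB64

variable {k : Type u} [Field k] {X : Scheme.{u}} [X.Over (Spec (CommRingCat.of k))]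
  [IsProper (X ↘ Spec (CommRingCat.of k))] {K : Type u} [Field K] [Algebra k K] [IsAlgClosure k K]
  {r : ℕ} {M : X.Modules} {n : ℕ} (e : BrSev.Splitting (X ↘ Spec (CommRingCat.of k)) K n)
  {A : Type u} [Ring A] [Algebra k A] [Algebra.IsCentral k A] [IsSimpleRing A] [FiniteDimensional k A]

theorem eq_div_gcd (hA : Module.finrank k A = (n + 1) * (n + 1))
    (hX : BrSev.IsSBOf k A ((n + 1) * (n + 1) - (n + 1)) (X ↘ Spec (CommRingCat.of k)))
    {p : ℕ} (hd : CSAGal.IsIndex k A p) (hord : orderOf (Csa25.cl k A) = p)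
    {j : ℤ} (hM : FlatMod.IsFinLocFree M) (hi : KSchm95.Indec M) (hr : 0 < r) (ht : BrSev.IsTwPow e j r M) :
    r = p / Nat.gcd p j.natAbs := by
  haveI : IsAlgClosed K := IsAlgClosure.isAlgClosed k
  have hΓ : Function.Bijective (Coh.toGlobal (FF71.bc k X K ↘ Spec (CommRingCat.of K))) :=
    bijective_toGlobal_of_splitting e
  obtain ⟨_, _, _, -, -⟩ := Csa25.pi_tensor_csa (k := k) (Fin (Nat.gcd p j.natAbs)) fun _ => A
  refine Csa25.isIndex_unique (isIndex_of_zpowers_eq hΓ (typed_of_isTwPow e hM ht) hi ?_)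
    (isIndex_pow_of_dvd hd hord _ (Nat.gcd_dvd_left _ _)).1
  rw [zpowers_endCl e hA hX hM hr ht, Csa25.cl_tpow, zpowers_zpow_eq_gcd (Csa25.cl k A) j, hord]
  rw [zpow_natCast]
  congr 2

/-- In prime degree period and index are the degree or the algebra is split. -/
theorem index_eq_prime {q : ℕ} (hq : q.Prime) (hA : Module.finrank k A = q * q) (hns : ¬ Curves.Splits k A k) :
    CSAGal.IsIndex k A q ∧ orderOf (Csa25.cl k A) = q := by
  obtain ⟨d, hd⟩ := Csa25.exists_isIndex (k := k) A
  obtain ⟨-, m, D, _, _, _, _, _, hD, ⟨iso⟩⟩ := Csa25.isIndex_data hd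
  have hmd : q * q = (m * d) * (m * d) := by
    rw [← hA, iso.toLinearEquiv.finrank_eq, Module.finrank_matrix, hD]
    simp only [Fintype.card_fin]; ring
  have hdq : d ∣ q := ⟨m, by rw [Nat.mul_self_inj.mp hmd, mul_comm]⟩
  have hd1 : d ≠ 1 := fun h1 => hns (Csa25.splits_iff_isIndex_one.mpr (h1 ▸ hd))
  obtain rfl := ((Nat.dvd_prime hq).mp hdq).resolve_left hd1
  refine ⟨hd, ((Nat.dvd_prime hq).mp (Csa25.orderOf_dvd_index hd)).resolve_left fun h1 => hns ?_⟩
  exact Csa25.splits_iff_cl_eq_one.mpr (orderOf_eq_one_iff.mp h1)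

end Groth.Agent.ASB64

end
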