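import Groth.Agent.ASB64.TwistType
import Groth.Agent.ASB64.PicProj
import Groth.Agent.ASB64.Rules

/-! Indecomposable modules of every twisting type; absolutely split modules. -/

set_option autoImplicit false
set_option maxSynthPendingDepth 6
set_option linter.style.haveILetI false
set_option backward.isDefEq.respectTransparency.types false
universe u

open CategoryTheory CategoryTheory.Limits AlgebraicGeometry

noncomputable section

namespace Groth.Agent.ASB64

variable {k : Type u} [Field k] {X : Scheme.{u}} {f : X ⟶ Spec (CommRingCat.of k)} {n : ℕ}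
  {K : Type u} [Field K] [Algebra k K]

/-- Invertible modules on a split variety are twists. -/
theorem exists_iso_twist' (e : BrSev.Splitting f K n) {N : (BrSev.bc f K).Modules} (hN : PicF.IsInvertible N) :
    ∃ j : ℤ, Nonempty (N ≅ e.twist j) := by
  obtain ⟨d, ⟨φ⟩⟩ := PicProj.exists_iso_twist _ (Amp73.isInvertible_pullback e.iso.inv hN)
  exact ⟨d, ⟨(Scheme.Modules.pullbackId _).symm.app N ≪≫
    (Scheme.Modules.pullbackCongr e.iso.hom_inv_id.symm).app N ≪≫
    ((Scheme.Modules.pullbackComp e.iso.hom e.iso.inv).app N).symm ≪≫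
    (Scheme.Modules.pullback e.iso.hom).mapIso φ⟩⟩

/-- Twists are indecomposable. -/
theorem indec_twist [IsProper f] [IsAlgClosed K] (e : BrSev.Splitting f K n) (j : ℤ) : KSchm95.Indec (e.twist j) := by
  letI : X.Over (Spec (CommRingCat.of k)) := ⟨f⟩
  haveI : IsProper (X ↘ Spec (CommRingCat.of k)) := ‹IsProper f›
  have hΓ : Function.Bijective (Coh.toGlobal (FF71.bc k X K ↘ Spec (CommRingCat.of K))) :=
    bijective_toGlobal_of_splitting e
  let L : (FF71.bc k X K).Modules := e.twist j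
  have hL : PicF.IsInvertible L := isInvertible_twist' e j
  have h : KSchm95.Indec L := indec_of_scalar (bijective_smul_id hΓ hL)
  exact h

variable [IsProper f] [IsAlgClosure k K]

/-- A finite Galois splitting field gives an indecomposable module of each type. -/
theorem exists_indec_twPow_of_galois {K₀ : Type u} [Field K₀] [Algebra k K₀] [FiniteDimensional k K₀]
    [IsGalois k K₀] (e₀ : BrSev.Splitting f K₀ n) (e : BrSev.Splitting f K n) (j : ℤ) :
    ∃ (W : X.Modules) (r : ℕ), FlatMod.IsFinLocFree W ∧ KSchm95.Indec W ∧ 0 < r ∧ BrSev.IsTwPow e j r W := by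
  obtain ⟨r, M, hr, hM, hMt⟩ := exists_twPow_galois e₀ j
  haveI : IsAlgClosed K := IsAlgClosure.isAlgClosed k
  haveI : Algebra.IsAlgebraic k K := IsAlgClosure.isAlgebraic
  let i : K₀ →ₐ[k] K := IsAlgClosed.lift
  letI : Algebra K₀ K := i.toRingHom.toAlgebra
  haveI : IsScalarTower k K₀ K := IsScalarTower.of_algebraMap_eq fun x => (i.commutes x).symm
  letI : X.Over (Spec (CommRingCat.of k)) := ⟨f⟩
  haveI : IsProper (X ↘ Spec (CommRingCat.of k)) := ‹IsProper f›
  have h : Typed K (e.twist j : (FF71.bc k X K).Modules) r M :=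
    ⟨hM, isTwPow_extend e₀ hMt e, isInvertible_twist' e j⟩
  obtain ⟨G, t, hG, ht, hGt⟩ := exists_indec_typed (bijective_toGlobal_of_splitting e) h hr
  exact ⟨G, t, hGt.isFinLocFree, hG, ht, hGt.iso⟩

/-- On a Severi-Brauer variety every twist is the type of an indecomposable module. -/
theorem exists_indec_twPow {A : Type u} [Ring A] [Algebra k A] [Algebra.IsCentral k A] [IsSimpleRing A]
    (hA : Module.finrank k A = (n + 1) * (n + 1))
    (hX : BrSev.IsSBOf k A ((n + 1) * (n + 1) - (n + 1)) f) (e : BrSev.Splitting f K n) (j : ℤ) :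
    ∃ (W : X.Modules) (r : ℕ), FlatMod.IsFinLocFree W ∧ KSchm95.Indec W ∧ 0 < r ∧ BrSev.IsTwPow e j r W := by
  obtain ⟨K₀, _, _, _, _, ⟨e₀⟩⟩ := Groth.Agent.S14209.result k A (n + 1) n.succ_pos hA f hX
  exact exists_indec_twPow_of_galois e₀ e j

/-- An indecomposable absolutely split module is isotypical. -/
theorem indec_absSplit {A : Type u} [Ring A] [Algebra k A] [Algebra.IsCentral k A] [IsSimpleRing A]
    (hA : Module.finrank k A = (n + 1) * (n + 1))
    (hX : BrSev.IsSBOf k A ((n + 1) * (n + 1) - (n + 1)) f) (e : BrSev.Splitting f K n)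
    (E : X.Modules) (hE : Coh.IsCoh E) (hEi : KSchm95.Indec E)
    (s : ℕ) (Ls : Fin s → (BrSev.bc f K).Modules) (hLs : ∀ i, PicF.IsInvertible (Ls i))
    (hsplit : Nonempty (BrSev.bcMod f K E ≅ ∐ Ls)) : ∃ (j : ℤ) (r : ℕ), 0 < r ∧ BrSev.IsTwPow e j r E := by
  obtain ⟨u⟩ := hsplit
  haveI : HasFiniteBiproducts (BrSev.bc f K).Modules := HasFiniteBiproducts.of_hasFiniteProducts
  have hs : 0 < s := by
    by_contra hs
    have hs0 : s = 0 := by omega
    subst hs0
    letI : X.Over (Spec (CommRingCat.of k)) := ⟨f⟩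
    haveI : IsProper (X ↘ Spec (CommRingCat.of k)) := ‹IsProper f›
    haveI : IsAlgClosed K := IsAlgClosure.isAlgClosed k
    have h0 : Typed K (e.twist 0 : (FF71.bc k X K).Modules) 0 E :=
      ⟨hE, ⟨u ≪≫ Limits.Sigma.mapIso fun a => a.elim0⟩, isInvertible_twist' e 0⟩
    exact absurd (h0.pos (bijective_toGlobal_of_splitting e) hEi) (lt_irrefl 0)
  obtain ⟨j, ⟨t⟩⟩ := exists_iso_twist' e (hLs ⟨0, hs⟩)
  obtain ⟨W, r, hW, hWi, hr, ⟨w⟩⟩ := exists_indec_twPow hA hX e j
  let w' : BrSev.bcMod f K W ≅ BrSev.pow (Ls ⟨0, hs⟩) r := w ≪≫ Limits.Sigma.mapIso fun _ => t.symm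
  let v : BrSev.bcMod f K E ≅ ⨁ Ls := u ≪≫ (biproduct.isoCoproduct Ls).symm
  obtain ⟨g⟩ := nonempty_iso_of_retract f K
    ⟨Props58.LocFree.isQuasicoherent_of_isFinLocFree hW, Props58.LocFree.isFiniteType_of_isFinLocFree hW⟩
    hE hWi hEi w' (biproduct.ι Ls ⟨0, hs⟩ ≫ v.inv) (v.hom ≫ biproduct.π Ls ⟨0, hs⟩) (by simp)
  exact ⟨j, r, hr, ⟨(Scheme.Modules.pullback _).mapIso g ≪≫ w⟩⟩

/-- Absolutely split modules are sums of indecomposable isotypical ones. -/
theorem absSplit_decomp {A : Type u} [Ring A] [Algebra k A] [Algebra.IsCentral k A] [IsSimpleRing A]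
    (hA : Module.finrank k A = (n + 1) * (n + 1))
    (hX : BrSev.IsSBOf k A ((n + 1) * (n + 1) - (n + 1)) f) (e : BrSev.Splitting f K n)
    (E : X.Modules) (hE : FlatMod.IsFinLocFree E)
    (s : ℕ) (Ls : Fin s → (BrSev.bc f K).Modules) (hLs : ∀ i, PicF.IsInvertible (Ls i))
    (hsplit : Nonempty (BrSev.bcMod f K E ≅ ∐ Ls)) :
    ∃ (t : ℕ) (Ms : Fin t → X.Modules) (js : Fin t → ℤ) (rs : Fin t → ℕ),
      (∀ i, FlatMod.IsFinLocFree (Ms i) ∧ KSchm95.Indec (Ms i) ∧ 0 < rs i ∧ BrSev.IsTwPow e (js i) (rs i) (Ms i)) ∧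
      Nonempty (E ≅ ∐ Ms) := by
  letI : X.Over (Spec (CommRingCat.of k)) := ⟨f⟩
  haveI : IsProper (X ↘ Spec (CommRingCat.of k)) := ‹IsProper f›
  haveI : IsLocallyNoetherian X := LocallyOfFiniteType.isLocallyNoetherian (X ↘ Spec (CommRingCat.of k))
  haveI : IsAlgClosed K := IsAlgClosure.isAlgClosed k
  haveI : HasFiniteBiproducts X.Modules := HasFiniteBiproducts.of_hasFiniteProducts
  haveI : HasFiniteBiproducts (BrSev.bc f K).Modules := HasFiniteBiproducts.of_hasFiniteProducts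
  have hcE : Coh.IsCoh E := ⟨Props58.LocFree.isQuasicoherent_of_isFinLocFree hE,
    Props58.LocFree.isFiniteType_of_isFinLocFree hE⟩
  haveI := KSchm95.isArtinianRing_end (k := k) E hcE
  haveI := hcE.1; haveI := hcE.2
  let F : (FF71.bc k X K).Modules := BrSev.bcMod f K E
  haveI : IsArtinianRing (End (BrSev.bcMod f K E)) := KSchm95.isArtinianRing_end (k := K) F
    ⟨QCPull72.isQuasicoherent_pullback _ E, QCPull72.isFiniteType_pullback _ E⟩
  obtain ⟨u⟩ := hsplit
  obtain ⟨t, Ms, hMs, ⟨v⟩⟩ := KSchm95.exists_decomp E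
  let Φ := Scheme.Modules.pullback (BrSev.proj f K)
  have hLi : ∀ i, KSchm95.Indec (Ls i) := fun i => by
    have hΓ : Function.Bijective (Coh.toGlobal (FF71.bc k X K ↘ Spec (CommRingCat.of K))) :=
      bijective_toGlobal_of_splitting e
    let L : (FF71.bc k X K).Modules := Ls i
    have hL : PicF.IsInvertible L := hLs i
    have h : KSchm95.Indec L := indec_of_scalar (bijective_smul_id hΓ hL)
    exact h
  have key : ∀ i, ∃ (j : ℤ) (r : ℕ), FlatMod.IsFinLocFree (Ms i) ∧ 0 < r ∧ BrSev.IsTwPow e j r (Ms i) := by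
    intro i
    let a := biproduct.ι Ms i ≫ v.inv
    let b := v.hom ≫ biproduct.π Ms i
    have hab : a ≫ b = 𝟙 _ := by simp [a, b]
    have hf := isFinLocFree_of_retract a b hab hE
    obtain ⟨q, τ, ⟨w⟩⟩ := exists_subfamily Ls hLi (u ≪≫ (biproduct.isoCoproduct Ls).symm) (Φ.map a) (Φ.map b)
      ((Φ.map_comp a b).symm.trans ((congrArg Φ.map hab).trans (Φ.map_id _)))
    obtain ⟨j, r, hr, h⟩ := indec_absSplit hA hX e (Ms i) (KSchm95.isCoh_of_retract a b hab hcE) (hMs i) q
      (fun x => Ls (τ x)) (fun x => hLs (τ x)) ⟨w ≪≫ biproduct.isoCoproduct _⟩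
    exact ⟨j, r, hf, hr, h⟩
  choose js rs hf hr h using key
  exact ⟨t, Ms, js, rs, fun i => ⟨hf i, hMs i, hr i, h i⟩, ⟨v ≪≫ biproduct.isoCoproduct _⟩⟩

end Groth.Agent.ASB64
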