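import Groth.Agent.ASB64.Scalars
import Groth.Agent.KSchm95.Basic
import Groth.Agent.Crv77.Const

/-! An invertible module on a connected scheme is indecomposable. -/

set_option autoImplicit false
set_option backward.isDefEq.respectTransparency.types false
universe u

open CategoryTheory CategoryTheory.Limits AlgebraicGeometry Opposite TopologicalSpace

noncomputable section

namespace Groth.Agent.ASB64

theorem indec_of_isInvertible {Y : Scheme.{u}} [ConnectedSpace Y] {L : Y.Modules} (hL : PicF.IsInvertible L) :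
    KSchm95.Indec L := by
  have key : ∀ φ : L ⟶ L, φ ≫ φ = φ → φ = 0 ∨ φ = 𝟙 L := by
    intro φ hφ
    obtain ⟨r, rfl⟩ := exists_eq_smulModΓ hL φ
    have hr : IsIdempotentElem r := by
      rw [IsIdempotentElem, ← sub_eq_zero]
      refine eq_zero_of_smulModΓ_eq_zero hL ?_
      refine Scheme.Modules.hom_ext _ _ fun W => ?_
      ext m
      have h := congrArg (fun ψ : L ⟶ L => ψ.app W m) hφ
      simp only [Scheme.Modules.Hom.comp_app, CategoryTheory.comp_apply, KLin.smulModΓ_app_apply] at h
      rw [KLin.smulModΓ_app_apply, map_sub, map_mul, sub_smul, mul_smul, h, sub_self]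
      rfl
    rcases Crv77.eq_zero_or_one_of_isIdempotentElem hr with rfl | rfl
    · exact Or.inl (KLin.smulModΓ_zero L)
    · right
      refine Scheme.Modules.hom_ext _ _ fun W => ?_
      ext m
      rw [KLin.smulModΓ_app_apply, map_one, one_smul]
      rfl
  refine ⟨fun hz => ?_, fun P Q ⟨e⟩ => ?_⟩
  · obtain ⟨y⟩ := (inferInstance : Nonempty Y)
    obtain ⟨U, hy, s, hs⟩ := exists_frame_near hL y
    haveI : Nonempty U := ⟨⟨y, hy⟩⟩
    have h0 : s = 0 := congrArg (fun ψ : L ⟶ L => ψ.app U s) (hz.eq_of_src (𝟙 L) 0)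
    have h1 : (1 : Γ(Y, U)) = 0 := (hs U le_rfl).1 (by
      show (1 : Γ(Y, U)) • Var76.LineBundle.res L le_rfl s = (0 : Γ(Y, U)) • Var76.LineBundle.res L le_rfl s
      subst h0
      simp [Var76.LineBundle.res])
    exact one_ne_zero h1
  rcases key (e.hom ≫ biprod.fst ≫ biprod.inl ≫ e.inv) (by simp) with h | h
  · left
    rw [IsZero.iff_id_eq_zero]
    simpa using congrArg (fun φ => biprod.inl ≫ e.inv ≫ φ ≫ e.hom ≫ biprod.fst) h
  · right
    rw [IsZero.iff_id_eq_zero]
    simpa using (congrArg (fun φ => biprod.inr ≫ e.inv ≫ φ ≫ e.hom ≫ biprod.snd) h).symm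

end Groth.Agent.ASB64
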