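import Groth.Agent.Univ70.Sect
import Groth.Agent.EGA73.Tensor
import Groth.Prelude.Def_KLin
import Mathlib.RingTheory.TensorProduct.Maps
import Mathlib.CategoryTheory.Linear.Basic
import Mathlib.CategoryTheory.Preadditive.Biproducts
import Mathlib.Data.Matrix.Basic
import Mathlib.Algebra.Algebra.Equiv

/-! Endomorphism algebras of tensor products and of powers of modules. -/

set_option autoImplicit false
set_option maxSynthPendingDepth 6
set_option backward.isDefEq.respectTransparency.types false
universe w v u

open CategoryTheory CategoryTheory.Limits AlgebraicGeometry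
open scoped TensorProduct

noncomputable section

namespace Groth.Agent.ASB64

/-- An algebra map out of a tensor product, from commuting maps out of the factors. -/
def liftCommute {R : Type u} {A B C : Type v} [CommSemiring R] [Semiring A] [Algebra R A] [Semiring B]
    [Algebra R B] [Semiring C] [Algebra R C] (f : A →ₐ[R] C) (g : B →ₐ[R] C)
    (h : ∀ a b, Commute (f a) (g b)) : A ⊗[R] B →ₐ[R] C := Algebra.TensorProduct.lift f g h

section Pow

variable {K : Type u} [Field K] {C : Type w} [Category.{v} C] [Preadditive C] [Linear K C]
  [HasFiniteBiproducts C] (M : C) (r : ℕ)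

/-- Endomorphisms of a power are matrices of endomorphisms. -/
def endPowEquiv : End (⨁ fun _ : Fin r => M) ≃ₐ[K] Matrix (Fin r) (Fin r) (End M) :=
  AlgEquiv.ofLinearEquiv
    { toFun := fun f => Matrix.of fun j i =>
        End.of (biproduct.ι (fun _ : Fin r => M) i ≫ End.asHom f ≫ biproduct.π _ j)
      invFun := fun A => End.of (∑ i, ∑ j,
        biproduct.π (fun _ : Fin r => M) i ≫ End.asHom (A j i) ≫ biproduct.ι (fun _ : Fin r => M) j)
      left_inv := fun f => by
        classical
        refine biproduct.hom_ext' _ _ fun i => biproduct.hom_ext _ _ fun j => ?_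
        simp only [End.asHom, End.of, Matrix.of_apply, Preadditive.comp_sum, Preadditive.sum_comp,
          Category.assoc]
        rw [Finset.sum_eq_single i, Finset.sum_eq_single j] <;> intros <;>
          simp_all [biproduct.ι_π, biproduct.ι_π_assoc, Ne.symm]
      right_inv := fun A => by
        classical
        ext j i
        simp only [End.asHom, End.of, Matrix.of_apply, Preadditive.comp_sum, Preadditive.sum_comp,
          Category.assoc]
        rw [Finset.sum_eq_single i, Finset.sum_eq_single j] <;> intros <;>
          simp_all [biproduct.ι_π, biproduct.ι_π_assoc, Ne.symm]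
      map_add' := fun f g => by
        ext j i
        show biproduct.ι (fun _ : Fin r => M) i ≫ (End.asHom f + End.asHom g) ≫ biproduct.π _ j = _
        simp only [Preadditive.add_comp, Preadditive.comp_add]
        rfl
      map_smul' := fun c f => by
        ext j i
        show biproduct.ι (fun _ : Fin r => M) i ≫ (c • End.asHom f) ≫ biproduct.π _ j = _
        simp only [Linear.smul_comp, Linear.comp_smul]
        rfl }
    (by
      classical
      ext j i
      show biproduct.ι (fun _ : Fin r => M) i ≫ 𝟙 _ ≫ biproduct.π _ j = _
      rw [Category.id_comp, biproduct.ι_π]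
      rcases eq_or_ne i j with rfl | h
      · rw [Matrix.one_apply_eq, dif_pos rfl]; rfl
      · rw [Matrix.one_apply_ne (Ne.symm h), dif_neg h])
    (fun f g => by
      ext j i
      show biproduct.ι (fun _ : Fin r => M) i ≫ (End.asHom g ≫ End.asHom f) ≫ biproduct.π _ j =
        ∑ l, (biproduct.ι (fun _ : Fin r => M) i ≫ End.asHom g ≫ biproduct.π _ l) ≫
          (biproduct.ι (fun _ : Fin r => M) l ≫ End.asHom f ≫ biproduct.π _ j)
      simp only [Category.assoc, ← Preadditive.comp_sum]
      simp only [← Category.assoc (f := biproduct.π (fun _ : Fin r => M) _), ← Preadditive.sum_comp,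
        biproduct.total, Category.id_comp])

end Pow

variable {k : Type u} [Field k] {X : Scheme.{u}} [X.Over (Spec (CommRingCat.of k))]

/-- A functor fixing scalars induces an algebra map on endomorphisms. -/
def endMap (F : X.Modules ⥤ X.Modules) [F.Additive] (M : X.Modules)
    (h : ∀ a : k, F.map (a • 𝟙 M) = a • 𝟙 (F.obj M)) : End M →ₐ[k] End (F.obj M) where
  toFun f := End.of (F.map (End.asHom f))
  map_one' := F.map_id M
  map_mul' f g := F.map_comp (End.asHom g) (End.asHom f)
  map_zero' := F.map_zero M M
  map_add' f g := F.map_add
  commutes' a := by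
    rw [Algebra.algebraMap_eq_smul_one, Algebra.algebraMap_eq_smul_one]
    exact h a

/-- `M ⊗ -`. -/
abbrev tensLeft (M : X.Modules) : X.Modules ⥤ X.Modules := Mod48.tL (O := X.sheaf) M

/-- `M ⊗ - ≅ - ⊗ M`. -/
def tensLeftIso (M : X.Modules) : tensLeft M ≅ DCoh.tensorRightMod M := Mod48.tensSymm (O := X.sheaf) M

instance (M : X.Modules) : (tensLeft M).Additive := Functor.additive_of_iso (tensLeftIso M).symm

theorem tensorRight_map_smul (M N : X.Modules) (a : k) :
    (DCoh.tensorRightMod N).map (a • 𝟙 M) = a • 𝟙 ((DCoh.tensorRightMod N).obj M) := by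
  rw [KLin.smul_id, KLin.smul_id]
  exact Univ70.tensorRightMod_map_smulΓ N M _

theorem tensorLeft_map_smul (M N : X.Modules) (a : k) :
    (tensLeft M).map (a • 𝟙 N) = a • 𝟙 ((tensLeft M).obj N) := by
  have h := (tensLeftIso M).hom.naturality (a • 𝟙 N)
  rw [tensorRight_map_smul, Linear.comp_smul, Category.comp_id] at h
  rw [← cancel_mono ((tensLeftIso M).hom.app N), h, Linear.smul_comp, Category.id_comp]

/-- The endomorphisms of a tensor product induced by those of the factors. -/
def endTens (M N : X.Modules) : End M ⊗[k] End N →ₐ[k] End (CohB1.tensorMod M N) :=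
  liftCommute
    (endMap (DCoh.tensorRightMod N) M (tensorRight_map_smul M N))
    (endMap (tensLeft M) N (tensorLeft_map_smul M N))
    (fun a b => ((ModSite.tensorBi X.sheaf).map (End.asHom a)).naturality (End.asHom b))

end Groth.Agent.ASB64

end
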