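import Groth.Agent.KSchm95.Basic
import Mathlib.CategoryTheory.Linear.Basic
import Mathlib.Algebra.Field.Basic

/-! Objects with scalar endomorphisms are indecomposable. -/

set_option autoImplicit false
universe w v u

open CategoryTheory CategoryTheory.Limits

namespace Groth.Agent.ASB64

variable {K : Type u} [Field K] {C : Type w} [Category.{v} C] [Abelian C] [Linear K C]

/-- An object with scalar endomorphisms is indecomposable. -/
theorem indec_of_scalar {L : C} (hL : Function.Bijective fun c : K => c • 𝟙 L) : KSchm95.Indec L := by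
  refine ⟨fun h => ?_, fun P Q ⟨e⟩ => ?_⟩
  · exact one_ne_zero (hL.1 ((h.eq_of_src _ _ :)))
  obtain ⟨c, hc⟩ := hL.2 (e.hom ≫ biprod.fst ≫ biprod.inl ≫ e.inv)
  dsimp only at hc
  have h2 : (c * c) • 𝟙 L = c • 𝟙 L := by
    have hcc : (c • 𝟙 L) ≫ (c • 𝟙 L) = c • 𝟙 L := by rw [hc]; simp
    rwa [Linear.smul_comp, Category.id_comp, smul_smul] at hcc
  rcases (IsIdempotentElem.iff_eq_zero_or_one (p := c)).mp (hL.1 h2) with rfl | rfl
  · left
    rw [IsZero.iff_id_eq_zero]
    have := congrArg (fun φ => biprod.inl ≫ e.inv ≫ φ ≫ e.hom ≫ biprod.fst) hc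
    simpa using this.symm
  · right
    rw [IsZero.iff_id_eq_zero]
    have := congrArg (fun φ => biprod.inr ≫ e.inv ≫ φ ≫ e.hom ≫ biprod.snd) hc
    simpa using this

end Groth.Agent.ASB64
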