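import Mathlib.CategoryTheory.Linear.Basic
import Mathlib.CategoryTheory.Limits.Shapes.Biproducts
import Mathlib.CategoryTheory.Preadditive.Biproducts
import Mathlib.Algebra.Algebra.Equiv
import Mathlib.Data.Matrix.Basis
import Mathlib.Algebra.Module.BigOperators

/-! Endomorphisms of a finite power of an object with scalar endomorphisms form a matrix algebra. -/

set_option autoImplicit false
universe w v u

open CategoryTheory CategoryTheory.Limits

noncomputable section

namespace Groth.Agent.ASB64

variable {K : Type u} [Field K] {C : Type w} [Category.{v} C] [Preadditive C] [Linear K C]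

/-- Conjugation by an isomorphism as an equivalence of endomorphism algebras. -/
def conjAlg {A B : C} (e : A ≅ B) : End A ≃ₐ[K] End B :=
  AlgEquiv.ofLinearEquiv (Linear.homCongr K e e)
    (show Linear.homCongr K e e (𝟙 A) = 𝟙 B by simp [Linear.homCongr_apply])
    (fun x y => show Linear.homCongr K e e (End.asHom y ≫ End.asHom x) =
        Linear.homCongr K e e y ≫ Linear.homCongr K e e x by simp [Linear.homCongr_apply, End.asHom])

variable [HasFiniteBiproducts C] {L : C} (hL : Function.Bijective fun c : K => c • 𝟙 L) (r : ℕ)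

/-- The coefficient of an endomorphism of an object with scalar endomorphisms. -/
def coef (φ : L ⟶ L) : K := (hL.2 φ).choose

theorem coef_spec (φ : L ⟶ L) : coef hL φ • 𝟙 L = φ := (hL.2 φ).choose_spec

theorem coef_eq {φ : L ⟶ L} {c : K} (h : c • 𝟙 L = φ) : coef hL φ = c :=
  hL.1 ((coef_spec hL φ).trans h.symm)

/-- The endomorphism with a given matrix. -/
def ofMatrix (M : Matrix (Fin r) (Fin r) K) : (⨁ fun _ : Fin r => L) ⟶ ⨁ fun _ : Fin r => L :=
  ∑ i, ∑ j, M j i • (biproduct.π (fun _ : Fin r => L) i ≫ biproduct.ι (fun _ : Fin r => L) j)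

/-- The matrix of an endomorphism. -/
def toMatrix (f : End (⨁ fun _ : Fin r => L)) : Matrix (Fin r) (Fin r) K :=
  Matrix.of fun j i => coef hL (biproduct.ι (fun _ : Fin r => L) i ≫ f ≫ biproduct.π _ j)

theorem toMatrix_spec (f : End (⨁ fun _ : Fin r => L)) (j i : Fin r) :
    toMatrix hL r f j i • 𝟙 L = biproduct.ι (fun _ : Fin r => L) i ≫ f ≫ biproduct.π _ j :=
  coef_spec hL _

theorem toMatrix_ofMatrix (M : Matrix (Fin r) (Fin r) K) : toMatrix hL r (ofMatrix r M) = M := by
  classical
  ext j i
  refine coef_eq hL ?_
  simp only [ofMatrix, Preadditive.comp_sum, Preadditive.sum_comp, Linear.smul_comp, Linear.comp_smul,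
    Category.assoc, biproduct.ι_π_assoc]
  rw [Finset.sum_eq_single i, Finset.sum_eq_single j]
  · simp
  · intro b _ hb; simp [biproduct.ι_π_ne _ hb]
  · simp
  · intro a _ ha; simp [(Ne.symm ha)]
  · simp

theorem ofMatrix_toMatrix (f : End (⨁ fun _ : Fin r => L)) : ofMatrix r (toMatrix hL r f) = f := by
  classical
  refine biproduct.hom_ext' _ _ fun i => biproduct.hom_ext _ _ fun j => ?_
  rw [Category.assoc, Category.assoc, ← toMatrix_spec hL r f j i]
  simp only [ofMatrix, Preadditive.comp_sum, Preadditive.sum_comp, Linear.smul_comp, Linear.comp_smul,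
    Category.assoc, biproduct.ι_π_assoc]
  rw [Finset.sum_eq_single i, Finset.sum_eq_single j]
  · simp
  · intro b _ hb; simp [biproduct.ι_π_ne _ hb]
  · simp
  · intro a _ ha; simp [(Ne.symm ha)]
  · simp

/-- Endomorphisms of a finite power of an object with scalar endomorphisms are matrices. -/
def endBiprodEquiv : End (⨁ fun _ : Fin r => L) ≃ₐ[K] Matrix (Fin r) (Fin r) K :=
  AlgEquiv.ofLinearEquiv
    { toFun := toMatrix hL r
      invFun := ofMatrix r
      left_inv := ofMatrix_toMatrix hL r
      right_inv := toMatrix_ofMatrix hL r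
      map_add' := fun f g => by
        ext j i
        refine coef_eq hL ?_
        show (toMatrix hL r f j i + toMatrix hL r g j i) • 𝟙 L = _
        rw [add_smul, toMatrix_spec, toMatrix_spec, ← Preadditive.comp_add, ← Preadditive.add_comp]
      map_smul' := fun c f => by
        ext j i
        refine coef_eq hL ?_
        show (c * toMatrix hL r f j i) • 𝟙 L = _
        rw [mul_smul, toMatrix_spec, ← Linear.comp_smul, ← Linear.smul_comp] }
    (by
      classical
      ext j i
      refine coef_eq hL ?_
      show _ = biproduct.ι (fun _ : Fin r => L) i ≫ 𝟙 _ ≫ biproduct.π _ j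
      rw [Category.id_comp, biproduct.ι_π]
      rcases eq_or_ne i j with rfl | h
      · simp
      · simp [h, Ne.symm h])
    (fun f g => by
      ext j i
      refine coef_eq hL ?_
      show (∑ l, toMatrix hL r f j l * toMatrix hL r g l i) • 𝟙 L =
        biproduct.ι (fun _ : Fin r => L) i ≫ (g ≫ f) ≫ biproduct.π _ j
      rw [Finset.sum_smul]
      have h1 : biproduct.ι (fun _ : Fin r => L) i ≫ (g ≫ f) ≫ biproduct.π _ j =
          ∑ l, (biproduct.ι (fun _ : Fin r => L) i ≫ g ≫ biproduct.π _ l) ≫
            (biproduct.ι (fun _ : Fin r => L) l ≫ f ≫ biproduct.π _ j) := by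
        simp only [Category.assoc, ← Preadditive.comp_sum]
        simp only [← Category.assoc (f := biproduct.π (fun _ : Fin r => L) _), ← Preadditive.sum_comp,
          biproduct.total, Category.id_comp]
      rw [h1]
      refine Finset.sum_congr rfl fun l _ => ?_
      rw [← toMatrix_spec hL r g l i, ← toMatrix_spec hL r f j l, Linear.smul_comp, Category.id_comp, smul_smul,
        mul_comm])

end Groth.Agent.ASB64

end
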