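import Groth.Agent.KSchm95.Modules
import Groth.Agent.KSchm95.Local

/-! An isotypical indecomposable module is a retract of any module with a retract of its type. -/

set_option autoImplicit false
universe u

open CategoryTheory CategoryTheory.Limits AlgebraicGeometry

noncomputable section

namespace Groth.Agent.ASB64

open KSchm95

variable {k : Type u} [Field k] {X : Scheme.{u}} (p : X ⟶ Spec (CommRingCat.of k)) [IsProper p]
  (K : Type u) [Field K] [Algebra k K]

/-- An indecomposable module of type `L` is a retract of every module which has `L` as a retract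
after a field extension. -/
theorem exists_retract {W M : X.Modules} (hW : Coh.IsCoh W) (hM : Coh.IsCoh M) (hWi : Indec W)
    {L : (W4bk4gw11416.baseChange p K).Modules} {r : ℕ}
    (e : W4c1astiltbs12.bcMod p K W ≅ W4c1astiltbs12.pow L r) (i : L ⟶ W4c1astiltbs12.bcMod p K M)
    (s : W4c1astiltbs12.bcMod p K M ⟶ L) (his : i ≫ s = 𝟙 L) :
    ∃ (a : W ⟶ M) (b : M ⟶ W), a ≫ b = 𝟙 W := by
  letI : X.Over (Spec (CommRingCat.of k)) := ⟨p⟩
  haveI : IsProper (X ↘ Spec (CommRingCat.of k)) := ‹IsProper p›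
  haveI : IsLocallyNoetherian X := LocallyOfFiniteType.isLocallyNoetherian (X ↘ Spec (CommRingCat.of k))
  haveI : CompactSpace X := QuasiCompact.compactSpace_of_compactSpace p
  haveI : HasFiniteBiproducts X.Modules := HasFiniteBiproducts.of_hasFiniteProducts
  haveI : HasFiniteBiproducts (FF71.bc k X K).Modules := HasFiniteBiproducts.of_hasFiniteProducts
  haveI : HasFiniteBiproducts (W4bk4gw11416.baseChange p K).Modules := HasFiniteBiproducts.of_hasFiniteProducts
  let Φ := Scheme.Modules.pullback (FF71.bcπ k X K)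
  let G := ⨁ fun _ : Fin r => M
  have hG : Coh.IsCoh G := QC70.isCoh_biproduct _ fun _ => hM
  let L' : (FF71.bc k X K).Modules := L
  let eW : Φ.obj W ≅ ⨁ fun _ : Fin r => L' := e ≪≫ (biproduct.isoCoproduct fun _ : Fin r => L').symm
  let i' : L' ⟶ Φ.obj M := i
  let s' : Φ.obj M ⟶ L' := s
  have his' : i' ≫ s' = 𝟙 L' := his
  let φ : Φ.obj W ⟶ Φ.obj G :=
    eW.hom ≫ biproduct.map (fun _ => i') ≫ (Φ.mapBiproduct fun _ : Fin r => M).inv
  let ψ : Φ.obj G ⟶ Φ.obj W :=
    (Φ.mapBiproduct fun _ : Fin r => M).hom ≫ biproduct.map (fun _ => s') ≫ eW.inv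
  have hφψ : φ ≫ ψ = 𝟙 _ := by
    have h1 : biproduct.map (fun _ : Fin r => i') ≫ biproduct.map (fun _ => s') =
        𝟙 (⨁ fun _ : Fin r => L') := biproduct.hom_ext' _ _ fun a => by simp [reassoc_of% his']
    simp only [φ, ψ, Category.assoc, Iso.inv_hom_id_assoc]
    rw [← Category.assoc (biproduct.map _)]
    exact (congrArg (fun t => eW.hom ≫ t ≫ eW.inv) h1).trans (by simp)
  haveI : W.IsQuasicoherent := hW.1
  haveI : G.IsQuasicoherent := hG.1
  haveI : G.IsFiniteType := hG.2
  obtain ⟨n, u, v, huv⟩ := exists_sum_eq_of_comp K φ (𝟙 W) ψ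
    (hφψ.trans (CategoryTheory.Functor.map_id _ _).symm)
  haveI := isLocalRing_end_of_isCoh (k := k) hW hWi
  obtain ⟨l, -, hl⟩ := exists_isUnit_of_sum_eq_one Finset.univ (fun l => u l ≫ v l) huv
  have htot : ∑ a : Fin r, (u l ≫ biproduct.π _ a) ≫ (biproduct.ι (fun _ : Fin r => M) a ≫ v l ≫ inv (u l ≫ v l)) =
      𝟙 W := by
    simp only [Category.assoc, ← Preadditive.comp_sum]
    simp only [← Category.assoc (f := biproduct.π (fun _ : Fin r => M) _), ← Preadditive.sum_comp,
      biproduct.total, Category.id_comp]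
    rw [← Category.assoc, IsIso.hom_inv_id]
  obtain ⟨a, -, ha⟩ := exists_isUnit_of_sum_eq_one Finset.univ _ htot
  exact ⟨u l ≫ biproduct.π _ a, (biproduct.ι (fun _ : Fin r => M) a ≫ v l ≫ inv (u l ≫ v l)) ≫
    inv ((u l ≫ biproduct.π _ a) ≫ (biproduct.ι (fun _ : Fin r => M) a ≫ v l ≫ inv (u l ≫ v l))),
    by rw [← Category.assoc, IsIso.hom_inv_id]⟩

/-- An indecomposable module with a retract of type `L` is isomorphic to the indecomposable module
of type `L`. -/
theorem nonempty_iso_of_retract {W M : X.Modules} (hW : Coh.IsCoh W) (hM : Coh.IsCoh M) (hWi : Indec W)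
    (hMi : Indec M) {L : (W4bk4gw11416.baseChange p K).Modules} {r : ℕ}
    (e : W4c1astiltbs12.bcMod p K W ≅ W4c1astiltbs12.pow L r) (i : L ⟶ W4c1astiltbs12.bcMod p K M)
    (s : W4c1astiltbs12.bcMod p K M ⟶ L) (his : i ≫ s = 𝟙 L) : Nonempty (M ≅ W) := by
  obtain ⟨a, b, hab⟩ := exists_retract p K hW hM hWi e i s his
  haveI : HasFiniteBiproducts X.Modules := HasFiniteBiproducts.of_hasFiniteProducts
  haveI := isIso_of_indec hWi.1 hMi a b hab
  exact ⟨(asIso a).symm⟩

end Groth.Agent.ASB64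

end
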