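import Groth.Agent.Var76.LineBundle
import Groth.Agent.Mero90.Frames
import Groth.Agent.QC70.HomCoh
import Groth.Prelude.Def_KLin

/-! Endomorphisms of invertible modules are multiplications by global functions. -/

set_option autoImplicit false
set_option backward.isDefEq.respectTransparency.types false
universe u

open CategoryTheory CategoryTheory.Limits AlgebraicGeometry Opposite TopologicalSpace

noncomputable section

namespace Groth.Agent.ASB64

open Var76.LineBundle

variable {Y : Scheme.{u}} {L : Y.Modules}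

theorem hom_app_res {M N : Y.Modules} (φ : M ⟶ N) {U V : Y.Opens} (h : V ≤ U) (m : Γ(M, U)) :
    φ.app V (res M h m) = res N h (φ.app U m) := QC70.app_res φ h m

theorem exists_frame_near (hL : PicF.IsInvertible L) (y : Y) :
    ∃ U : Y.Opens, y ∈ U ∧ ∃ e : Γ(L, U), IsFrame L U e :=
  exists_frame (Mero90.isFinLocFreeOfRank_of_isInvertible hL) y

theorem app_frame {U : Y.Opens} {e : Γ(L, U)} (he : IsFrame L U e) (φ : L ⟶ L) {a : Γ(Y, U)}
    (ha : φ.app U e = a • e) {V : Y.Opens} (hV : V ≤ U) (m : Γ(L, V)) :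
    φ.app V m = Y.presheaf.map (homOfLE hV).op a • m := by
  obtain ⟨b, rfl⟩ := (he V hV).2 m
  show φ.app V (b • res L hV e) = _
  rw [Scheme.Modules.Hom.app_smul, hom_app_res, ha, res_smul, smul_comm]

/-- Endomorphisms of an invertible module are multiplications by global functions. -/
theorem exists_eq_smulModΓ (hL : PicF.IsInvertible L) (φ : L ⟶ L) :
    ∃ r : Γ(Y, ⊤), φ = Formal.smulModΓ L r := by
  choose U hU e he using exists_frame_near hL
  have hsur : ∀ y, ∃ a : Γ(Y, U y), φ.app (U y) (e y) = a • e y := fun y => by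
    obtain ⟨a, ha⟩ := (he y (U y) le_rfl).2 (φ.app (U y) (e y))
    refine ⟨a, ha.symm.trans ?_⟩
    show a • res L le_rfl (e y) = a • e y
    simp [res]
  choose a ha using hsur
  have hcov : (⊤ : Y.Opens) ≤ iSup U := fun y _ => Opens.mem_iSup.mpr ⟨y, hU y⟩
  have hcompat : TopCat.Presheaf.IsCompatible Y.sheaf.obj U a := by
    intro y z
    refine ((he y).res (inf_le_left : U y ⊓ U z ≤ U y) (U y ⊓ U z) le_rfl).1 ?_
    show Y.presheaf.map (homOfLE (inf_le_left : U y ⊓ U z ≤ U y)).op (a y) • _ =
      Y.presheaf.map (homOfLE (inf_le_right : U y ⊓ U z ≤ U z)).op (a z) • _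
    rw [← app_frame (he y) φ (ha y), ← app_frame (he z) φ (ha z)]
  obtain ⟨(r : Γ(Y, ⊤)), hr, -⟩ := Y.sheaf.existsUnique_gluing' U ⊤ (fun y => homOfLE le_top) hcov a hcompat
  refine ⟨r, Scheme.Modules.hom_ext _ _ fun W => ?_⟩
  ext m
  refine QC70.section_ext L _ _ fun y hy => ⟨W ⊓ U y, inf_le_left, ⟨hy, hU y⟩, ?_⟩
  show res L inf_le_left (φ.app W m) = res L inf_le_left ((Formal.smulModΓ L r).app W m)
  rw [← hom_app_res φ inf_le_left m, ← hom_app_res (Formal.smulModΓ L r) inf_le_left m,
    app_frame (he y) φ (ha y) inf_le_right, KLin.smulModΓ_app_apply]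
  congr 1
  rw [← show Y.presheaf.map (homOfLE le_top).op r = a y from hr y, ← ConcreteCategory.comp_apply,
    ← Functor.map_comp, ← op_comp, homOfLE_comp]

/-- Multiplication by a function on an invertible module determines the function. -/
theorem eq_zero_of_smulModΓ_eq_zero (hL : PicF.IsInvertible L) {r : Γ(Y, ⊤)}
    (h : Formal.smulModΓ L r = 0) : r = 0 := by
  choose U hU e he using exists_frame_near hL
  refine Y.sheaf.eq_of_locally_eq' U ⊤ (fun y => homOfLE le_top) (fun y _ => Opens.mem_iSup.mpr ⟨y, hU y⟩) r 0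
    fun y => ?_
  refine ((he y) (U y) le_rfl).1 ?_
  show Y.presheaf.map (homOfLE le_top).op r • res L le_rfl (e y) = Y.presheaf.map (homOfLE le_top).op 0 • _
  rw [map_zero, zero_smul, ← KLin.smulModΓ_app_apply, h]
  rfl

/-- If the global functions are the scalars, so are the endomorphisms of an invertible module. -/
theorem bijective_smul_id {A : Type u} [CommRing A] [Y.Over (Spec (CommRingCat.of A))]
    (hA : Function.Bijective (Coh.toGlobal (Y ↘ Spec (CommRingCat.of A)))) (hL : PicF.IsInvertible L) :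
    Function.Bijective fun a : A => a • 𝟙 L := by
  refine ⟨fun a b hab => hA.1 ?_, fun φ => ?_⟩
  · have hab' : Formal.smulMod A L a = Formal.smulMod A L b := by
      rw [← KLin.smul_id, ← KLin.smul_id]; exact hab
    rw [← sub_eq_zero]
    refine eq_zero_of_smulModΓ_eq_zero hL ?_
    rw [sub_eq_add_neg, KLin.smulModΓ_add]
    have : Formal.smulModΓ L (-Coh.toGlobal (Y ↘ Spec (CommRingCat.of A)) b) =
        -Formal.smulModΓ L (Coh.toGlobal (Y ↘ Spec (CommRingCat.of A)) b) := by
      refine eq_neg_of_add_eq_zero_left ?_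
      rw [← KLin.smulModΓ_add, neg_add_cancel]
      exact KLin.smulModΓ_zero L
    rw [this]
    exact (congrArg (fun t => t + -_) hab').trans (add_neg_cancel _)
  · obtain ⟨r, rfl⟩ := exists_eq_smulModΓ hL φ
    obtain ⟨a, rfl⟩ := hA.2 r
    exact ⟨a, KLin.smul_id L a⟩

end Groth.Agent.ASB64

end
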