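import Groth.Agent.ASB64.HomBC
import Groth.Agent.ASB64.Scalars
import Groth.Agent.ASB64.Matrix
import Groth.Agent.ASB64.Retract
import Groth.Agent.Csa77.Splitting

/-! The endomorphism algebra of an absolutely isotypical module is central simple. -/

set_option autoImplicit false
set_option maxSynthPendingDepth 6
set_option synthInstance.maxHeartbeats 200000
set_option backward.isDefEq.respectTransparency.types false
universe u

open CategoryTheory CategoryTheory.Limits AlgebraicGeometry
open scoped TensorProduct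

noncomputable section

namespace Groth.Agent.ASB64

open FF71

variable {k : Type u} [Field k] {X : Scheme.{u}} [X.Over (Spec (CommRingCat.of k))]
  [IsProper (X ↘ Spec (CommRingCat.of k))] {K : Type u} [Field K] [Algebra k K]
  {W : X.Modules} {L : (bc k X K).Modules} {r : ℕ}

/-- The endomorphisms of an isotypical module become matrices over the extension. -/
theorem nonempty_endMatrix (hW : Coh.IsCoh W)
    (hΓ : Function.Bijective (Coh.toGlobal (bc k X K ↘ Spec (CommRingCat.of K))))
    (hL : PicF.IsInvertible L)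
    (e : (Scheme.Modules.pullback (bcπ k X K)).obj W ≅ ∐ fun _ : Fin r => L) :
    Nonempty (K ⊗[k] End W ≃ₐ[K] Matrix (Fin r) (Fin r) K) := by
  haveI : W.IsQuasicoherent := hW.1
  haveI : W.IsFiniteType := hW.2
  haveI : CompactSpace X := QuasiCompact.compactSpace_of_compactSpace (X ↘ Spec (CommRingCat.of k))
  haveI : HasFiniteBiproducts (bc k X K).Modules := HasFiniteBiproducts.of_hasFiniteProducts
  exact ⟨(AlgEquiv.ofBijective (endBC (k := k) K W) (endBC_bijective (k := k) K W)).trans
    ((conjAlg (e ≪≫ (biproduct.isoCoproduct fun _ : Fin r => L).symm)).trans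
      (endBiprodEquiv (bijective_smul_id hΓ hL) r))⟩

variable (hW : Coh.IsCoh W)
  (hΓ : Function.Bijective (Coh.toGlobal (bc k X K ↘ Spec (CommRingCat.of K))))
  (hL : PicF.IsInvertible L) (e : (Scheme.Modules.pullback (bcπ k X K)).obj W ≅ ∐ fun _ : Fin r => L)

include hW hΓ hL e

theorem finrank_end : Module.finrank k (End W) = r * r := by
  obtain ⟨f⟩ := nonempty_endMatrix hW hΓ hL e
  rw [← Module.finrank_baseChange (R := K), f.toLinearEquiv.finrank_eq, Module.finrank_matrix]
  simp

theorem pos_of_not_isZero (h : ¬ IsZero W) : 0 < r := by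
  refine Nat.pos_of_ne_zero fun hr => h ((IsZero.iff_id_eq_zero W).mpr ?_)
  subst hr
  obtain ⟨f⟩ := nonempty_endMatrix hW hΓ hL e
  have h1 : (1 : K) ⊗ₜ[k] (1 : End W) = 1 ⊗ₜ 0 := f.injective (Subsingleton.elim _ _)
  have hinj := Algebra.TensorProduct.includeRight_injective (R := k) (A := K) (B := End W) (algebraMap k K).injective
  exact hinj h1

theorem splits_end (h : ¬ IsZero W) : Curves.Splits k (End W) K :=
  ⟨r, (pos_of_not_isZero hW hΓ hL e h).ne', nonempty_endMatrix hW hΓ hL e⟩

theorem csa_end (h : ¬ IsZero W) :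
    Algebra.IsCentral k (End W) ∧ IsSimpleRing (End W) ∧ FiniteDimensional k (End W) :=
  Csa77.csa_of_splits (splits_end hW hΓ hL e h)

theorem isUnit_of_ne_zero (hi : KSchm95.Indec W) (a : End W) (ha : a ≠ 0) : IsUnit a := by
  obtain ⟨-, hs, -⟩ := csa_end hW hΓ hL e hi.1
  haveI := KSchm95.isArtinianRing_end (k := k) W hW
  haveI := KSchm95.isLocalRing_end_of_isCoh (k := k) hW hi
  have hnil : ∀ b : End W, ¬ IsUnit b → IsNilpotent b := fun b hb => by
    haveI : HasFiniteBiproducts X.Modules := HasFiniteBiproducts.of_hasFiniteProducts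
    exact (KSchm95.isNilpotent_or_isUnit (KSchm95.eq_zero_or_one_of_indec hi) b).resolve_right hb
  have hmul : ∀ x y : End W, IsUnit (x * y) → IsUnit x ∧ IsUnit y := fun x y hxy => by
    have hy : IsUnit y := by
      by_contra hy
      obtain ⟨n, hn⟩ := hnil y hy
      obtain ⟨u, hu⟩ := hxy
      have hy1 : (↑u⁻¹ * x) * y = 1 := by rw [mul_assoc, ← hu, Units.inv_mul]
      have key : ∀ m : ℕ, (↑u⁻¹ * x) ^ m * y ^ m = 1 := fun m => by
        induction m with
        | zero => simp
        | succ m ih => rw [pow_succ (↑u⁻¹ * x), pow_succ' y, mul_assoc, ← mul_assoc (↑u⁻¹ * x) y, hy1, one_mul, ih]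
      have := key n
      rw [hn, mul_zero] at this
      exact zero_ne_one this
    obtain ⟨v, rfl⟩ := hy
    exact ⟨Units.isUnit_mul_units x v |>.mp hxy, v.isUnit⟩
  let I : TwoSidedIdeal (End W) := TwoSidedIdeal.mk' (nonunits (End W)) not_isUnit_zero
    (fun {x y} hx hy => IsLocalRing.nonunits_add hx hy) (fun {x} hx h => hx (by simpa using h.neg))
    (fun {x y} hy h => hy (hmul x y h).2) (fun {x y} hx h => hx (hmul x y h).1)
  by_contra hau
  rcases eq_bot_or_eq_top I with hI | hI
  · exact ha ((TwoSidedIdeal.mem_bot _).mp (hI ▸ (TwoSidedIdeal.mem_mk' ..).mpr hau))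
  · exact ((TwoSidedIdeal.mem_mk' ..).mp (hI ▸ trivial : (1 : End W) ∈ I)) isUnit_one

end Groth.Agent.ASB64

end
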