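import Groth.Agent.KSchm95.Modules
import Groth.Agent.FlatMor68.LocFree
import Groth.Agent.Props58.LocFree.Affine
import Groth.Agent.Props58.LocFree.Criteria
import Groth.Agent.QC70.HomCoh
import Groth.Agent.Props58.LocFree.FP

/-! Retracts of finite locally free modules. -/

set_option autoImplicit false
universe u

open CategoryTheory CategoryTheory.Limits AlgebraicGeometry

noncomputable section

namespace Groth.Agent.ASB64

variable {X : Scheme.{u}}

theorem isFinLocFree_of_retract [IsLocallyNoetherian X] {A F : X.Modules} (i : A ⟶ F) (s : F ⟶ A)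
    (h : i ≫ s = 𝟙 A) (hF : FlatMod.IsFinLocFree F) : FlatMod.IsFinLocFree A := by
  have hcF : Coh.IsCoh F := ⟨Props58.LocFree.isQuasicoherent_of_isFinLocFree hF,
    Props58.LocFree.isFiniteType_of_isFinLocFree hF⟩
  have hcA := KSchm95.isCoh_of_retract i s h hcF
  haveI : A.IsQuasicoherent := hcA.1
  haveI : A.IsFiniteType := hcA.2
  haveI : F.IsQuasicoherent := hcF.1
  refine FlatMor68.LocFree.isFinLocFree_of_projective_sections A fun x => ?_
  obtain ⟨U, hU, hxU, -⟩ := exists_isAffineOpen_mem_and_subset (X := X) (x := x) (U := ⊤) trivial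
  haveI := Props58.LocFree.projective_sections hF hU
  refine ⟨U, hU, hxU, ?_, QC70.finite_sections_of_isFiniteType A hU⟩
  refine Module.Projective.of_split (QC70.appLinear i U) (QC70.appLinear s U) (LinearMap.ext fun a => ?_)
  show s.app U (i.app U a) = a
  have := congrArg (fun φ : A ⟶ A => φ.app U a) h
  simpa using this

end Groth.Agent.ASB64

end
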