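import Groth.Agent.ASB64.Retract

/-! Retracts of finite sums of indecomposables. -/

set_option autoImplicit false
universe u v w

open CategoryTheory CategoryTheory.Limits AlgebraicGeometry

noncomputable section

namespace Groth.Agent.ASB64

open KSchm95

variable {C : Type w} [Category.{v} C] [Abelian C] [HasFiniteBiproducts C]

/-- A retract of a finite sum of indecomposables is a sum of some of them. -/
theorem exists_subfamily {M F : C} [IsArtinianRing (End F)] {n : ℕ} (Ls : Fin n → C)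
    (hLs : ∀ i, Indec (Ls i)) (e : F ≅ ⨁ Ls) (i : M ⟶ F) (s : F ⟶ M) (h : i ≫ s = 𝟙 M) :
    ∃ (t : ℕ) (τ : Fin t → Fin n), Nonempty (M ≅ ⨁ fun a => Ls (τ a)) := by
  haveI := isArtinianRing_end_of_retract i s h
  let N := kernel s
  obtain ⟨hN⟩ : Nonempty (IsArtinianRing (End N)) := ⟨isArtinianRing_end_of_retract (kernel.ι s)
    (kernel.lift s (𝟙 F - s ≫ i) (by simp [Preadditive.sub_comp, h]))
    (by rw [← cancel_mono (kernel.ι s)]; simp)⟩
  obtain ⟨a, Ms, hMs, ⟨eM⟩⟩ := exists_decomp M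
  obtain ⟨b, Ns, hNs, ⟨eN⟩⟩ := exists_decomp N
  obtain ⟨σ, hσ⟩ := exists_equiv_of_iso _ Ls (fun c => by
      cases hc : finSumFinEquiv.symm c with
      | inl x => simpa [hc] using hMs x
      | inr x => simpa [hc] using hNs x) hLs
    (splitIso i s h ≪≫ biprod.mapIso eM eN ≪≫ sumIso Ms Ns) e
  have hi : ∀ x : Fin a, Nonempty (Ms x ≅ Ls (σ (finSumFinEquiv (Sum.inl x)))) := fun x => by
    obtain ⟨f⟩ := hσ (finSumFinEquiv (Sum.inl x))
    simp only [Equiv.symm_apply_apply, Sum.elim_inl] at f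
    exact ⟨f⟩
  exact ⟨a, _, ⟨eM ≪≫ biproduct.mapIso fun x => (hi x).some⟩⟩

end Groth.Agent.ASB64

end
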