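import Groth.Agent.ASB64.PowOps
import Groth.Agent.ASB64.EndTens
import Groth.Agent.ASB64.IndecScalar
import Groth.Agent.ASB64.Isotypical
import Groth.Agent.ASB64.Summand
import Groth.Agent.ASB64.LocFreeRetract
import Groth.Agent.Csa25.Index
import Groth.Agent.Brauer24.Index
import Groth.Agent.QCTens72.Basic
import Groth.Agent.TwTens96.Basic
import Groth.Agent.QC70.HomCoh

/-! Brauer classes of absolutely isotypical modules. -/

set_option autoImplicit false
set_option maxSynthPendingDepth 6
set_option synthInstance.maxHeartbeats 200000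
set_option backward.isDefEq.respectTransparency.types false
universe u

open CategoryTheory CategoryTheory.Limits AlgebraicGeometry
open scoped TensorProduct Groth.Agent.Csa25

noncomputable section

namespace Groth.Agent.ASB64

open Csa25

variable {k : Type u} [Field k] {X : Scheme.{u}} [X.Over (Spec (CommRingCat.of k))]

open Classical in
/-- The Brauer class of the endomorphism algebra of a module, when that algebra is central simple. -/
def endCl (M : X.Modules) : Br k :=
  if h : Algebra.IsCentral k (End M) ∧ IsSimpleRing (End M) ∧ FiniteDimensional k (End M) then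
    @cl k _ (End M) _ _ h.1 h.2.1 h.2.2
  else 1

theorem isFinLocFree_of_isInvertible {Y : Scheme.{u}} {N : Y.Modules} (hN : PicF.IsInvertible N) :
    FlatMod.IsFinLocFree N :=
  (LimTop61.isFinLocFreeOfRank_iff.mp (Mero90.isFinLocFreeOfRank_of_isInvertible hN)).1

theorem endCl_eq (M : X.Modules) [hc : Algebra.IsCentral k (End M)] [hs : IsSimpleRing (End M)]
    [hf : FiniteDimensional k (End M)] : endCl (k := k) M = cl k (End M) :=
  dif_pos ⟨hc, hs, hf⟩

/-- `1 × 1` matrices. -/
def finOneEquiv (A : Type u) [Ring A] [Algebra k A] : A ≃ₐ[k] Matrix (Fin 1) (Fin 1) A :=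
  AlgEquiv.ofBijective (Matrix.scalarAlgHom (Fin 1) k)
    ⟨fun a b h => by simpa using congrFun (congrFun h 0) 0,
      fun B => ⟨B 0 0, by ext i j; simp [Subsingleton.elim i 0, Subsingleton.elim j 0]⟩⟩

variable [IsProper (X ↘ Spec (CommRingCat.of k))] (K : Type u) [Field K] [Algebra k K]
  (hΓ : Function.Bijective (Coh.toGlobal (FF71.bc k X K ↘ Spec (CommRingCat.of K))))

/-- `M` is coherent and becomes a sum of `r` copies of `L`. -/
structure Typed (L : (FF71.bc k X K).Modules) (r : ℕ) (M : X.Modules) : Prop where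
  coh : Coh.IsCoh M
  iso : Nonempty (bcObj (k := k) K M ≅ BrSev.pow L r)
  inv : PicF.IsInvertible L

variable {K} {L L' : (FF71.bc k X K).Modules} {r r' : ℕ} {M M' : X.Modules}

theorem Typed.mk' (hM : FlatMod.IsFinLocFree M) (hL : PicF.IsInvertible L)
    (e : Nonempty (bcObj (k := k) K M ≅ BrSev.pow L r)) : Typed K L r M :=
  ⟨⟨Props58.LocFree.isQuasicoherent_of_isFinLocFree hM, Props58.LocFree.isFiniteType_of_isFinLocFree hM⟩, e, hL⟩

theorem Typed.isFinLocFree (h : Typed K L r M) : FlatMod.IsFinLocFree M :=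
  haveI := h.coh.1
  isFinLocFree_of_type K h.inv M h.iso.some

theorem Typed.of_iso (h : Typed K L r M) (i : L ≅ L') : Typed K L' r M :=
  ⟨h.coh, h.iso.map fun e => e ≪≫ Limits.Sigma.mapIso fun _ => i, EGA73.isInvertible_of_iso i h.inv⟩

theorem Typed.pow (h : Typed K L r M) (a : ℕ) : Typed K L (a * r) (BrSev.pow M a) := by
  haveI : HasFiniteBiproducts X.Modules := HasFiniteBiproducts.of_hasFiniteProducts
  refine ⟨?_, ?_, h.inv⟩
  · haveI : IsLocallyNoetherian X := LocallyOfFiniteType.isLocallyNoetherian (X ↘ Spec (CommRingCat.of k))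
    exact KSchm95.isCoh_of_retract (biproduct.isoCoproduct fun _ : Fin a => M).inv
      (biproduct.isoCoproduct fun _ : Fin a => M).hom (Iso.inv_hom_id _)
      (QC70.isCoh_biproduct (fun _ : Fin a => M) fun _ => h.coh)
  · exact h.iso.map fun e => bcPowIso (k := k) K M a ≪≫ Limits.Sigma.mapIso (fun _ => e) ≪≫ powPowIso L r a

theorem Typed.tensor (h : Typed K L r M) (h' : Typed K L' r' M') :
    Typed K (CohB1.tensorMod L L') (r * r') (CohB1.tensorMod M M') := by
  haveI := h.coh.1; haveI := h.coh.2; haveI := h'.coh.1; haveI := h'.coh.2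
  refine ⟨⟨QCTens72.isQuasicoherent_tensorMod _ _, QCTens72.isFiniteType_tensorMod _ _⟩, ?_,
    EGA73.isInvertible_tensorMod h.inv h'.inv⟩
  obtain ⟨a⟩ := h.iso
  obtain ⟨b⟩ := h'.iso
  obtain ⟨p⟩ := TwTens96.nonempty_pow_tens L L' r r'
  exact ⟨TwTens96.pullTensIso (FF71.bcπ k X K) M M' ≪≫ EGA73.tensIso a b ≪≫ p⟩

section

variable (h : Typed K L r M)

include hΓ h

theorem Typed.finrank_end : Module.finrank k (End M) = r * r := by
  obtain ⟨e⟩ := h.iso
  exact ASB64.finrank_end h.coh hΓ h.inv e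

theorem Typed.csa (hr : 0 < r) :
    Algebra.IsCentral k (End M) ∧ IsSimpleRing (End M) ∧ FiniteDimensional k (End M) := by
  obtain ⟨e⟩ := h.iso
  exact Csa77.csa_of_splits ⟨r, hr.ne', nonempty_endMatrix h.coh hΓ h.inv e⟩

theorem Typed.not_isZero (hr : 0 < r) : ¬ IsZero M := fun hz => by
  obtain ⟨-, hs, -⟩ := h.csa hΓ hr
  exact not_subsingleton (End M) ⟨fun a b => hz.eq_of_src _ _⟩

theorem Typed.pos (hi : KSchm95.Indec M) : 0 < r := by
  obtain ⟨e⟩ := h.iso
  exact pos_of_not_isZero h.coh hΓ h.inv e hi.1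

end

include hΓ

/-- An isomorphism does not change the class. -/
theorem endCl_iso (h : Typed K L r M) (h' : Typed K L r' M') (hr : 0 < r) (hr' : 0 < r') (e : M ≅ M') :
    endCl (k := k) M = endCl (k := k) M' := by
  obtain ⟨_, _, _⟩ := h.csa hΓ hr
  obtain ⟨_, _, _⟩ := h'.csa hΓ hr'
  rw [endCl_eq, endCl_eq]
  exact cl_congr (conjAlg e)

/-- A power has the same class. -/
theorem endCl_pow (h : Typed K L r M) (hr : 0 < r) {a : ℕ} (ha : 0 < a) :
    endCl (k := k) (BrSev.pow M a) = endCl (k := k) M := by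
  obtain ⟨_, _, _⟩ := h.csa hΓ hr
  obtain ⟨_, _, _⟩ := (h.pow a).csa hΓ (Nat.mul_pos ha hr)
  haveI : HasFiniteBiproducts X.Modules := HasFiniteBiproducts.of_hasFiniteProducts
  haveI : NeZero a := ⟨ha.ne'⟩
  rw [endCl_eq, endCl_eq]
  exact (cl_congr ((conjAlg (biproduct.isoCoproduct fun _ : Fin a => M).symm).trans (endPowEquiv M a))).trans
    (cl_matrix (End M) a)

/-- Modules of one type have the same class. -/
theorem endCl_eq_of_type [Algebra.IsAlgebraic k K] (h : Typed K L r M) (h' : Typed K L r' M') (hr : 0 < r)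
    (hr' : 0 < r') : endCl (k := k) M = endCl (k := k) M' := by
  obtain ⟨e⟩ := (h.pow r').iso
  obtain ⟨e'⟩ := (h'.pow r).iso
  obtain ⟨i⟩ := Groth.Agent.S13687.result k (X ↘ Spec (CommRingCat.of k)) K _ _ (h.pow r').coh (h'.pow r).coh
    (e ≪≫ Limits.Sigma.reindex (finCongr (Nat.mul_comm r' r)) (fun _ : Fin (r * r') => L) ≪≫ e'.symm)
  rw [← endCl_pow hΓ h hr hr', ← endCl_pow hΓ h' hr' hr]
  exact endCl_iso hΓ (h.pow r') (h'.pow r) (Nat.mul_pos hr' hr) (Nat.mul_pos hr hr') i

/-- The class is multiplicative. -/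
theorem endCl_tensor (h : Typed K L r M) (h' : Typed K L' r' M') (hr : 0 < r) (hr' : 0 < r') :
    endCl (k := k) (CohB1.tensorMod M M') = endCl (k := k) M * endCl (k := k) M' := by
  obtain ⟨_, _, _⟩ := h.csa hΓ hr
  obtain ⟨_, _, _⟩ := h'.csa hΓ hr'
  obtain ⟨_, _, _⟩ := (h.tensor h').csa hΓ (Nat.mul_pos hr hr')
  rw [endCl_eq, endCl_eq, endCl_eq, ← cl_tensor]
  let φ := endTens (k := k) M M'
  have hinj : Function.Injective φ.toLinearMap := φ.toRingHom.injective
  have hdim : Module.finrank k (End M ⊗[k] End M') = Module.finrank k (End (CohB1.tensorMod M M')) := by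
    rw [Module.finrank_tensorProduct, h.finrank_end hΓ, h'.finrank_end hΓ, (h.tensor h').finrank_end hΓ]
    ring
  have hsurj := (LinearMap.injective_iff_surjective_of_finrank_eq_finrank hdim (f := φ.toLinearMap)).mp hinj
  exact (cl_congr (AlgEquiv.ofBijective φ ⟨hinj, hsurj⟩)).symm

/-- A module becoming invertible has trivial class. -/
theorem endCl_type_one (h : Typed K L 1 M) : endCl (k := k) M = 1 := by
  obtain ⟨_, _, _⟩ := h.csa hΓ one_pos
  rw [endCl_eq, ← cl_field]
  have hd : Module.finrank k (End M) = Module.finrank k k := by rw [h.finrank_end hΓ, Module.finrank_self]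
  have hinj : Function.Injective (Algebra.ofId k (End M)).toLinearMap := (algebraMap k (End M)).injective
  exact (cl_congr (AlgEquiv.ofBijective (Algebra.ofId k (End M))
    ⟨hinj, (LinearMap.injective_iff_surjective_of_finrank_eq_finrank hd.symm).mp hinj⟩)).symm

omit hΓ in
theorem typed_structureModule : Typed K (Coh.structureModule (FF71.bc k X K)) 1 (Coh.structureModule X) :=
  Typed.mk' (isFinLocFree_of_isInvertible EGA73.isInvertible_structureModule) EGA73.isInvertible_structureModule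
    ⟨PicLoc.pullbackStructureIso _ ≪≫ (coproductUniqueIso fun _ : Fin 1 => _).symm⟩

/-- A module whose type is trivial has trivial class. -/
theorem endCl_eq_one_of_trivial [Algebra.IsAlgebraic k K] (h : Typed K L r M) (hr : 0 < r)
    (i : L ≅ Coh.structureModule (FF71.bc k X K)) : endCl (k := k) M = 1 :=
  (endCl_eq_of_type hΓ (h.of_iso i) typed_structureModule hr one_pos).trans (endCl_type_one hΓ typed_structureModule)

/-- The index of the class of an indecomposable module is its multiplicity. -/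
theorem isIndex_of_indec (h : Typed K L r M) (hi : KSchm95.Indec M) {B : Type u} [Ring B] [Algebra k B]
    [Algebra.IsCentral k B] [IsSimpleRing B] [FiniteDimensional k B] (hB : cl k B = endCl (k := k) M) :
    CSAGal.IsIndex k B r := by
  have hr := h.pos hΓ hi
  obtain ⟨_, _, _⟩ := h.csa hΓ hr
  obtain ⟨e⟩ := h.iso
  rw [endCl_eq] at hB
  letI : DivisionRing (End M) := DivisionRing.ofIsUnitOrEqZero fun a =>
    (eq_or_ne a 0).symm.imp_left (isUnit_of_ne_zero h.coh hΓ h.inv e hi a)
  refine isIndex_of_cl_eq hB.symm (Brauer24.isIndex_of_matrix (m := 1) (D := End M)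
    (finOneEquiv (k := k) (End M)) ?_)
  rw [h.finrank_end hΓ, pow_two]

/-- The index of any algebra generating the same subgroup is the multiplicity. -/
theorem isIndex_of_zpowers_eq (h : Typed K L r M) (hi : KSchm95.Indec M) {B : Type u} [Ring B] [Algebra k B]
    [Algebra.IsCentral k B] [IsSimpleRing B] [FiniteDimensional k B]
    (hB : Subgroup.zpowers (cl k B) = Subgroup.zpowers (endCl (k := k) M)) : CSAGal.IsIndex k B r := by
  have hr := h.pos hΓ hi
  obtain ⟨_, _, _⟩ := h.csa hΓ hr
  have hM := isIndex_of_indec hΓ h hi (B := End M) (endCl_eq M).symm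
  rw [endCl_eq] at hB
  obtain ⟨d, hd⟩ := exists_isIndex (k := k) B
  have h1 : d ∣ r := isIndex_dvd_of_mem_zpowers (A := End M) (B := B)
    (hB ▸ Subgroup.mem_zpowers (cl k B)) hM hd
  have h2 : r ∣ d := isIndex_dvd_of_mem_zpowers (A := B) (B := End M)
    (hB.symm ▸ Subgroup.mem_zpowers (cl k (End M))) hd hM
  rwa [← Nat.dvd_antisymm h1 h2]

/-- An indecomposable constituent. -/
theorem exists_indec_typed (h : Typed K L r M) (hr : 0 < r) :
    ∃ (G : X.Modules) (t : ℕ), KSchm95.Indec G ∧ 0 < t ∧ Typed K L t G := by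
  haveI := KSchm95.isArtinianRing_end (k := k) M h.coh
  haveI : HasFiniteBiproducts X.Modules := HasFiniteBiproducts.of_hasFiniteProducts
  haveI : HasFiniteBiproducts (FF71.bc k X K).Modules := HasFiniteBiproducts.of_hasFiniteProducts
  haveI := h.coh.1; haveI := h.coh.2
  haveI := KSchm95.isArtinianRing_end (k := K) (bcObj (k := k) K M)
    ⟨QCPull72.isQuasicoherent_pullback _ M, QCPull72.isFiniteType_pullback _ M⟩
  haveI : IsLocallyNoetherian X := LocallyOfFiniteType.isLocallyNoetherian (X ↘ Spec (CommRingCat.of k))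
  obtain ⟨e⟩ := h.iso
  obtain ⟨n, Gs, hGs, ⟨eM⟩⟩ := KSchm95.exists_decomp M
  obtain ⟨i₀⟩ : Nonempty (Fin n) := by
    rcases Nat.eq_zero_or_pos n with rfl | hn
    · exact (h.not_isZero hΓ hr (IsZero.of_iso
        ((IsZero.iff_id_eq_zero _).mpr (biproduct.hom_ext _ _ fun a => a.elim0)) eM)).elim
    · exact ⟨⟨0, hn⟩⟩
  let Φ := Scheme.Modules.pullback (FF71.bcπ k X K)
  let i := biproduct.ι Gs i₀ ≫ eM.inv
  let s := eM.hom ≫ biproduct.π Gs i₀
  have his : i ≫ s = 𝟙 _ := by simp [i, s]
  obtain ⟨t, τ, ⟨f⟩⟩ := exists_subfamily (fun _ : Fin r => L)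
    (fun _ => indec_of_scalar (bijective_smul_id hΓ h.inv))
    (e ≪≫ (biproduct.isoCoproduct fun _ : Fin r => L).symm) (Φ.map i) (Φ.map s)
    ((Φ.map_comp i s).symm.trans ((congrArg Φ.map his).trans (Φ.map_id _)))
  have hG : Typed K L t (Gs i₀) :=
    ⟨KSchm95.isCoh_of_retract i s his h.coh, ⟨f ≪≫ biproduct.isoCoproduct fun _ : Fin t => L⟩, h.inv⟩
  exact ⟨_, t, hGs i₀, hG.pos hΓ (hGs i₀), hG⟩

/-- The class is trivial exactly when the type descends to an invertible module. -/
theorem endCl_eq_one_iff [Algebra.IsAlgebraic k K] (h : Typed K L r M) (hr : 0 < r) :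
    endCl (k := k) M = 1 ↔
      ∃ N : X.Modules, PicF.IsInvertible N ∧ Nonempty (bcObj (k := k) K N ≅ L) := by
  constructor
  · intro h1
    obtain ⟨G, t, hGi, ht, hG⟩ := exists_indec_typed hΓ h hr
    obtain ⟨_, _, _⟩ := h.csa hΓ hr
    have hk : CSAGal.IsIndex k k t := isIndex_of_indec hΓ hG hGi
      (by rw [cl_field, ← h1]; exact endCl_eq_of_type hΓ h hG hr ht)
    have ht1 : t = 1 := isIndex_unique hk (splits_iff_isIndex_one.mp (splits_iff_cl_eq_one.mpr cl_field))
    subst ht1
    haveI := hG.coh.1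
    obtain ⟨e⟩ := hG.iso
    exact ⟨G, isInvertible_of_type_one K hG.inv G e, ⟨e ≪≫ coproductUniqueIso fun _ : Fin 1 => L⟩⟩
  · rintro ⟨N, hN, ⟨e⟩⟩
    have hN' : Typed K L 1 N :=
      Typed.mk' (isFinLocFree_of_isInvertible hN) h.inv
        ⟨e ≪≫ (coproductUniqueIso fun _ : Fin 1 => L).symm⟩
    exact (endCl_eq_of_type hΓ h hN' hr one_pos).trans (endCl_type_one hΓ hN')

end Groth.Agent.ASB64

end
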