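import Groth.Agent.ASB64.GalSplit
import Groth.Agent.ASB64.TypeClass
import Groth.Agent.VarGal.Action
import Groth.Agent.QCqs72.Basic
import Groth.Agent.QC70.PushFinite
import Groth.Agent.EGA73.GammaStarIso
import Groth.Agent.Serre71.Complex

/-! The direct image along a finite Galois extension of scalars splits after extending scalars. -/

set_option autoImplicit false
set_option maxSynthPendingDepth 6
set_option synthInstance.maxHeartbeats 200000
set_option linter.style.haveILetI false
set_option backward.isDefEq.respectTransparency.types false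
universe u

noncomputable section

open CategoryTheory CategoryTheory.Limits AlgebraicGeometry TopologicalSpace TensorProduct

namespace Groth.Agent.ASB64

open QC70 FF71 QCPull72 Mum71

variable (k : Type u) [Field k] (X : Scheme.{u}) [X.Over (Spec (CommRingCat.of k))]
  (K : Type u) [Field K] [Algebra k K]

/-- The Galois action, read on the base change. -/
abbrev gal (σ : K ≃ₐ[k] K) : bc k X K ⟶ bc k X K := Curv2.galAct k X K σ

theorem gal_bcπ (σ : K ≃ₐ[k] K) : gal k X K σ ≫ bcπ k X K = bcπ k X K := VarGal.galAct_fst σ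

theorem gal_preimage (σ : K ≃ₐ[k] K) (V : X.Opens) :
    gal k X K σ ⁻¹ᵁ (bcπ k X K ⁻¹ᵁ V) = bcπ k X K ⁻¹ᵁ V := by
  rw [← Scheme.Hom.comp_preimage, gal_bcπ]

theorem gal_app_rA (σ : K ≃ₐ[k] K) (W : (bc k X K).Opens) (c : K) :
    (gal k X K σ).app W (rA K (bc k X K) W c) = rA K (bc k X K) (gal k X K σ ⁻¹ᵁ W) (σ c) := by
  have h := congrArg (fun φ => Scheme.Hom.appTop φ) (VarGal.galAct_snd (k := k) (X := X) (K := K) σ)
  simp only [Scheme.Hom.comp_appTop] at h
  have h2 := Scheme.ΓSpecIso_inv_naturality (CommRingCat.ofHom (σ : K →ₐ[k] K).toRingHom)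
  have h3 := congrArg (fun φ => φ ((Scheme.ΓSpecIso (CommRingCat.of K)).inv c)) h
  simp only [CategoryTheory.comp_apply] at h3
  show (gal k X K σ).app W (resO _ le_top (Scheme.Hom.appTop (Curv2.bcSnd k X K) ((Scheme.ΓSpecIso _).inv c))) =
    resO _ le_top (Scheme.Hom.appTop (Curv2.bcSnd k X K) ((Scheme.ΓSpecIso _).inv (σ c)))
  rw [QCqs72.app_resO]
  refine congrArg (resO _ le_top) (h3.trans ?_)
  exact congrArg _ (congrArg (fun φ => φ c) h2).symm

variable {k X K} (L : (bc k X K).Modules)

/-- The comparison map to one conjugate, from the other side of the adjunction. -/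
def conjMap (σ : K ≃ₐ[k] K) :
    (Scheme.Modules.pushforward (bcπ k X K)).obj L ⟶
      (Scheme.Modules.pushforward (bcπ k X K)).obj ((Scheme.Modules.pushforward (gal k X K σ)).obj L) :=
  (Scheme.Modules.pushforwardCongr (gal_bcπ k X K σ)).inv.app L ≫
    (Scheme.Modules.pushforwardComp (gal k X K σ) (bcπ k X K)).inv.app L

/-- The comparison map to one conjugate. -/
def pushComp (σ : K ≃ₐ[k] K) :
    (Scheme.Modules.pullback (bcπ k X K)).obj ((Scheme.Modules.pushforward (bcπ k X K)).obj L) ⟶
      (Scheme.Modules.pushforward (gal k X K σ)).obj L :=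
  ((Scheme.Modules.pullbackPushforwardAdjunction (bcπ k X K)).homEquiv _ _).symm (conjMap L σ)

theorem pushComp_unitSec (σ : K ≃ₐ[k] K) (V : X.Opens)
    (m : Γ((Scheme.Modules.pushforward (bcπ k X K)).obj L, V)) :
    (pushComp L σ).app _ (unitSec (bcπ k X K) _ (le_refl (bcπ k X K ⁻¹ᵁ V)) m) =
      res L (gal_preimage k X K σ V).le (show Γ(L, bcπ k X K ⁻¹ᵁ V) from m) := by
  have h := (Scheme.Modules.pullbackPushforwardAdjunction (bcπ k X K)).homEquiv_unit
    (X := (Scheme.Modules.pushforward (bcπ k X K)).obj L) (f := pushComp L σ)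
  rw [show ((Scheme.Modules.pullbackPushforwardAdjunction (bcπ k X K)).homEquiv _ _) (pushComp L σ) = conjMap L σ from
    Equiv.apply_symm_apply _ _] at h
  have h2 := congrArg (fun φ => φ.app V m) h
  unfold unitSec
  rw [res_self]
  exact h2.symm

variable [FiniteDimensional k K]

instance isFinite_bcπ : IsFinite (bcπ k X K) :=
  haveI : IsFinite (Spec.map (CommRingCat.ofHom (algebraMap k K))) :=
    (IsFinite.SpecMap_iff _).mpr (RingHom.finite_algebraMap.mpr inferInstance)
  MorphismProperty.of_isPullback (P := @IsFinite) (IsPullback.of_hasPullback _ _).flip inferInstance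

variable [IsGalois k K] [L.IsQuasicoherent]

/-- The conjugates of a module. -/
abbrev conjFam : (K ≃ₐ[k] K) → (bc k X K).Modules :=
  fun σ => (Scheme.Modules.pushforward (gal k X K σ)).obj L

set_option maxHeartbeats 800000 in
theorem nonempty_split {r : ℕ} (g : Fin r ≃ (K ≃ₐ[k] K)) :
    Nonempty ((Scheme.Modules.pullback (bcπ k X K)).obj ((Scheme.Modules.pushforward (bcπ k X K)).obj L) ≅
      ∐ fun i => conjFam L (g i)) := by
  haveI : HasFiniteBiproducts (bc k X K).Modules := HasFiniteBiproducts.of_hasFiniteProducts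
  let π := bcπ k X K
  let F := (Scheme.Modules.pushforward π).obj L
  haveI : F.IsQuasicoherent := QCqs72.isQuasicoherent_pushforward (M := L) π
  haveI := QCPull72.isQuasicoherent_pullback π F
  haveI : ∀ i, (conjFam L (g i)).IsQuasicoherent := fun i => by
    haveI : IsIso (gal k X K (g i)) := VarGal.isIso_galAct (g i)
    exact QCqs72.isQuasicoherent_pushforward (M := L) _
  let Φ : (Scheme.Modules.pullback π).obj F ⟶ ⨁ fun i => conjFam L (g i) :=
    biproduct.lift fun i => pushComp L (g i)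
  haveI : (⨁ fun i => conjFam L (g i)).IsQuasicoherent := Serre71.isQuasicoherent_biproduct _ fun i => inferInstance
  suffices IsIso Φ from ⟨asIso Φ ≪≫ biproduct.isoCoproduct _⟩
  refine EGA73.isIso_of_bijective_cover Φ (fun V : X.affineOpens => π ⁻¹ᵁ V.1) (fun V => V.2.preimage π)
    (fun x => ?_) fun V => ?_
  · obtain ⟨V, hV, hx, -⟩ := exists_isAffineOpen_mem_and_subset (x := π x) (U := ⊤) trivial
    exact ⟨⟨V, hV⟩, hx⟩
  letI : Module K Γ(F, V.1) :=
    show Module K Γ(L, π ⁻¹ᵁ V.1) from Module.compHom _ (rA K (bc k X K) (π ⁻¹ᵁ V.1))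
  let pr : Γ(⨁ fun i => conjFam L (g i), π ⁻¹ᵁ V.1) → Fin r → Γ(L, π ⁻¹ᵁ V.1) := fun y i =>
    res L (gal_preimage k X K (g i) V.1).ge
      (show Γ(L, gal k X K (g i) ⁻¹ᵁ (π ⁻¹ᵁ V.1)) from (biproduct.π (fun i => conjFam L (g i)) i).app _ y)
  have hpr : Function.Injective pr := fun y y' h => Serre71.biproduct_app_ext _ _ fun i => by
    have h'' := congrArg (res L (gal_preimage k X K (g i) V.1).le) (congrFun h i)
    simp only [pr] at h''
    rw [res_res, res_res, res_self, res_self] at h''
    exact h''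
  have h1 : ∀ z i, pr (Φ.app _ z) i = res L (gal_preimage k X K (g i) V.1).ge
      (show Γ(L, gal k X K (g i) ⁻¹ᵁ (π ⁻¹ᵁ V.1)) from (pushComp L (g i)).app _ z) := fun z i =>
    congrArg (fun φ : _ ⟶ conjFam L (g i) => res L (gal_preimage k X K (g i) V.1).ge
      (show Γ(L, gal k X K (g i) ⁻¹ᵁ (π ⁻¹ᵁ V.1)) from φ.app _ z)) (biproduct.lift_π (fun i => pushComp L (g i)) i)
  let T : Γ(F, V.1) ⊗[k] K →+ ((K ≃ₐ[k] K) → Γ(F, V.1)) :=
    AddMonoidHom.mk' (fun z σ => pr (Φ.app _ (bcMap F K V.2 rfl z)) (g.symm σ)) fun a b => by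
      funext σ
      show pr _ _ = pr _ _ + pr _ _
      rw [h1, h1, h1, ← QC70.res_add]
      exact congrArg _ ((congrArg _ (map_add _ a b)).trans (map_add _ _ _))
  have hT : Function.Bijective T := by
    refine galSplit_bijective (M := Γ(F, V.1)) ?_ T ?_
    · intro a m
      show rA K (bc k X K) (π ⁻¹ᵁ V.1) (algebraMap k K a) • (show Γ(L, π ⁻¹ᵁ V.1) from m) =
        π.app V.1 (rA k X V.1 a) • (show Γ(L, π ⁻¹ᵁ V.1) from m)
      rw [← appLE_rA K V.2 rfl, Scheme.Hom.app_eq_appLE]
    · intro m c σ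
      refine (h1 _ _).trans ?_
      have hσ : g (g.symm σ) = σ := g.apply_symm_apply σ
      rw [bcMap_tmul, Scheme.Modules.Hom.app_smul, pushComp_unitSec]
      show res L (gal_preimage k X K (g (g.symm σ)) V.1).ge ((gal k X K (g (g.symm σ))).app (π ⁻¹ᵁ V.1) (rA K (bc k X K) (π ⁻¹ᵁ V.1) c) •
        res L (gal_preimage k X K (g (g.symm σ)) V.1).le (show Γ(L, π ⁻¹ᵁ V.1) from m)) = _
      rw [res_smul, res_res, res_self, gal_app_rA, resO_rA, hσ]
      rfl
  refine ⟨fun a b h => ?_, fun y => ?_⟩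
  · obtain ⟨a, rfl⟩ := (bcMap_bijective F K V.2 rfl).2 a
    obtain ⟨b, rfl⟩ := (bcMap_bijective F K V.2 rfl).2 b
    exact congrArg _ (hT.1 (funext fun σ => congrArg (fun x => pr x (g.symm σ)) h))
  · obtain ⟨z, hz⟩ := hT.2 (fun σ => pr y (g.symm σ))
    exact ⟨_, hpr (funext fun i => by
      have h' := congrFun hz (g i)
      simp only [T, AddMonoidHom.mk'_apply, Equiv.symm_apply_apply] at h'
      exact h')⟩

/-- The direct image along an isomorphism fixing the class of a module. -/
def pushIsoOfPullIso {Y Z : Scheme.{u}} (h : Y ⟶ Z) [IsIso h] {M : Z.Modules} {N : Y.Modules}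
    (e : (Scheme.Modules.pullback h).obj M ≅ N) : (Scheme.Modules.pushforward h).obj N ≅ M :=
  let E : (Scheme.Modules.pushforward h).IsEquivalence :=
    (CategoryTheory.Equivalence.mk (Scheme.Modules.pushforward h) (Scheme.Modules.pushforward (inv h))
      ((Scheme.Modules.pushforwardId Y).symm ≪≫ Scheme.Modules.pushforwardCongr (IsIso.hom_inv_id h).symm ≪≫
        (Scheme.Modules.pushforwardComp h (inv h)).symm)
      (Scheme.Modules.pushforwardComp (inv h) h ≪≫ Scheme.Modules.pushforwardCongr (IsIso.inv_hom_id h) ≪≫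
        Scheme.Modules.pushforwardId Z)).isEquivalence_functor
  haveI := E
  haveI := (Scheme.Modules.pullbackPushforwardAdjunction h).isEquivalence_left_of_isEquivalence_right
  (Scheme.Modules.pushforward h).mapIso e.symm ≪≫
    (asIso ((Scheme.Modules.pullbackPushforwardAdjunction h).unit.app M)).symm

variable [IsProper (X ↘ Spec (CommRingCat.of k))]

/-- A Galois invariant invertible module is the type of its direct image. -/
theorem exists_typed (hL : PicF.IsInvertible L)
    (hinv : ∀ σ : K ≃ₐ[k] K, Nonempty ((Scheme.Modules.pullback (gal k X K σ)).obj L ≅ L)) :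
    Typed K L (Module.finrank k K) ((Scheme.Modules.pushforward (bcπ k X K)).obj L) := by
  haveI : IsLocallyNoetherian X := LocallyOfFiniteType.isLocallyNoetherian (X ↘ Spec (CommRingCat.of k))
  have hf := isFinLocFree_of_isInvertible hL
  refine ⟨QC70.isCoh_pushforward_of_isFinite (f := bcπ k X K) (H := L)
    ⟨Props58.LocFree.isQuasicoherent_of_isFinLocFree hf, Props58.LocFree.isFiniteType_of_isFinLocFree hf⟩, ?_, hL⟩
  let g : Fin (Module.finrank k K) ≃ (K ≃ₐ[k] K) :=
    (Fintype.equivFinOfCardEq (by rw [← Nat.card_eq_fintype_card, IsGalois.card_aut_eq_finrank])).symm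
  obtain ⟨e⟩ := nonempty_split L g
  exact ⟨e ≪≫ Limits.Sigma.mapIso fun i =>
    haveI : IsIso (gal k X K (g i)) := VarGal.isIso_galAct (g i)
    pushIsoOfPullIso (gal k X K (g i)) (hinv (g i)).some⟩

end Groth.Agent.ASB64
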