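import Groth.Agent.KSchm95.Modules
import Groth.Prelude.Def_KLin
import Mathlib.RingTheory.TensorProduct.Maps

/-! Morphisms of base changes of modules along a field extension. -/

set_option autoImplicit false
set_option maxSynthPendingDepth 6
set_option synthInstance.maxHeartbeats 200000
set_option linter.style.haveILetI false
set_option backward.isDefEq.respectTransparency.types false

universe u

noncomputable section

open CategoryTheory CategoryTheory.Limits AlgebraicGeometry TopologicalSpace Opposite TensorProduct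

namespace Groth.Agent.ASB64

open Coh69 CechComp71 QC70 QCPull72 FF71 Mum71 KSchm95

variable {k : Type u} [Field k] {X : Scheme.{u}} [X.Over (Spec (CommRingCat.of k))]
variable (K : Type u) [CommRing K] [Algebra k K]

/-- Morphisms out of a base change agree if they agree on pulled back sections over affine opens. -/
theorem hom_ext_unitSec {F : X.Modules} [F.IsQuasicoherent] {N : (bc k X K).Modules}
    (ψ ψ' : bcMod (A := k) F K ⟶ N)
    (h : ∀ V : X.affineOpens, ∀ y : Γ(F, V.1),
      ψ.app _ (unitSec (bcπ k X K) F (le_refl (bcπ k X K ⁻¹ᵁ V.1)) y) =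
        ψ'.app _ (unitSec (bcπ k X K) F (le_refl (bcπ k X K ⁻¹ᵁ V.1)) y)) : ψ = ψ' := by
  haveI : IsAffineHom (bcπ k X K) := inferInstance
  haveI := QCPull72.isQuasicoherent_pullback (bcπ k X K) F
  rw [← sub_eq_zero]
  refine hom_eq_zero_of_cover _ (fun V : X.affineOpens => bcπ k X K ⁻¹ᵁ V.1) ?_
    (fun V => V.2.preimage _) (fun V => isLocAt_of_isQuasicoherent _ (V.2.preimage _)) fun V x => ?_
  · rw [← Scheme.Hom.preimage_iSup, iSup_affineOpens_eq_top X]
    rfl
  · rw [Scheme.Modules.Hom.sub_app]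
    show ψ.app _ x - ψ'.app _ x = 0
    rw [sub_eq_zero]
    have hx : x ∈ Submodule.span Γ(bc k X K, bcπ k X K ⁻¹ᵁ V.1)
        (Set.range (unitSec (bcπ k X K) F (le_refl (bcπ k X K ⁻¹ᵁ V.1)))) := by
      rw [span_unitSec_eq_top (bcπ k X K) F V.2 (V.2.preimage _)]; trivial
    induction hx using Submodule.span_induction with
    | mem y hy => obtain ⟨z, rfl⟩ := hy; exact h V z
    | zero => simp
    | add a c _ _ ha hc => simp only [map_add, ha, hc]
    | smul a c _ hc => rw [Scheme.Modules.Hom.app_smul, Scheme.Modules.Hom.app_smul, hc]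

theorem smul_app_rA {A : Type u} [CommRing A] {Y : Scheme.{u}} [Y.Over (Spec (CommRingCat.of A))]
    {M N : Y.Modules} (a : A) (φ : M ⟶ N) (U : Y.Opens) (m : Γ(M, U)) :
    (a • φ).app U m = rA A Y U a • φ.app U m := KLin.smul_app_apply a φ U m

theorem app_add_apply {Y : Scheme.{u}} {M N : Y.Modules} (φ ψ : M ⟶ N) (U : Y.Opens) (m : Γ(M, U)) :
    (φ + ψ).app U m = φ.app U m + ψ.app U m := by
  rw [Scheme.Modules.Hom.add_app]; rfl

/-- Pullback is semilinear in scalars. -/
theorem map_smul_bc {F G : X.Modules} [F.IsQuasicoherent] (a : k) (u : F ⟶ G) :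
    (Scheme.Modules.pullback (bcπ k X K)).map (a • u) =
      algebraMap k K a • (Scheme.Modules.pullback (bcπ k X K)).map u := by
  refine hom_ext_unitSec K _ _ fun V y => ?_
  rw [smul_app_rA, LimTop61.pullback_map_app_unitSec (bcπ k X K) (a • u) le_rfl y, smul_app_rA,
    LimTop61.unitSec_smul, appLE_rA K V.2 rfl, LimTop61.pullback_map_app_unitSec (bcπ k X K) u le_rfl y]

variable (F G : X.Modules) [F.IsQuasicoherent]

/-- A scalar times a base-changed morphism, additively in both arguments. -/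
def pullMap : K →+ (F ⟶ G) →+ (bcMod (A := k) F K ⟶ bcMod (A := k) G K) where
  toFun c := (DistribSMul.toAddMonoidHom (bcMod (A := k) F K ⟶ bcMod (A := k) G K) c).comp
    (Scheme.Modules.pullback (bcπ k X K)).mapAddHom
  map_zero' := AddMonoidHom.ext fun u => zero_smul K ((Scheme.Modules.pullback (bcπ k X K)).map u)
  map_add' c d := AddMonoidHom.ext fun u => add_smul c d ((Scheme.Modules.pullback (bcπ k X K)).map u)

theorem pullMap_apply (c : K) (u : F ⟶ G) :
    pullMap (k := k) K F G c u = c • (Scheme.Modules.pullback (bcπ k X K)).map u := rfl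

theorem pullMap_balanced (r : k) (c : K) (u : F ⟶ G) :
    pullMap (k := k) K F G (r • c) u = pullMap (k := k) K F G c (r • u) := by
  rw [pullMap_apply, pullMap_apply, map_smul_bc, smul_smul, Algebra.smul_def, mul_comm]

/-- Linear combinations of base-changed morphisms. -/
def toBCAdd : K ⊗[k] (F ⟶ G) →+ (bcMod (A := k) F K ⟶ bcMod (A := k) G K) :=
  TensorProduct.liftAddHom (pullMap (k := k) K F G) (pullMap_balanced K F G)

theorem toBCAdd_smul (d : K) (z : K ⊗[k] (F ⟶ G)) : toBCAdd (k := k) K F G (d • z) = d • toBCAdd (k := k) K F G z := by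
  induction z using TensorProduct.induction_on with
  | zero => rw [smul_zero, map_zero]; exact (smul_zero d).symm
  | add x y hx hy => rw [smul_add, map_add, map_add, hx, hy]; exact (smul_add d _ _).symm
  | tmul c u => exact mul_smul d c _

/-- Linear combinations of base-changed morphisms. -/
def toBC : K ⊗[k] (F ⟶ G) →ₗ[K] (bcMod (A := k) F K ⟶ bcMod (A := k) G K) :=
  { toBCAdd (k := k) K F G with map_smul' := toBCAdd_smul K F G }

theorem toBC_tmul (c : K) (u : F ⟶ G) :
    toBC (k := k) K F G (c ⊗ₜ u) = c • (Scheme.Modules.pullback (bcπ k X K)).map u := rfl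

theorem toBC_app_unitSec [G.IsQuasicoherent] {I : Type*} (b : Module.Basis I k K) (T : Finset I)
    (u : I → (F ⟶ G)) (V : X.affineOpens) (y : Γ(F, V.1)) :
    (toBC (k := k) K F G (∑ i ∈ T, b i ⊗ₜ u i)).app _ (unitSec (bcπ k X K) F (le_refl (bcπ k X K ⁻¹ᵁ V.1)) y) =
      bcMap G K V.2 rfl (∑ i ∈ T, (u i).app V.1 y ⊗ₜ b i) := by
  rw [map_sum, map_sum]
  classical
  induction T using Finset.induction with
  | empty => simp only [Finset.sum_empty]; rfl
  | insert i t hi ih =>
    rw [Finset.sum_insert hi, Finset.sum_insert hi, ← ih]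
    refine (app_add_apply _ _ _ _).trans (congrArg₂ (· + ·) ?_ rfl)
    rw [toBC_tmul, smul_app_rA, LimTop61.pullback_map_app_unitSec (bcπ k X K) (u i) le_rfl y, bcMap_tmul]

theorem toBC_injective [G.IsQuasicoherent] : Function.Injective (toBC (k := k) K F G) := by
  classical
  rw [injective_iff_map_eq_zero]
  intro z hz
  let b := Module.Free.chooseBasis k K
  obtain ⟨T, rfl⟩ := TensorProduct.eq_repr_basis_left b z
  show (∑ i ∈ T.support, b i ⊗ₜ T i) = (0 : K ⊗[k] (F ⟶ G))
  refine Finset.sum_eq_zero fun i hi => ?_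
  rw [show T i = 0 from ?_, tmul_zero]
  refine hom_eq_zero_of_cover _ (fun V : X.affineOpens => V.1) (iSup_affineOpens_eq_top X) (fun V => V.2)
    (fun V => isLocAt_of_isQuasicoherent F V.2) fun V y => ?_
  have h1 : bcMap G K V.2 rfl (∑ j ∈ T.support, (T j).app V.1 y ⊗ₜ[k] b j) = 0 := by
    rw [← toBC_app_unitSec (k := k) K F G b T.support (fun j => T j) V y]
    show (toBC (k := k) K F G (∑ j ∈ T.support, b j ⊗ₜ T j)).app _ _ = 0
    rw [show toBC (k := k) K F G (∑ j ∈ T.support, b j ⊗ₜ T j) = 0 from hz]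
    rfl
  have h2 := (bcMap_bijective G K V.2 rfl).1 (h1.trans (map_zero _).symm)
  have h3 := congrArg (ctr K (b.coord i) Γ(G, V.1)) h2
  rw [map_zero, map_sum, Finset.sum_eq_single i] at h3
  · rwa [ctr_tmul, Module.Basis.coord_apply, b.repr_self, Finsupp.single_eq_same, one_smul] at h3
  · intro j _ hj
    rw [ctr_tmul, Module.Basis.coord_apply, b.repr_self, Finsupp.single_eq_of_ne hj.symm, zero_smul]
  · exact fun h => absurd hi h

theorem toBC_surjective [Nontrivial K] [CompactSpace X] [F.IsFiniteType] [G.IsQuasicoherent] :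
    Function.Surjective (toBC (k := k) K F G) := by
  classical
  intro φ
  let b := Module.Free.chooseBasis k K
  obtain ⟨𝒱, h𝒱⟩ := isCompact_univ.elim_finite_subcover (fun V : X.affineOpens => (V.1 : Set X))
    (fun V => V.1.2) fun x _ => Set.mem_iUnion.2 <| by
      obtain ⟨_, ⟨V, hV, rfl⟩, hxV, -⟩ :=
        X.isBasis_affineOpens.exists_subset_of_mem_open (Set.mem_univ x) isOpen_univ
      exact ⟨⟨V, hV⟩, hxV⟩
  have hgen : ∀ V : X.affineOpens, ∃ T : Finset (Module.Free.ChooseBasisIndex k K),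
      ∀ T' : Finset _, T ⊆ T' → ∀ y : Γ(F, V.1),
      φ.app _ (unitSec (bcπ k X K) F le_rfl y) = bcMap G K V.2 rfl
        (∑ i ∈ T', (ctrHom K φ (b.coord i)).app V.1 y ⊗ₜ b i) := by
    intro V
    obtain ⟨S, hS⟩ := (finite_sections_of_isFiniteType F V.2).fg_top
    have hx : ∀ y : Γ(F, V.1), ∃ T : Finset (Module.Free.ChooseBasisIndex k K), ∀ T' : Finset _, T ⊆ T' →
        φ.app _ (unitSec (bcπ k X K) F le_rfl y) = bcMap G K V.2 rfl
          (∑ i ∈ T', (ctrHom K φ (b.coord i)).app V.1 y ⊗ₜ b i) := fun y => by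
      obtain ⟨T, hT⟩ := exists_expansion K b _ ((bcEquiv K G V.2).symm (φ.app _ (unitSec (bcπ k X K) F le_rfl y)))
      refine ⟨T, fun T' hT' => ((bcEquiv K G V.2).apply_symm_apply _).symm.trans ?_⟩
      refine congrArg (bcMap G K V.2 rfl) ((hT T' hT').trans ?_)
      simp only [ctrHom_app K φ _ V.2]
      rfl
    choose T hT using hx
    refine ⟨S.biUnion T, fun T' hT' y => ?_⟩
    have hy : y ∈ Submodule.span Γ(X, V.1) (S : Set Γ(F, V.1)) := hS ▸ Submodule.mem_top
    induction hy using Submodule.span_induction with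
    | mem y hy => exact hT y T' ((Finset.subset_biUnion_of_mem T hy).trans hT')
    | zero => simp [LimTop61.unitSec_zero]
    | add a c _ _ ha hc =>
      simp only [LimTop61.unitSec_add, map_add, ha, hc, TensorProduct.add_tmul, Finset.sum_add_distrib]
    | smul a c _ hc =>
      rw [LimTop61.unitSec_smul, Scheme.Modules.Hom.app_smul, hc, ← bcMap_smul]
      refine congrArg (bcMap G K V.2 rfl) ?_
      simp only [map_sum, LinearMap.rTensor_tmul, Scheme.Modules.Hom.app_smul]
      rfl
  choose T hT using hgen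
  let T₀ := 𝒱.biUnion T
  refine ⟨∑ i ∈ T₀, b i ⊗ₜ ctrHom K φ (b.coord i), ?_⟩
  haveI := QCPull72.isQuasicoherent_pullback (bcπ k X K) F
  rw [← sub_eq_zero]
  have hcov : ⨆ V : 𝒱, bcπ k X K ⁻¹ᵁ V.1.1 = ⊤ := eq_top_iff.2 fun x _ => by
    obtain ⟨V, hV⟩ := Set.mem_iUnion.1 (h𝒱 (Set.mem_univ (bcπ k X K x)))
    obtain ⟨hV𝒱, hxV⟩ := Set.mem_iUnion.1 hV
    exact Opens.mem_iSup.2 ⟨⟨V, hV𝒱⟩, hxV⟩
  haveI : IsAffineHom (bcπ k X K) := inferInstance
  refine hom_eq_zero_of_cover _ (fun V : 𝒱 => bcπ k X K ⁻¹ᵁ V.1.1) hcov (fun V => V.1.2.preimage _)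
    (fun V => isLocAt_of_isQuasicoherent _ (V.1.2.preimage _)) fun V x => ?_
  rw [Scheme.Modules.Hom.sub_app]
  show (toBC (k := k) K F G _).app _ x - φ.app _ x = 0
  rw [sub_eq_zero]
  have hx : x ∈ Submodule.span Γ(bc k X K, bcπ k X K ⁻¹ᵁ V.1.1)
      (Set.range (unitSec (bcπ k X K) F (le_refl (bcπ k X K ⁻¹ᵁ V.1.1)))) := by
    rw [span_unitSec_eq_top (bcπ k X K) F V.1.2 (V.1.2.preimage _)]; trivial
  induction hx using Submodule.span_induction with
  | mem y hy =>
    obtain ⟨z, rfl⟩ := hy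
    rw [hT V.1 T₀ (Finset.subset_biUnion_of_mem T V.2) z]
    exact toBC_app_unitSec (k := k) K F G b T₀ (fun i => ctrHom K φ (b.coord i)) V.1 z
  | zero => simp
  | add a c _ _ ha hc => simp only [map_add, ha, hc]
  | smul a c _ hc => rw [Scheme.Modules.Hom.app_smul, Scheme.Modules.Hom.app_smul, hc]

/-- Linear combinations of base-changed endomorphisms, as a homomorphism of algebras. -/
def endBC : K ⊗[k] End F →ₐ[K] End (bcMod (A := k) F K) :=
  Algebra.TensorProduct.algHomOfLinearMapTensorProduct (toBC (k := k) K F F)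
    (fun c c' u u' => by
      show (c * c') • (Scheme.Modules.pullback (bcπ k X K)).map (u' ≫ u) =
        (c' • (Scheme.Modules.pullback (bcπ k X K)).map u') ≫ (c • (Scheme.Modules.pullback (bcπ k X K)).map u)
      rw [Linear.smul_comp, Linear.comp_smul, smul_smul, mul_comm c' c, Functor.map_comp])
    (by
      show (1 : K) • (Scheme.Modules.pullback (bcπ k X K)).map (𝟙 F) = _
      rw [one_smul, CategoryTheory.Functor.map_id]
      rfl)

theorem endBC_bijective [Nontrivial K] [CompactSpace X] [F.IsFiniteType] :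
    Function.Bijective (endBC (k := k) K F) :=
  ⟨toBC_injective K F F, toBC_surjective K F F⟩

end Groth.Agent.ASB64

end
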