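import Groth.Agent.ASB64.PushSplit
import Groth.Agent.ASB64.HomBC

/-! The direct image of a base change along a finite free algebra. -/

set_option autoImplicit false
set_option maxSynthPendingDepth 6
set_option synthInstance.maxHeartbeats 200000
set_option linter.style.haveILetI false
set_option backward.isDefEq.respectTransparency.types false
universe u

noncomputable section

open CategoryTheory CategoryTheory.Limits AlgebraicGeometry TopologicalSpace TensorProduct

namespace Groth.Agent.ASB64

open QC70 FF71 QCPull72 Mum71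

variable {k : Type u} [Field k] {X : Scheme.{u}} [X.Over (Spec (CommRingCat.of k))]

theorem flat_of_field {Z : Scheme.{u}} (x : Z ⟶ Spec (CommRingCat.of k)) : Flat x := by
  refine IsZariskiLocalAtSource.of_openCover Z.affineCover fun i => ?_
  obtain ⟨φ, hφ⟩ : ∃ φ, Spec.map φ = Z.affineCover.f i ≫ x := ⟨_, Spec.map_preimage _⟩
  show Flat (Z.affineCover.f i ≫ x)
  refine (congrArg (fun f => Flat f) hφ).mp ((HasRingHomProperty.Spec_iff (P := @Flat)).2 ?_)
  letI := φ.hom.toAlgebra
  exact Module.Flat.of_free (R := k)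

set_option maxHeartbeats 800000 in
/-- `π_*π^*N` is a sum of copies of `N`. -/
theorem nonempty_push_pull_iso (B : Type u) [CommRing B] [Algebra k B] [FiniteDimensional k B]
    (N : X.Modules) [N.IsQuasicoherent] :
    Nonempty ((Scheme.Modules.pushforward (bcπ k X B)).obj (bcMod (A := k) N B) ≅
      BrSev.pow N (Module.finrank k B)) := by
  classical
  haveI : HasFiniteBiproducts X.Modules := HasFiniteBiproducts.of_hasFiniteProducts
  let d := Module.finrank k B
  let b : Module.Basis (Fin d) k B := Module.finBasis k B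
  let π := bcπ k X B
  haveI := QCPull72.isQuasicoherent_pullback π N
  let ψ : Fin d → (N ⟶ (Scheme.Modules.pushforward π).obj (bcMod (A := k) N B)) := fun i =>
    QCPull72.pullUnit π N ≫ (Scheme.Modules.pushforward π).map (b i • 𝟙 (bcMod (A := k) N B))
  let Ψ : (⨁ fun _ : Fin d => N) ⟶ (Scheme.Modules.pushforward π).obj (bcMod (A := k) N B) := biproduct.desc ψ
  haveI : ((Scheme.Modules.pushforward π).obj (bcMod (A := k) N B)).IsQuasicoherent :=
    QCqs72.isQuasicoherent_pushforward (M := bcMod (A := k) N B) π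
  haveI : (⨁ fun _ : Fin d => N).IsQuasicoherent := Serre71.isQuasicoherent_biproduct _ fun i => inferInstance
  suffices IsIso Ψ from ⟨(asIso Ψ).symm ≪≫ biproduct.isoCoproduct _⟩
  refine EGA73.isIso_of_bijective_cover Ψ (fun V : X.affineOpens => V.1) (fun V => V.2) (fun x => ?_) fun V => ?_
  · obtain ⟨V, hV, hx, -⟩ := exists_isAffineOpen_mem_and_subset (x := x) (U := ⊤) trivial
    exact ⟨⟨V, hV⟩, hx⟩
  let q : Γ(⨁ fun _ : Fin d => N, V.1) → Fin d → Γ(N, V.1) := fun y i => (biproduct.π (fun _ : Fin d => N) i).app V.1 y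
  have hq : Function.Bijective q := by
    refine ⟨fun a c hac => Serre71.biproduct_app_ext _ _ fun i => congrFun hac i, fun v => ?_⟩
    refine ⟨∑ i, (biproduct.ι (fun _ : Fin d => N) i).app V.1 (v i), funext fun j => ?_⟩
    show (biproduct.π (fun _ : Fin d => N) j).app V.1 _ = v j
    rw [map_sum, Finset.sum_eq_single j]
    · exact congrArg (fun φ : N ⟶ N => φ.app V.1 (v j)) (biproduct.ι_π_self (fun _ : Fin d => N) j)
    · intro i _ hij
      exact congrArg (fun φ : N ⟶ N => φ.app V.1 (v i)) (biproduct.ι_π_ne (fun _ : Fin d => N) hij)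
    · exact fun h => absurd (Finset.mem_univ j) h
  let E := TensorProduct.equivFinsuppOfBasisRight (M := Γ(N, V.1)) b
  have hE : ∀ v : Fin d → Γ(N, V.1), E.symm (Finsupp.equivFunOnFinite.symm v) = ∑ i, v i ⊗ₜ[k] b i := fun v => by
    rw [TensorProduct.equivFinsuppOfBasisRight_symm_apply]
    exact Finsupp.sum_fintype _ _ fun i => TensorProduct.zero_tmul _ _
  have hkey : ∀ y, Ψ.app V.1 y = bcMap N B V.2 rfl (E.symm (Finsupp.equivFunOnFinite.symm (q y))) := by
    intro y
    have h1 : Ψ.app V.1 y = ∑ i, (ψ i).app V.1 (q y i) := by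
      have h2 : Ψ = ∑ i, biproduct.π (fun _ : Fin d => N) i ≫ ψ i := biproduct.desc_eq
      rw [h2]
      exact (Serre71.app_finset_sum Finset.univ _ _ y).trans (Finset.sum_congr rfl fun i _ => rfl)
    rw [h1, show E.symm (Finsupp.equivFunOnFinite.symm (q y)) = ∑ i, q y i ⊗ₜ[k] b i from hE _]
    rw [map_sum]
    refine Finset.sum_congr rfl fun i _ => ?_
    rw [bcMap_tmul]
    show (b i • 𝟙 (bcMod (A := k) N B)).app (π ⁻¹ᵁ V.1) ((QCPull72.pullUnit π N).app V.1 (q y i)) = _
    rw [smul_app_rA]
    unfold unitSec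
    rw [res_self]
    rfl
  have hb : Function.Bijective (fun y => bcMap N B V.2 rfl (E.symm (Finsupp.equivFunOnFinite.symm (q y)))) :=
    (bcMap_bijective N B V.2 rfl).comp (E.symm.bijective.comp (Finsupp.equivFunOnFinite.symm.bijective.comp hq))
  rw [show ⇑(Ψ.app V.1) = fun y => bcMap N B V.2 rfl (E.symm (Finsupp.equivFunOnFinite.symm (q y))) from funext hkey]
  exact hb

end Groth.Agent.ASB64
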