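import Groth.Agent.ASB64.SBCore

/-! Comparing multiplicities through classes. -/

set_option autoImplicit false
set_option maxSynthPendingDepth 6
set_option synthInstance.maxHeartbeats 200000
set_option backward.isDefEq.respectTransparency.types false
universe u

open CategoryTheory CategoryTheory.Limits AlgebraicGeometry
open scoped TensorProduct Groth.Agent.Csa25

noncomputable section

namespace Groth.Agent.ASB64

variable {k : Type u} [Field k] {X Y : Scheme.{u}} [X.Over (Spec (CommRingCat.of k))]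
  [IsProper (X ↘ Spec (CommRingCat.of k))] [Y.Over (Spec (CommRingCat.of k))]
  [IsProper (Y ↘ Spec (CommRingCat.of k))] {K : Type u} [Field K] [Algebra k K]
  {L : (FF71.bc k X K).Modules} {L' : (FF71.bc k Y K).Modules} {r r' : ℕ} {M : X.Modules} {M' : Y.Modules}

/-- Classes generating the same subgroup have the same multiplicity. -/
theorem eq_of_zpowers_eq (hΓ : Function.Bijective (Coh.toGlobal (FF71.bc k X K ↘ Spec (CommRingCat.of K))))
    (hΓ' : Function.Bijective (Coh.toGlobal (FF71.bc k Y K ↘ Spec (CommRingCat.of K))))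
    (h : Typed K L r M) (hi : KSchm95.Indec M) (h' : Typed K L' r' M') (hi' : KSchm95.Indec M')
    (hz : Subgroup.zpowers (endCl (k := k) M) = Subgroup.zpowers (endCl (k := k) M')) : r = r' := by
  obtain ⟨_, _, _⟩ := h'.csa hΓ' (h'.pos hΓ' hi')
  exact Csa25.isIndex_unique (isIndex_of_zpowers_eq hΓ h hi (B := End M') (by rw [hz, endCl_eq]))
    (isIndex_of_indec hΓ' h' hi' (B := End M') (endCl_eq M').symm)

theorem zpowers_zpow_eq_of_mem {G : Type*} [Group G] {a b : G} (h₁ : b ∈ Subgroup.zpowers a)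
    (h₂ : a ∈ Subgroup.zpowers b) (j : ℤ) : Subgroup.zpowers (a ^ j) = Subgroup.zpowers (b ^ j) := by
  obtain ⟨i, hi⟩ := Subgroup.mem_zpowers_iff.mp h₁
  obtain ⟨l, hl⟩ := Subgroup.mem_zpowers_iff.mp h₂
  exact le_antisymm
    (Subgroup.zpowers_le.mpr (Subgroup.mem_zpowers_iff.mpr ⟨l, by rw [← zpow_mul, mul_comm, zpow_mul, hl]⟩))
    (Subgroup.zpowers_le.mpr (Subgroup.mem_zpowers_iff.mpr ⟨i, by rw [← zpow_mul, mul_comm, zpow_mul, hi]⟩))

variable [IsAlgClosure k K]

/-- Severi–Brauer schemes of algebras generating the same subgroup have the same multiplicities. -/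
theorem eq_of_mem_zpowers {A B : Type u} [Ring A] [Algebra k A] [Algebra.IsCentral k A] [IsSimpleRing A]
    [FiniteDimensional k A] [Ring B] [Algebra k B] [Algebra.IsCentral k B] [IsSimpleRing B]
    [FiniteDimensional k B] {n m : ℕ} (hA : Module.finrank k A = (n + 1) * (n + 1))
    (hB : Module.finrank k B = (m + 1) * (m + 1))
    (hX : BrSev.IsSBOf k A ((n + 1) * (n + 1) - (n + 1)) (X ↘ Spec (CommRingCat.of k)))
    (hY : BrSev.IsSBOf k B ((m + 1) * (m + 1) - (m + 1)) (Y ↘ Spec (CommRingCat.of k)))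
    (h₁ : Csa25.cl k B ∈ Subgroup.zpowers (Csa25.cl k A)) (h₂ : Csa25.cl k A ∈ Subgroup.zpowers (Csa25.cl k B))
    (e : BrSev.Splitting (X ↘ Spec (CommRingCat.of k)) K n) (e' : BrSev.Splitting (Y ↘ Spec (CommRingCat.of k)) K m)
    {j : ℤ} (hM : FlatMod.IsFinLocFree M) (hi : KSchm95.Indec M) (hr : 0 < r) (ht : BrSev.IsTwPow e j r M)
    (hM' : FlatMod.IsFinLocFree M') (hi' : KSchm95.Indec M') (hr' : 0 < r') (ht' : BrSev.IsTwPow e' j r' M') :
    r = r' := by
  haveI : IsAlgClosed K := IsAlgClosure.isAlgClosed k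
  refine eq_of_zpowers_eq (bijective_toGlobal_of_splitting e) (bijective_toGlobal_of_splitting e')
    (typed_of_isTwPow e hM ht) hi (typed_of_isTwPow e' hM' ht') hi' ?_
  rw [zpowers_endCl e hA hX hM hr ht, zpowers_endCl e' hB hY hM' hr' ht']
  exact zpowers_zpow_eq_of_mem h₁ h₂ j

end Groth.Agent.ASB64

end
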