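import Mathlib.GroupTheory.OrderOfElement
import Mathlib.RingTheory.Int.Basic

/-! Subgroups of a finite cyclic group. -/

set_option autoImplicit false
universe u

namespace Groth.Agent.ASB64

variable {G : Type u} [Group G] (a : G)

theorem zpowers_zpow_eq_gcd (i : ℤ) :
    Subgroup.zpowers (a ^ i) = Subgroup.zpowers (a ^ ((orderOf a : ℤ).gcd i : ℤ)) := by
  refine le_antisymm (Subgroup.zpowers_le.mpr ?_) (Subgroup.zpowers_le.mpr ?_)
  · obtain ⟨t, ht⟩ := Int.gcd_dvd_right (orderOf a : ℤ) i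
    refine Subgroup.mem_zpowers_iff.mpr ⟨t, ?_⟩
    rw [← zpow_mul, ← ht]
  · refine Subgroup.mem_zpowers_iff.mpr ⟨Int.gcdB (orderOf a) i, ?_⟩
    rw [Int.gcd_eq_gcd_ab, zpow_add, zpow_mul a (orderOf a : ℤ), zpow_natCast, pow_orderOf_eq_one,
      one_zpow, one_mul, zpow_mul]

/-- An element of a finite cyclic subgroup is determined up to generators by the exponents killing it. -/
theorem zpowers_eq_of_pow_eq_one_iff (ha : 0 < orderOf a) {b : G} (hb : b ∈ Subgroup.zpowers a) {j : ℤ}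
    (h : ∀ m : ℕ, b ^ m = 1 ↔ (orderOf a : ℤ) ∣ j * (m : ℤ)) :
    Subgroup.zpowers b = Subgroup.zpowers (a ^ j) := by
  obtain ⟨i, rfl⟩ := Subgroup.mem_zpowers_iff.mp hb
  rw [zpowers_zpow_eq_gcd a i, zpowers_zpow_eq_gcd a j]
  have key : ∀ m : ℕ, (orderOf a : ℤ) ∣ i * (m : ℤ) ↔ (orderOf a : ℤ) ∣ j * (m : ℤ) := fun m => by
    rw [← h m, orderOf_dvd_iff_zpow_eq_one, zpow_mul, zpow_natCast]
  suffices (orderOf a : ℤ).gcd i = (orderOf a : ℤ).gcd j by rw [this]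
  have hdvd : ∀ x y : ℤ, (∀ m : ℕ, (orderOf a : ℤ) ∣ x * (m : ℤ) → (orderOf a : ℤ) ∣ y * (m : ℤ)) →
      (orderOf a : ℤ).gcd x ∣ (orderOf a : ℤ).gcd y := by
    intro x y hxy
    obtain ⟨q, hq⟩ : (orderOf a : ℤ).gcd x ∣ orderOf a := Int.natCast_dvd_natCast.mp (Int.gcd_dvd_left _ _)
    have h1 : (orderOf a : ℤ) ∣ x * (q : ℤ) := by
      obtain ⟨t, ht⟩ := Int.gcd_dvd_right (orderOf a : ℤ) x
      refine ⟨t, ?_⟩
      have hq' : (orderOf a : ℤ) = ((orderOf a : ℤ).gcd x : ℤ) * (q : ℤ) := by exact_mod_cast hq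
      generalize ((orderOf a : ℤ).gcd x : ℤ) = g at hq' ht
      rw [hq', ht]; ring
    obtain ⟨s, hs⟩ := hxy q h1
    refine Int.natCast_dvd_natCast.mp (Int.dvd_coe_gcd (Int.gcd_dvd_left _ _) ⟨s, ?_⟩)
    have hq' : (orderOf a : ℤ) = ((orderOf a : ℤ).gcd x : ℤ) * (q : ℤ) := by exact_mod_cast hq
    have hq0 : (q : ℤ) ≠ 0 := fun h0 => by
      rw [h0, mul_zero] at hq'; omega
    refine mul_right_cancel₀ hq0 ?_
    generalize ((orderOf a : ℤ).gcd x : ℤ) = g at hq'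
    rw [hs, hq']; ring
  exact Nat.dvd_antisymm (hdvd i j fun m => (key m).mp) (hdvd j i fun m => (key m).mpr)

end Groth.Agent.ASB64
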