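import Groth.Agent.FF71.Sections
import Groth.Prelude.Def_KLin
import Mathlib.AlgebraicGeometry.Morphisms.Proper
import Mathlib.AlgebraicGeometry.Geometrically.Integral
import Mathlib.FieldTheory.IsAlgClosed.Basic

/-! Global functions of proper integral schemes over algebraically closed fields. -/

set_option autoImplicit false
universe u

open CategoryTheory CategoryTheory.Limits AlgebraicGeometry

namespace Groth.Agent.ASB64

/-- The global functions of a proper integral scheme over an algebraically closed field are the
scalars. -/
theorem bijective_toGlobal {K : Type u} [Field K] [IsAlgClosed K] {Y : Scheme.{u}}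
    (g : Y ⟶ Spec (CommRingCat.of K)) [IsIntegral Y] [IsProper g] :
    Function.Bijective (Coh.toGlobal g) := by
  let φ : K →+* Γ(Y, ⊤) := Coh.toGlobal g
  have hF : IsField Γ(Y, ⊤) := isField_of_universallyClosed K g
  letI := hF.toField
  letI : Algebra K Γ(Y, ⊤) := φ.toAlgebra
  have hfin : φ.Finite := (finite_appTop_of_universallyClosed K g).comp
    (RingHom.Finite.of_surjective _ (Scheme.ΓSpecIso (CommRingCat.of K)).symm.commRingCatIsoToRingEquiv.surjective)
  have : Module.Finite K Γ(Y, ⊤) := hfin
  exact ⟨φ.injective, (IsAlgClosed.algebraMap_bijective_of_isIntegral (k := K) (K := Γ(Y, ⊤))).2⟩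

end Groth.Agent.ASB64
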