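import Groth.Agent.TwTens96.Basic
import Groth.Agent.ASB64.GlobalConst
import Groth.Agent.Curves2.ProjLineProper
import Groth.Agent.Curves2.ProjLine
import Groth.Agent.Var76.RegTools
import Groth.Agent.Amp73.PullTensor
import Groth.Agent.FF71.Sections

/-! The split form of a Severi–Brauer variety. -/

set_option autoImplicit false
set_option backward.isDefEq.respectTransparency.types false
universe u

open CategoryTheory CategoryTheory.Limits AlgebraicGeometry

noncomputable section

namespace Groth.Agent.ASB64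

variable {k : Type u} [Field k] {X : Scheme.{u}} {f : X ⟶ Spec (CommRingCat.of k)}
  {K : Type u} [Field K] [Algebra k K] {n : ℕ} (e : BrSev.Splitting f K n)

theorem isInvertible_twist' (j : ℤ) : PicF.IsInvertible (e.twist j) :=
  Amp73.isInvertible_pullback e.iso.hom (Var76.Reg.isInvertible_twist (n := n) (A := K) j)

include e in
theorem isIntegral_bc : IsIntegral (BrSev.bc f K) := by
  have := Curves2.ProjLine.isIntegral (k := K) n
  haveI : Nonempty (BrSev.bc f K) :=
    ⟨e.iso.inv (Classical.arbitrary (CohB1.ProjSpace n K))⟩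
  exact isIntegral_of_isOpenImmersion e.iso.hom

include e in
theorem bijective_toGlobal_of_splitting [IsProper f] [IsAlgClosed K] :
    Function.Bijective (Coh.toGlobal (BrSev.bcTo f K)) := by
  haveI := isIntegral_bc e
  exact bijective_toGlobal (BrSev.bcTo f K)

theorem nonempty_twist_zero' : Nonempty (e.twist 0 ≅ Coh.structureModule (BrSev.bc f K)) := by
  obtain ⟨a⟩ := Var76.Reg.nonempty_twist_zero (n := n) (A := K)
  exact ⟨(Scheme.Modules.pullback e.iso.hom).mapIso a ≪≫ PicLoc.pullbackStructureIso e.iso.hom⟩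

theorem nonempty_twist_add' (j l : ℤ) :
    Nonempty (CohB1.tensorMod (e.twist j) (e.twist l) ≅ e.twist (j + l)) := by
  obtain ⟨t⟩ := EGA73.nonempty_twist_tensor_iso (TwTens96.hgen n K) j l
  exact ⟨(TwTens96.pullTensIso e.iso.hom _ _).symm ≪≫ (Scheme.Modules.pullback e.iso.hom).mapIso t⟩

theorem nonempty_twist_pow (j : ℤ) (m : ℕ) :
    Nonempty (CohB1.tensorPow (e.twist j) m ≅ e.twist (j * (m : ℤ))) := by
  induction m with
  | zero => rw [Nat.cast_zero, mul_zero]; exact (nonempty_twist_zero' e).map Iso.symm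
  | succ m ih =>
    obtain ⟨a⟩ := ih
    obtain ⟨b⟩ := nonempty_twist_add' e (j * (m : ℤ)) j
    rw [show j * ((m + 1 : ℕ) : ℤ) = j * (m : ℤ) + j by push_cast; ring]
    exact ⟨EGA73.tensIso a (Iso.refl _) ≪≫ b⟩

end Groth.Agent.ASB64

end
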