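import Groth.Agent.Csa25.SBPic
import Groth.Agent.S14209
import Groth.Agent.S14224
import Groth.Agent.S13687
import Groth.Agent.LimTop61.LocFreeStage
import Groth.Agent.Mero90.Frames
import Groth.Agent.ASB64.SplitFacts
import Mathlib.FieldTheory.IsAlgClosed.Basic

/-! Descended twists, read over an algebraic closure. -/

set_option autoImplicit false
set_option backward.isDefEq.respectTransparency.types false
universe u

open CategoryTheory CategoryTheory.Limits AlgebraicGeometry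
open scoped TensorProduct

noncomputable section

namespace Groth.Agent.ASB64

/-- Extension of coefficients preserves `O(j)`. -/
theorem nonempty_pullback_extend {K₀ K : Type u} [Field K₀] [Field K] [Algebra K₀ K] (n : ℕ) (j : ℤ) :
    Nonempty ((Scheme.Modules.pullback (Csa25.linMap (n := n) (algebraMap K₀ K) 1 isUnit_one)).obj
      (Twist.twistProjSpace n K₀ j) ≅ Twist.twistProjSpace n K j) := by
  have hP : ∀ x : CohB1.ProjSpace n K,
      ∃ a, (Csa25.linForms (1 : Matrix (Fin (n + 1)) (Fin (n + 1)) K) a).1 ∉ x.asHomogeneousIdeal := fun x => by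
    obtain ⟨i, hi⟩ := Csa25.exists_X_notMem x
    exact ⟨i, by simpa [Csa25.linForms, Csa25.linForm_one] using hi⟩
  obtain ⟨r, hr, hτ⟩ := Csa25.exists_isFormMap (A := K₀) (Csa25.linForms (1 : Matrix (Fin (n + 1)) (Fin (n + 1)) K)) hP
  have hl := (Csa25.isFormMap_id (K := K) (n := n)).comp_base (k := K₀)
  rw [Category.id_comp] at hl
  rw [Csa25.IsFormMap.unique hP hl hr]
  simpa using Csa25.nonempty_pullback_twist (d := (1 : ℤ)) hτ j

variable {k : Type u} [Field k] {X : Scheme.{u}} (f : X ⟶ Spec (CommRingCat.of k)) {n : ℕ}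

/-- A splitting over a subfield gives one over the field, compatibly with the twists. -/
theorem exists_splitting_extend (K₀ : Type u) [Field K₀] [Algebra k K₀] (K : Type u) [Field K] [Algebra k K]
    [Algebra K₀ K] [IsScalarTower k K₀ K] (e₀ : BrSev.Splitting f K₀ n) :
    ∃ (χ : W4bk4gw11416.baseChange (BrSev.bcTo f K₀) K ≅ BrSev.bc f K) (e : BrSev.Splitting f K n),
      χ.hom ≫ BrSev.proj f K = W4c1astiltbs12.proj (BrSev.bcTo f K₀) K ≫ BrSev.proj f K₀ ∧
      ∀ j : ℤ, Nonempty ((Scheme.Modules.pullback χ.hom).obj (e.twist j) ≅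
        (Scheme.Modules.pullback (W4c1astiltbs12.proj (BrSev.bcTo f K₀) K)).obj (e₀.twist j)) := by
  let a := Spec.map (CommRingCat.ofHom (algebraMap K₀ K))
  let a₀ := Spec.map (CommRingCat.ofHom (algebraMap k K₀))
  let Y := W4bk4gw11416.baseChange (BrSev.bcTo f K₀) K
  let π : Y ⟶ BrSev.bc f K₀ := pullback.fst (BrSev.bcTo f K₀) a
  have hsq : IsPullback π (pullback.snd (BrSev.bcTo f K₀) a) (BrSev.bcTo f K₀) a :=
    IsPullback.of_hasPullback _ _
  have haa : a ≫ a₀ = Spec.map (CommRingCat.ofHom (algebraMap k K)) := by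
    simp only [a, a₀, ← Spec.map_comp, ← CommRingCat.ofHom_comp, ← IsScalarTower.algebraMap_eq]
  have hsq' : IsPullback (π ≫ BrSev.proj f K₀) (pullback.snd (BrSev.bcTo f K₀) a) f
      (Spec.map (CommRingCat.ofHom (algebraMap k K))) := by
    rw [← haa]
    exact hsq.paste_horiz (IsPullback.of_hasPullback _ _)
  let χ : Y ≅ BrSev.bc f K := hsq'.isoPullback
  have hP : IsPullback (π ≫ e₀.iso.hom) (pullback.snd (BrSev.bcTo f K₀) a) (CohB1.ProjSpace.toSpec n K₀) a :=
    hsq.of_iso (Iso.refl _) e₀.iso (Iso.refl _) (Iso.refl _) (by simp) (by simp)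
      (by simp [e₀.comm]) (by simp)
  let ψ : Y ≅ CohB1.ProjSpace n K := hP.isoIsPullback _ _ Csa25.isPullback_linMap_one
  have hψ1 : ψ.hom ≫ Csa25.linMap (n := n) (algebraMap K₀ K) 1 isUnit_one = π ≫ e₀.iso.hom :=
    hP.isoIsPullback_hom_fst _ _ _
  have hψ2 : ψ.hom ≫ CohB1.ProjSpace.toSpec n K = pullback.snd (BrSev.bcTo f K₀) a :=
    hP.isoIsPullback_hom_snd _ _ _
  let e : BrSev.Splitting f K n := ⟨χ.symm ≪≫ ψ, by
    rw [Iso.trans_hom, Category.assoc, hψ2, Iso.symm_hom, Iso.inv_comp_eq]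
    exact (hsq'.isoPullback_hom_snd).symm⟩
  refine ⟨χ, e, hsq'.isoPullback_hom_fst, fun j => ?_⟩
  obtain ⟨t⟩ := nonempty_pullback_extend (K₀ := K₀) (K := K) n j
  have hc : χ.hom ≫ e.iso.hom = ψ.hom := Iso.hom_inv_id_assoc χ ψ.hom
  exact ⟨(Scheme.Modules.pullbackComp χ.hom e.iso.hom).app _ ≪≫ (Scheme.Modules.pullbackCongr hc).app _ ≪≫
    (Scheme.Modules.pullback ψ.hom).mapIso t.symm ≪≫ (Scheme.Modules.pullbackComp ψ.hom _).app _ ≪≫
    (Scheme.Modules.pullbackCongr hψ1).app _ ≪≫ ((Scheme.Modules.pullbackComp π e₀.iso.hom).app _).symm⟩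

variable [IsProper f] {A : Type u} [Ring A] [Algebra k A] [Algebra.IsCentral k A] [IsSimpleRing A]

/-- Over an algebraic closure too, exactly the multiples of the period descend. -/
theorem exists_invertible_type_iff (hA : Module.finrank k A = (n + 1) * (n + 1))
    (hX : BrSev.IsSBOf k A ((n + 1) * (n + 1) - (n + 1)) f) (K : Type u) [Field K] [Algebra k K]
    [IsAlgClosure k K] (e : BrSev.Splitting f K n) {p : ℕ} (hp : CSAGal.IsPeriod k A p) (j : ℤ) :
    (∃ L : X.Modules, PicF.IsInvertible L ∧ BrSev.IsTwPow e j 1 L) ↔ (p : ℤ) ∣ j := by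
  obtain ⟨K₀, _, _, _, _, ⟨e₀⟩⟩ := Groth.Agent.S14209.result k A (n + 1) n.succ_pos hA f hX
  haveI : IsAlgClosed K := IsAlgClosure.isAlgClosed k
  let i : K₀ →ₐ[k] K := IsAlgClosed.lift
  letI : Algebra K₀ K := i.toRingHom.toAlgebra
  haveI : IsScalarTower k K₀ K := IsScalarTower.of_algebraMap_eq fun x => (i.commutes x).symm
  haveI : Algebra.IsAlgebraic k K := IsAlgClosure.isAlgebraic
  haveI : Algebra.IsAlgebraic K₀ K := Algebra.IsAlgebraic.tower_top (K := k) K₀
  obtain ⟨χ, e', hχ, htw⟩ := exists_splitting_extend f K₀ K e₀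
  obtain ⟨tw⟩ := htw j
  let P : ∀ L : X.Modules, (Scheme.Modules.pullback χ.hom).obj (BrSev.bcMod f K L) ≅
      W4c1astiltbs12.bcMod (BrSev.bcTo f K₀) K (BrSev.bcMod f K₀ L) := fun L =>
    (Scheme.Modules.pullbackComp χ.hom (BrSev.proj f K)).app L ≪≫ (Scheme.Modules.pullbackCongr hχ).app L ≪≫
      ((Scheme.Modules.pullbackComp _ _).app L).symm
  rw [← Groth.Agent.S14224.result k A (n + 1) n.succ_pos hA f hX p hp K₀ e₀ j]
  refine exists_congr fun L => and_congr_right fun hL => ?_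
  constructor
  · intro h
    obtain ⟨b⟩ := (Csa25.isTwPow_one_iff e' j L).mp (Csa25.isTwPow_one_congr e e' j L h)
    have h0 : PicF.IsInvertible (BrSev.bcMod f K₀ L) := Amp73.isInvertible_pullback _ hL
    have h1 : PicF.IsInvertible (e₀.twist j) := isInvertible_twist' e₀ j
    have hcoh : ∀ {N : (BrSev.bc f K₀).Modules}, PicF.IsInvertible N → Coh.IsCoh N := fun {N} hN =>
      have hf := (LimTop61.isFinLocFreeOfRank_iff.mp (Mero90.isFinLocFreeOfRank_of_isInvertible hN)).1
      ⟨Props58.LocFree.isQuasicoherent_of_isFinLocFree hf, Props58.LocFree.isFiniteType_of_isFinLocFree hf⟩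
    obtain ⟨i'⟩ := Groth.Agent.S13687.result K₀ (BrSev.bcTo f K₀) K _ _ (hcoh h0) (hcoh h1)
      ((P L).symm ≪≫ (Scheme.Modules.pullback χ.hom).mapIso b ≪≫ tw)
    exact (Csa25.isTwPow_one_iff e₀ j L).mpr ⟨i'⟩
  · intro h
    obtain ⟨b⟩ := (Csa25.isTwPow_one_iff e₀ j L).mp h
    let c : (Scheme.Modules.pullback χ.hom).obj (BrSev.bcMod f K L) ≅
        (Scheme.Modules.pullback χ.hom).obj (e'.twist j) :=
      P L ≪≫ (Scheme.Modules.pullback (W4c1astiltbs12.proj (BrSev.bcTo f K₀) K)).mapIso b ≪≫ tw.symm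
    let back : ∀ N : (BrSev.bc f K).Modules,
        (Scheme.Modules.pullback χ.inv).obj ((Scheme.Modules.pullback χ.hom).obj N) ≅ N := fun N =>
      (Scheme.Modules.pullbackComp χ.inv χ.hom).app N ≪≫ (Scheme.Modules.pullbackCongr χ.inv_hom_id).app N ≪≫
        (Scheme.Modules.pullbackId _).app N
    exact Csa25.isTwPow_one_congr e' e j L ((Csa25.isTwPow_one_iff e' j L).mpr
      ⟨(back _).symm ≪≫ (Scheme.Modules.pullback χ.inv).mapIso c ≪≫ back _⟩)

end Groth.Agent.ASB64

end
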