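import Groth.Agent.ASB64.Generic
import Groth.Agent.ASB64.TwistAlg
import Groth.Agent.ASB64.Orders
import Groth.Agent.S14220
import Groth.Agent.Csa25.SBStable
import Groth.Agent.Csa25.Period
import Groth.Prelude.Def_BrSev2

/-! The class of an isotypical module on a Severi–Brauer variety. -/

set_option autoImplicit false
set_option maxSynthPendingDepth 6
set_option synthInstance.maxHeartbeats 200000
set_option backward.isDefEq.respectTransparency.types false
universe u

open CategoryTheory CategoryTheory.Limits AlgebraicGeometry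
open scoped TensorProduct Groth.Agent.Csa25

noncomputable section

namespace Groth.Agent.ASB64

variable {k : Type u} [Field k] {X : Scheme.{u}} [X.Over (Spec (CommRingCat.of k))]
  [IsProper (X ↘ Spec (CommRingCat.of k))] {K : Type u} [Field K] [Algebra k K]
  {L : (FF71.bc k X K).Modules} {r : ℕ} {M : X.Modules}

theorem Typed.tensorPow (h : Typed K L r M) (m : ℕ) :
    Typed K (CohB1.tensorPow L m) (r ^ m) (CohB1.tensorPow M m) := by
  induction m with
  | zero => exact typed_structureModule
  | succ m ih => rw [pow_succ]; exact ih.tensor h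

theorem endCl_tensorPow (hΓ : Function.Bijective (Coh.toGlobal (FF71.bc k X K ↘ Spec (CommRingCat.of K))))
    (h : Typed K L r M) (hr : 0 < r) (m : ℕ) :
    endCl (k := k) (CohB1.tensorPow M m) = endCl (k := k) M ^ m := by
  induction m with
  | zero => rw [pow_zero]; exact endCl_type_one (K := K) hΓ typed_structureModule
  | succ m ih =>
    rw [pow_succ, ← ih]
    exact endCl_tensor hΓ (h.tensorPow m) h (pow_pos hr m) hr

variable {n : ℕ} (e : BrSev.Splitting (X ↘ Spec (CommRingCat.of k)) K n)

theorem typed_of_isTwPow {j : ℤ} (hM : FlatMod.IsFinLocFree M) (h : BrSev.IsTwPow e j r M) :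
    Typed K (e.twist j) r M := Typed.mk' hM (isInvertible_twist' e j) h

/-- A power of the class is trivial exactly when the corresponding twist descends. -/
theorem endCl_pow_eq_one_iff [IsAlgClosure k K] {j : ℤ} (h : Typed K (e.twist j) r M) (hr : 0 < r) (m : ℕ) :
    endCl (k := k) M ^ m = 1 ↔ ∃ N : X.Modules, PicF.IsInvertible N ∧ BrSev.IsTwPow e (j * (m : ℤ)) 1 N := by
  haveI : IsAlgClosed K := IsAlgClosure.isAlgClosed k
  haveI : Algebra.IsAlgebraic k K := IsAlgClosure.isAlgebraic
  have hΓ : Function.Bijective (Coh.toGlobal (FF71.bc k X K ↘ Spec (CommRingCat.of K))) :=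
    bijective_toGlobal_of_splitting e
  obtain ⟨t⟩ := nonempty_twist_pow e j m
  rw [← endCl_tensorPow hΓ h hr m, endCl_eq_one_iff hΓ ((h.tensorPow m).of_iso t) (pow_pos hr m)]
  refine exists_congr fun N => and_congr_right fun _ => ?_
  exact (Csa25.isTwPow_one_iff e _ N).symm

variable [IsAlgClosure k K] {A : Type u} [Ring A] [Algebra k A] [Algebra.IsCentral k A] [IsSimpleRing A]
  [FiniteDimensional k A]

/-- The class of a module of type `O(j)` and the `j`th power of the class of the algebra generate the same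
subgroup. -/
theorem zpowers_endCl (hA : Module.finrank k A = (n + 1) * (n + 1))
    (hX : BrSev.IsSBOf k A ((n + 1) * (n + 1) - (n + 1)) (X ↘ Spec (CommRingCat.of k)))
    {j : ℤ} (hM : FlatMod.IsFinLocFree M) (hr : 0 < r) (ht : BrSev.IsTwPow e j r M) :
    Subgroup.zpowers (endCl (k := k) M) = Subgroup.zpowers (Csa25.cl k A ^ j) := by
  haveI : IsAlgClosed K := IsAlgClosure.isAlgClosed k
  have hΓ : Function.Bijective (Coh.toGlobal (FF71.bc k X K ↘ Spec (CommRingCat.of K))) :=
    bijective_toGlobal_of_splitting e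
  haveI : IsIntegral X := hX.elim fun str => Csa25.isIntegral_of_sbStr hA _ str
  have h := typed_of_isTwPow e hM ht
  obtain ⟨_, _, _⟩ := h.csa hΓ hr
  have hmem : endCl (k := k) M ∈ Subgroup.zpowers (Csa25.cl k A) := by
    rw [endCl_eq]
    exact Csa25.exists_tpow_iff.mp ((Groth.Agent.S14220.result k A (n + 1) n.succ_pos hA X hX (End M)).mp
      (splits_functionField hΓ h hr))
  have hord : 0 < orderOf (Csa25.cl k A) :=
    orderOf_pos_iff.mpr (isOfFinOrder_iff_pow_eq_one.mpr ⟨n + 1, n.succ_pos, Csa25.cl_pow_degree hA⟩)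
  refine zpowers_eq_of_pow_eq_one_iff _ hord hmem fun m => ?_
  rw [endCl_pow_eq_one_iff e h hr m]
  exact exists_invertible_type_iff _ hA hX K e ((Csa25.isPeriod_iff k A _).mpr ⟨hord, rfl⟩) _

/-- The multiplicity of the indecomposable module of type `O(j)` is the index of the `|j|`th power. -/
theorem isIndex_tpow (hA : Module.finrank k A = (n + 1) * (n + 1))
    (hX : BrSev.IsSBOf k A ((n + 1) * (n + 1) - (n + 1)) (X ↘ Spec (CommRingCat.of k)))
    {j : ℤ} (hM : FlatMod.IsFinLocFree M) (hi : KSchm95.Indec M) (hr : 0 < r) (ht : BrSev.IsTwPow e j r M) :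
    CSAGal.IsIndex k (CSAGal.tpow k A j.natAbs) r := by
  haveI : IsAlgClosed K := IsAlgClosure.isAlgClosed k
  have hΓ : Function.Bijective (Coh.toGlobal (FF71.bc k X K ↘ Spec (CommRingCat.of K))) :=
    bijective_toGlobal_of_splitting e
  obtain ⟨_, _, _, -, -⟩ := Csa25.pi_tensor_csa (k := k) (Fin j.natAbs) fun _ => A
  refine isIndex_of_zpowers_eq hΓ (typed_of_isTwPow e hM ht) hi ?_
  rw [zpowers_endCl e hA hX hM hr ht, Csa25.cl_tpow]
  rcases Int.natAbs_eq j with hj | hj
  · conv_rhs => rw [hj, zpow_natCast]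
  · conv_rhs => rw [hj, zpow_neg, Subgroup.zpowers_inv, zpow_natCast]

end Groth.Agent.ASB64

end
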