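import Groth.Agent.ASB64.SepInv
import Groth.Agent.ASB64.TypeClass
import Groth.Agent.ASB64.SBCore
import Groth.Agent.ASB64.Retract

/-! Types of isotypical modules on a connected base change. -/

set_option autoImplicit false
set_option maxSynthPendingDepth 6
set_option linter.style.haveILetI false
set_option backward.isDefEq.respectTransparency.types false
universe u

open CategoryTheory CategoryTheory.Limits AlgebraicGeometry

noncomputable section

namespace Groth.Agent.ASB64

/-- A twist of an indecomposable module by an invertible one is indecomposable. -/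
theorem indec_tensor_of_inverse {Y : Scheme.{u}} {M J J' : Y.Modules} (hM : KSchm95.Indec M)
    (i : CohB1.tensorMod J J' ≅ Coh.structureModule Y) : KSchm95.Indec (CohB1.tensorMod M J) := by
  let F := DCoh.tensorRightMod J'
  let G := DCoh.tensorRightMod J
  have u : F.obj (CohB1.tensorMod M J) ≅ M :=
    (EGA73.tensAssoc' M J J' ≪≫ EGA73.tensIso (Iso.refl M) i ≪≫ EGA73.tensUnitRight M :)
  have back : ∀ P : Y.Modules, IsZero (F.obj P) → IsZero P := fun P hP =>
    IsZero.of_iso (G.map_isZero hP) ((EGA73.tensUnitRight P).symm ≪≫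
      EGA73.tensIso (Iso.refl P) (i.symm ≪≫ EGA73.tensComm J J') ≪≫ (EGA73.tensAssoc' P J' J).symm :)
  refine ⟨fun hz => hM.1 (IsZero.of_iso (F.map_isZero hz) u.symm), fun P Q ⟨e⟩ => ?_⟩
  haveI := preservesBinaryBiproducts_of_preservesBiproducts F
  rcases hM.2 (F.obj P) (F.obj Q) ⟨u.symm ≪≫ F.mapIso e ≪≫ F.mapBiprod P Q⟩ with h | h
  · exact Or.inl (back P h)
  · exact Or.inr (back Q h)

variable {k : Type u} [Field k] {X : Scheme.{u}} [X.Over (Spec (CommRingCat.of k))]
  [IsProper (X ↘ Spec (CommRingCat.of k))] {K : Type u} [Field K] [Algebra k K] [Algebra.IsAlgebraic k K]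
  [ConnectedSpace ↥(FF71.bc k X K)]

/-- The multiplicity of a nonzero coherent module is positive. -/
theorem pos_of_iso_pow {M : X.Modules} (hM : Coh.IsCoh M) (hi : KSchm95.Indec M)
    {L : (FF71.bc k X K).Modules} {r : ℕ} (e : bcObj (k := k) K M ≅ BrSev.pow L r) : 0 < r := by
  rcases Nat.eq_zero_or_pos r with hr | hr
  · subst hr
    haveI : IsLocallyNoetherian X := LocallyOfFiniteType.isLocallyNoetherian (X ↘ Spec (CommRingCat.of k))
    haveI : HasFiniteBiproducts X.Modules := HasFiniteBiproducts.of_hasFiniteProducts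
    haveI : HasFiniteBiproducts (FF71.bc k X K).Modules := HasFiniteBiproducts.of_hasFiniteProducts
    have h0 : IsZero (⨁ fun _ : Fin 0 => M) := (IsZero.iff_id_eq_zero _).mpr (biproduct.hom_ext _ _ fun a => a.elim0)
    obtain ⟨q⟩ := Groth.Agent.S13687.result k (X ↘ Spec (CommRingCat.of k)) K _ _ hM
      (QC70.isCoh_biproduct (fun _ : Fin 0 => M) fun _ => hM)
      (IsZero.iso (IsZero.of_iso ((IsZero.iff_id_eq_zero _).mpr (biproduct.hom_ext _ _ fun a => a.elim0))
          (e ≪≫ (biproduct.isoCoproduct fun _ : Fin 0 => L).symm))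
        ((Scheme.Modules.pullback (FF71.bcπ k X K)).map_isZero h0))
    exact absurd (IsZero.of_iso h0 q) hi.1
  · exact hr

/-- An indecomposable constituent of a module of invertible type. -/
theorem exists_indec_constituent {L : (FF71.bc k X K).Modules} {r : ℕ} {M : X.Modules} (h : Typed K L r M)
    (hr : 0 < r) : ∃ (G : X.Modules) (t : ℕ), KSchm95.Indec G ∧ 0 < t ∧ Typed K L t G := by
  haveI : IsLocallyNoetherian X := LocallyOfFiniteType.isLocallyNoetherian (X ↘ Spec (CommRingCat.of k))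
  haveI : HasFiniteBiproducts X.Modules := HasFiniteBiproducts.of_hasFiniteProducts
  haveI : HasFiniteBiproducts (FF71.bc k X K).Modules := HasFiniteBiproducts.of_hasFiniteProducts
  haveI := KSchm95.isArtinianRing_end (k := k) M h.coh
  haveI := h.coh.1; haveI := h.coh.2
  haveI := KSchm95.isArtinianRing_end (k := K) (bcObj (k := k) K M)
    ⟨QCPull72.isQuasicoherent_pullback _ M, QCPull72.isFiniteType_pullback _ M⟩
  obtain ⟨e⟩ := h.iso
  obtain ⟨n, Gs, hGs, ⟨eM⟩⟩ := KSchm95.exists_decomp M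
  let Φ := Scheme.Modules.pullback (FF71.bcπ k X K)
  have hn : 0 < n := by
    rcases Nat.eq_zero_or_pos n with hn | hn
    · subst hn
      exfalso
      have hz : IsZero (Φ.obj M) := Φ.map_isZero (IsZero.of_iso
        ((IsZero.iff_id_eq_zero _).mpr (biproduct.hom_ext _ _ fun a => a.elim0)) eM)
      refine (indec_of_isInvertible h.inv).1 ((IsZero.iff_id_eq_zero _).mpr ?_)
      rw [← biproduct.ι_π_self (fun _ : Fin r => L) ⟨0, hr⟩,
        (hz.of_iso ((biproduct.isoCoproduct fun _ : Fin r => L) ≪≫ e.symm)).eq_of_src (biproduct.π _ ⟨0, hr⟩) 0,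
        comp_zero]
    · exact hn
  let a := biproduct.ι Gs ⟨0, hn⟩ ≫ eM.inv
  let b := eM.hom ≫ biproduct.π Gs ⟨0, hn⟩
  have hab : a ≫ b = 𝟙 _ := by simp [a, b]
  obtain ⟨t, τ, ⟨f⟩⟩ := exists_subfamily (fun _ : Fin r => L) (fun _ => indec_of_isInvertible h.inv)
    (e ≪≫ (biproduct.isoCoproduct fun _ : Fin r => L).symm) (Φ.map a) (Φ.map b)
    ((Φ.map_comp a b).symm.trans ((congrArg Φ.map hab).trans (Φ.map_id _)))
  have hG : Coh.IsCoh (Gs ⟨0, hn⟩) := KSchm95.isCoh_of_retract a b hab h.coh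
  let w : bcObj (k := k) K (Gs ⟨0, hn⟩) ≅ BrSev.pow L t := f ≪≫ biproduct.isoCoproduct fun _ : Fin t => L
  exact ⟨_, t, hGs _, pos_of_iso_pow hG (hGs _) w, hG, ⟨w⟩, h.inv⟩

/-- The type is determined by the module. -/
theorem nonempty_iso_of_pow {M : X.Modules} (hM : Coh.IsCoh M) {A B : (FF71.bc k X K).Modules}
    (hA : PicF.IsInvertible A) (hB : PicF.IsInvertible B) {r s : ℕ} (hr : 0 < r)
    (u : bcObj (k := k) K M ≅ BrSev.pow A r) (v : bcObj (k := k) K M ≅ BrSev.pow B s) : Nonempty (A ≅ B) := by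
  haveI : HasFiniteBiproducts (FF71.bc k X K).Modules := HasFiniteBiproducts.of_hasFiniteProducts
  haveI := hM.1; haveI := hM.2
  haveI := KSchm95.isArtinianRing_end (k := K) (bcObj (k := k) K M)
    ⟨QCPull72.isQuasicoherent_pullback _ M, QCPull72.isFiniteType_pullback _ M⟩
  obtain ⟨σ, hσ⟩ := KSchm95.exists_equiv_of_iso (fun _ : Fin r => A) (fun _ : Fin s => B)
    (fun _ => indec_of_isInvertible hA) (fun _ => indec_of_isInvertible hB)
    (u ≪≫ (biproduct.isoCoproduct fun _ : Fin r => A).symm) (v ≪≫ (biproduct.isoCoproduct fun _ : Fin s => B).symm)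
  exact hσ ⟨0, hr⟩

end Groth.Agent.ASB64
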