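import Mathlib.RingTheory.Flat.Basic
import Mathlib.RingTheory.LocalRing.ResidueField.Basic
import Mathlib.RingTheory.FiniteLength
import Mathlib.RingTheory.SimpleModule.Basic
import Mathlib.LinearAlgebra.TensorProduct.RightExactness

/-! Exactness modulo the maximal ideal of a complex of flat modules. -/

set_option autoImplicit false
universe u

open scoped TensorProduct

namespace Groth.Agent.ASB64

variable {A : Type u} [CommRing A] [IsLocalRing A] {κ : Type u} [Field κ] [Algebra A κ]
  (hκ : Function.Surjective (algebraMap A κ))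
  {C₀ C₁ C₂ : Type u} [AddCommGroup C₀] [Module A C₀] [AddCommGroup C₁] [Module A C₁] [AddCommGroup C₂]
  [Module A C₂] [Module.Flat A C₂] (f : C₀ →ₗ[A] C₁) (g : C₁ →ₗ[A] C₂)
  (hgf : g ∘ₗ f = 0)
  (h : ∀ x : C₁ ⊗[A] κ, g.rTensor (κ) x = 0 →
    x ∈ LinearMap.range (f.rTensor (κ)))

include h hgf hκ

/-- Exactness on the residue field gives exactness on modules of finite length. -/
theorem exact_rTensor_of_isFiniteLength {N : Type u} [AddCommGroup N] [Module A N] (hN : IsFiniteLength A N) :
    ∀ x : C₁ ⊗[A] N, g.rTensor N x = 0 → x ∈ LinearMap.range (f.rTensor N) := by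
  induction hN with
  | of_subsingleton =>
    intro x _
    rw [Subsingleton.elim x 0]
    exact zero_mem _
  | @of_simple_quotient M _ _ N _ _ ih =>
    intro x hx
    obtain ⟨I, hI, ⟨e⟩⟩ := isSimpleModule_iff_quot_maximal.mp (inferInstance : IsSimpleModule A (M ⧸ N))
    obtain rfl := IsLocalRing.eq_maximalIdeal hI
    let e' : (M ⧸ N) ≃ₗ[A] κ := e.trans ((Submodule.quotEquivOfEq _ _ ?hker).trans
      (LinearMap.quotKerEquivOfSurjective (Algebra.linearMap A κ) hκ))
    case hker =>
      exact (IsLocalRing.eq_maximalIdeal (RingHom.ker_isMaximal_of_surjective (algebraMap A κ) hκ)).symm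
    let q : M →ₗ[A] κ := e'.toLinearMap ∘ₗ N.mkQ
    have hq : Function.Surjective q := e'.surjective.comp N.mkQ_surjective
    have hex : Function.Exact N.subtype q :=
      (LinearMap.exact_iff.mpr (by rw [Submodule.ker_mkQ, Submodule.range_subtype]) : Function.Exact N.subtype N.mkQ).comp_injective
        e'.toLinearMap e'.injective (map_zero _)
    have h1 : g.rTensor _ (q.lTensor C₁ x) = 0 := by
      rw [← LinearMap.comp_apply, LinearMap.rTensor_comp_lTensor, ← LinearMap.lTensor_comp_rTensor,
        LinearMap.comp_apply, hx, map_zero]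
    obtain ⟨w, hw⟩ := h _ h1
    obtain ⟨w', rfl⟩ := LinearMap.lTensor_surjective C₀ hq w
    have h2 : q.lTensor C₁ (x - f.rTensor M w') = 0 := by
      rw [map_sub, sub_eq_zero, ← hw, ← LinearMap.comp_apply, ← LinearMap.comp_apply,
        LinearMap.rTensor_comp_lTensor, LinearMap.lTensor_comp_rTensor]
    obtain ⟨v, hv⟩ := (lTensor_exact C₁ hex hq _).mp h2
    have h3 : g.rTensor N v = 0 := by
      refine Module.Flat.lTensor_preserves_injective_linearMap (M := C₂) N.subtype N.injective_subtype ?_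
      rw [map_zero, ← LinearMap.comp_apply, LinearMap.lTensor_comp_rTensor, ← LinearMap.rTensor_comp_lTensor,
        LinearMap.comp_apply, hv, map_sub, hx, zero_sub, neg_eq_zero, ← LinearMap.comp_apply, ← LinearMap.rTensor_comp]
      rw [hgf]; simp
    obtain ⟨u, rfl⟩ := ih v h3
    refine ⟨w' + N.subtype.lTensor C₀ u, ?_⟩
    rw [map_add, ← LinearMap.comp_apply (f.rTensor M), LinearMap.rTensor_comp_lTensor,
      ← LinearMap.lTensor_comp_rTensor, LinearMap.comp_apply, hv, add_sub_cancel]

/-- Cocycles lift from the residue field. -/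
theorem exists_lift_of_residue [IsArtinianRing A] [IsNoetherianRing A] (z : C₀)
    (hz : f.rTensor (κ) (z ⊗ₜ 1) = 0) :
    ∃ z' : C₀, f z' = 0 ∧ z' ⊗ₜ[A] (1 : κ) = z ⊗ₜ 1 := by
  let m := IsLocalRing.maximalIdeal A
  let q : A →ₗ[A] κ := Algebra.linearMap A _
  have hq : Function.Surjective q := hκ
  have hex : Function.Exact m.subtype q := LinearMap.exact_iff.mpr (by
    rw [Submodule.range_subtype]
    exact IsLocalRing.eq_maximalIdeal (RingHom.ker_isMaximal_of_surjective (algebraMap A κ) hκ))
  have h1 : q.lTensor C₁ (f.rTensor A (z ⊗ₜ 1)) = 0 := by simpa [q] using hz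
  obtain ⟨v, hv⟩ := (lTensor_exact C₁ hex hq _).mp h1
  have h3 : g.rTensor m v = 0 := by
    refine Module.Flat.lTensor_preserves_injective_linearMap (M := C₂) m.subtype m.injective_subtype ?_
    rw [map_zero, ← LinearMap.comp_apply, LinearMap.lTensor_comp_rTensor, ← LinearMap.rTensor_comp_lTensor,
      LinearMap.comp_apply, hv, ← LinearMap.comp_apply, ← LinearMap.rTensor_comp, hgf]
    simp
  have hfl : IsFiniteLength A m := isFiniteLength_iff_isNoetherian_isArtinian.mpr ⟨inferInstance, inferInstance⟩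
  obtain ⟨u, rfl⟩ := exact_rTensor_of_isFiniteLength hκ f g hgf h hfl v h3
  let u₀ : C₀ := TensorProduct.rid A C₀ (m.subtype.lTensor C₀ u)
  have hu₀ : m.subtype.lTensor C₀ u = u₀ ⊗ₜ 1 := by
    apply (TensorProduct.rid A C₀).injective; simp [u₀]
  rw [← LinearMap.comp_apply, LinearMap.lTensor_comp_rTensor, ← LinearMap.rTensor_comp_lTensor,
    LinearMap.comp_apply, hu₀] at hv
  refine ⟨z - u₀, ?_, ?_⟩
  · have := congrArg (TensorProduct.rid A C₁) hv
    simp only [LinearMap.rTensor_tmul, TensorProduct.rid_tmul, one_smul] at this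
    rw [map_sub, this, sub_self]
  · have h4 : q.lTensor C₀ (m.subtype.lTensor C₀ u) = 0 := (lTensor_exact C₀ hex hq).apply_apply_eq_zero u
    rw [hu₀, LinearMap.lTensor_tmul] at h4
    rw [TensorProduct.sub_tmul, show u₀ ⊗ₜ[A] (1 : κ) = 0 by simpa [q] using h4, sub_zero]

end Groth.Agent.ASB64
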