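import Mathlib.FieldTheory.Galois.Basic
import Mathlib.LinearAlgebra.Matrix.NonsingularInverse
import Mathlib.LinearAlgebra.TensorProduct.Basis

/-! The twisted multiplication map of a finite Galois extension is bijective. -/

set_option autoImplicit false

open scoped TensorProduct
open Module

namespace Groth.Agent.ASB64

universe u v w

variable {k : Type u} [Field k] {K : Type v} [Field K] [Algebra k K] [FiniteDimensional k K] [IsGalois k K]
  {M : Type w} [AddCommGroup M] [Module k M] [Module K M]

/-- `m ⊗ c ↦ (σ ↦ σ c • m)` is bijective. -/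
theorem galSplit_bijective (hM : ∀ (a : k) (m : M), algebraMap k K a • m = a • m)
    (T : M ⊗[k] K →+ ((K ≃ₐ[k] K) → M)) (hT : ∀ m c σ, T (m ⊗ₜ c) σ = σ c • m) : Function.Bijective T := by
  classical
  haveI : IsScalarTower k K M := IsScalarTower.of_algebraMap_smul hM
  let G := K ≃ₐ[k] K
  have hcard : Fintype.card G = finrank k K := by
    rw [← Nat.card_eq_fintype_card, IsGalois.card_aut_eq_finrank]
  let b := (Module.finBasisOfFinrankEq k K hcard.symm).reindex (Fintype.equivFin G).symm
  let P : Matrix G G K := Matrix.of fun σ i => σ (b i)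
  have hP : IsUnit P := by
    rw [← Matrix.linearIndependent_rows_iff_isUnit, Fintype.linearIndependent_iff]
    intro g hg σ
    have hli := Fintype.linearIndependent_iff.mp
      ((linearIndependent_toLinearMap k K K).comp (fun σ : G => (σ : K →ₐ[k] K))
        fun σ τ h => AlgEquiv.ext fun x => DFunLike.congr_fun h x)
    refine hli g (b.ext fun i => ?_) σ
    simpa [P, Matrix.row, LinearMap.sum_apply, Finset.sum_apply] using congrFun hg i
  obtain ⟨Q, hPQ, hQP⟩ : ∃ Q, P * Q = 1 ∧ Q * P = 1 := isUnit_iff_exists.mp hP
  let E := TensorProduct.equivFinsuppOfBasisRight (M := M) b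
  let S : (G → M) → (G → M) := fun x σ => ∑ i, P σ i • x i
  have hS : Function.Bijective S := by
    refine Function.bijective_iff_has_inverse.mpr ⟨fun y i => ∑ σ, Q i σ • y σ, fun x => ?_, fun y => ?_⟩
    · funext i
      simp only [S, Finset.smul_sum, smul_smul]
      rw [Finset.sum_comm]
      simp only [← Finset.sum_smul, ← Matrix.mul_apply, hQP, Matrix.one_apply, ite_smul, one_smul, zero_smul,
        Finset.sum_ite_eq, Finset.mem_univ, if_true]
    · funext i
      simp only [S, Finset.smul_sum, smul_smul]
      rw [Finset.sum_comm]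
      simp only [← Finset.sum_smul, ← Matrix.mul_apply, hPQ, Matrix.one_apply, ite_smul, one_smul, zero_smul,
        Finset.sum_ite_eq, Finset.mem_univ, if_true]
  have hTS : ⇑T = S ∘ Finsupp.equivFunOnFinite ∘ E := by
    funext z
    induction z using TensorProduct.induction_on with
    | zero => funext σ; simp [S]
    | add x y hx hy =>
      rw [map_add, hx, hy]
      funext σ
      simp [S, smul_add, Finset.sum_add_distrib]
    | tmul m c =>
      funext σ
      rw [hT]
      conv_lhs => rw [← b.sum_repr c, map_sum, Finset.sum_smul]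
      refine Finset.sum_congr rfl fun i _ => ?_
      show σ (b.repr c i • b i) • m = P σ i • (E (m ⊗ₜ c)) i
      rw [map_smul, smul_assoc, TensorProduct.equivFinsuppOfBasisRight_apply_tmul_apply, smul_comm]
      rfl
  rw [hTS]
  exact hS.comp (Finsupp.equivFunOnFinite.bijective.comp E.bijective)

end Groth.Agent.ASB64
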