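import Groth.Agent.An92.Ample.Resolution
import Groth.Agent.ASB64.Retract
import Groth.Agent.S1177
import Groth.Agent.S13687
import Groth.Agent.FBase64.ExtPow.DelPezzo
import Groth.Agent.FF71.Sections
import Groth.Prelude.Def_BrSev

/-! Powers of modules, base change along field extensions, descent of local freeness. -/

set_option autoImplicit false
set_option maxSynthPendingDepth 6
set_option synthInstance.maxHeartbeats 200000
set_option backward.isDefEq.respectTransparency.types false
universe u

open CategoryTheory CategoryTheory.Limits AlgebraicGeometry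

noncomputable section

namespace Groth.Agent.ASB64

/-- Powers of powers. -/
def powPowIso {Y : Scheme.{u}} (L : Y.Modules) (a b : ℕ) :
    BrSev.pow (BrSev.pow L a) b ≅ BrSev.pow L (b * a) :=
  sigmaSigmaIso (fun _ : Fin b => Fin a) (fun _ _ => L) ≪≫
    Limits.Sigma.reindex ((Equiv.sigmaEquivProd _ _).trans finProdFinEquiv) (fun _ : Fin (b * a) => L)

variable {k : Type u} [Field k] {X : Scheme.{u}} [X.Over (Spec (CommRingCat.of k))]
  (K : Type u) [Field K] [Algebra k K]

/-- The base change of a module. -/
abbrev bcObj (M : X.Modules) : (FF71.bc k X K).Modules :=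
  (Scheme.Modules.pullback (FF71.bcπ k X K)).obj M

/-- The base change of a power. -/
def bcPowIso (M : X.Modules) (a : ℕ) :
    bcObj (k := k) K (BrSev.pow M a) ≅ BrSev.pow (bcObj (k := k) K M) a :=
  haveI : PreservesColimitsOfSize.{0, 0} (Scheme.Modules.pullback (FF71.bcπ k X K)) :=
    (Scheme.Modules.pullbackPushforwardAdjunction _).leftAdjoint_preservesColimits
  PreservesCoproduct.iso (Scheme.Modules.pullback (FF71.bcπ k X K)) (fun _ : Fin a => M)

theorem bcπ_flat_surjective :
    Flat (FF71.bcπ k X K) ∧ Surjective (FF71.bcπ k X K) ∧ QuasiCompact (FF71.bcπ k X K) := by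
  haveI : Flat (Spec.map (CommRingCat.ofHom (algebraMap k K))) :=
    Flat.SpecMap_iff.mpr (by
      show (algebraMap k K).Flat
      exact RingHom.flat_algebraMap_iff.mpr inferInstance)
  haveI : Surjective (Spec.map (CommRingCat.ofHom (algebraMap k K))) :=
    ⟨Function.surjective_to_subsingleton (α := PrimeSpectrum K) (β := PrimeSpectrum k) _⟩
  exact ⟨inferInstance, inferInstance, inferInstance⟩

variable {L : (FF71.bc k X K).Modules} (hL : PicF.IsInvertible L)

include hL

/-- A quasi-coherent module of type an invertible module is finite locally free. -/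
theorem isFinLocFree_of_type {r : ℕ} (M : X.Modules) [M.IsQuasicoherent]
    (e : bcObj (k := k) K M ≅ BrSev.pow L r) : FlatMod.IsFinLocFree M := by
  obtain ⟨_, _, _⟩ := bcπ_flat_surjective (k := k) (X := X) K
  haveI : HasFiniteBiproducts (FF71.bc k X K).Modules := HasFiniteBiproducts.of_hasFiniteProducts
  refine Groth.Agent.S1177.result (FF71.bcπ k X K) M (LimTop61.isFinLocFree_of_iso
    ((biproduct.isoCoproduct fun _ : Fin r => L) ≪≫ e.symm) ?_)
  exact An92.AmpleRes.isFinLocFree_biproduct (fun _ : Fin r => L) fun _ => hL

/-- A quasi-coherent module becoming invertible is invertible. -/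
theorem isInvertible_of_type_one (M : X.Modules) [M.IsQuasicoherent]
    (e : bcObj (k := k) K M ≅ BrSev.pow L 1) : PicF.IsInvertible M := by
  obtain ⟨_, _, _⟩ := bcπ_flat_surjective (k := k) (X := X) K
  exact FBase64.DelPezzo.isInvertible_of_pullback (FF71.bcπ k X K) M
    (EGA73.isInvertible_of_iso (e ≪≫ coproductUniqueIso fun _ : Fin 1 => L).symm hL)

end Groth.Agent.ASB64

end
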