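import Groth.Agent.GeoConn24.Basic
import Groth.Agent.S4788
import Groth.Agent.QCCohInd72.Basic
import Groth.Agent.ASB64.PowOps
import Mathlib.FieldTheory.Galois.GaloisClosure

/-! Coherent modules on a base change along an algebraic extension come from a finite stage. -/

set_option autoImplicit false
set_option backward.isDefEq.respectTransparency false
set_option backward.defeqAttrib.useBackward true
set_option linter.style.haveILetI false
universe u

open CategoryTheory CategoryTheory.Limits AlgebraicGeometry Opposite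
open Lim8 Groth.Agent.LimTop61

noncomputable section

namespace Groth.Agent.ASB64

/-- A coherent module on a base change is defined over a finitely generated subalgebra. -/
theorem exists_fg_stage {k : Type u} [Field k] {X : Scheme.{u}} (p : X ⟶ Spec (CommRingCat.of k)) [IsProper p]
    (E : Type u) [Field E] [Algebra k E] (F : (W4bk4gw11416.baseChange p E).Modules) (hF : Coh.IsCoh F) :
    ∃ S : Subalgebra k E, S.FG ∧ ∃ F₀ : (pullback p (Spec.map (CommRingCat.ofHom (algebraMap k S)))).Modules,
      F₀.IsQuasicoherent ∧ CohB1.IsFP F₀ ∧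
      Nonempty ((Scheme.Modules.pullback (GeoConn24.toSub E p S)).obj F₀ ≅ F) := by
  classical
  let A := CommRingCat.of k
  let B := CommRingCat.of E
  have : IsDirectedOrder (FgSubalg A B) := ⟨fun S T => ⟨⟨S.1 ⊔ T.1, S.2.sup T.2⟩, le_sup_left (a := S.1), le_sup_right (a := S.1)⟩⟩
  have : Nonempty (FgSubalg A B) := ⟨⟨⊥, Subalgebra.fg_bot⟩⟩
  have : IsFiltered (FgSubalg A B) := isFiltered_of_directed_le_nonempty _
  have : IsCofiltered (FgSubalg A B)ᵒᵖ := inferInstance
  let D := subalgSpec A B
  let cS := subalgCone A B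
  let j₀ : (FgSubalg A B)ᵒᵖ := op ⟨⊥, Subalgebra.fg_bot⟩
  let g : D.obj j₀ ⟶ Spec A := Spec.map (CommRingCat.ofHom (algebraMap k (⊥ : Subalgebra k E)))
  have : IsIso g := by
    have hb : Function.Bijective (algebraMap k (⊥ : Subalgebra k E)) :=
      ⟨RingHom.injective _, fun z => by
        obtain ⟨r, hr⟩ := Algebra.mem_bot.mp z.2
        exact ⟨r, Subtype.ext hr⟩⟩
    have : IsIso (CommRingCat.ofHom (algebraMap k (⊥ : Subalgebra k E))) :=
      (RingEquiv.ofBijective _ hb).toCommRingCatIso.isIso_hom
    exact inferInstanceAs (IsIso (Spec.map _))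
  let a : X ⟶ D.obj j₀ := p ≫ inv g
  let sE := Spec.map (CommRingCat.ofHom (algebraMap k E))
  let sK (S : Subalgebra k E) := Spec.map (CommRingCat.ofHom (algebraMap k S))
  have hg (j : Over j₀) : D.map j.hom ≫ g = sK j.left.unop.1 := by
    simp only [D, g, sK, subalgSpec, Functor.comp_map, Functor.op_map, Scheme.Spec_map,
      Quiver.Hom.unop_op]
    erw [← Spec.map_comp]
    rfl
  have hgE : cS.π.app j₀ ≫ g = sE := by
    simp only [cS, g, sE, subalgCone, Functor.mapCone_π_app]
    erw [← Spec.map_comp]
    rfl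
  have hP : IsPullback (pullback.fst p sE) (pullback.snd p sE) a (cS.π.app j₀) :=
    (IsPullback.of_hasPullback p sE).of_iso (Iso.refl _) (Iso.refl _) (Iso.refl _) (asIso g).symm
      (by simp) (by simp) (by simp [a]) (by simp [← hgE])
  let c := bcCone D cS a (pullback.fst p sE) (pullback.snd p sE) hP.w
  let hc : IsLimit c := isLimitBcCone D cS (isLimitSubalgCone A B) a _ _ hP
  haveI : CompactSpace X := QuasiCompact.compactSpace_of_compactSpace p
  haveI : QuasiSeparatedSpace X := quasiSeparatedSpace_of_quasiSeparated p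
  haveI : CompactSpace ↥((bcDiagram D a).obj (Over.mk (𝟙 j₀))) := inferInstance
  haveI : QuasiSeparatedSpace ↥((bcDiagram D a).obj (Over.mk (𝟙 j₀))) :=
    quasiSeparatedSpace_of_quasiSeparated (pullback.fst a (D.map (Over.mk (𝟙 j₀)).hom))
  haveI : IsLocallyNoetherian (W4bk4gw11416.baseChange p E) :=
    LocallyOfFiniteType.isLocallyNoetherian (W4bk4gw11416.baseChangeTo p E)
  haveI : Coh.IsQCoh (show c.pt.Modules from F) := hF.1
  obtain ⟨j, -, Fj, hq, hfp, ⟨i⟩⟩ := Groth.Agent.S4788.result (bcDiagram D a) c hc (Over.mk (𝟙 j₀))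
    (show c.pt.Modules from F) (show CohB1.IsFP (X := W4bk4gw11416.baseChange p E) F from QCCohInd72.isFP_of_isCoh hF)
  have hiso : IsPullback (pullback.fst a (D.map j.hom)) (pullback.snd a (D.map j.hom)) p (sK j.left.unop.1) :=
    (IsPullback.of_hasPullback a (D.map j.hom)).of_iso (Iso.refl _) (Iso.refl _) (Iso.refl _) (asIso g)
      (by simp) (by simp) (by simp [a]) (by simpa using (hg j))
  have e : c.π.app j ≫ hiso.isoPullback.hom = GeoConn24.toSub E p j.left.unop.1 := by
    refine pullback.hom_ext ?_ ?_
    · rw [Category.assoc, hiso.isoPullback_hom_fst]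
      exact (pullback.lift_fst _ _ _).trans (pullback.lift_fst _ _ _).symm
    · rw [Category.assoc, hiso.isoPullback_hom_snd]
      refine (pullback.lift_snd _ _ _).trans ?_
      rw [GeoConn24.toSub, pullback.lift_snd]
      rfl
  haveI : Fj.IsQuasicoherent := hq
  haveI := hfp
  exact ⟨j.left.unop.1, j.left.unop.2, (Scheme.Modules.pullback hiso.isoPullback.inv).obj Fj,
    QCPull72.isQuasicoherent_pullback _ _, LimTop61.isFP_pullback _ _,
    ⟨(LimTop61.pullbackCompIso hiso.isoPullback.inv (GeoConn24.toSub E p j.left.unop.1)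
      (by rw [← e, Category.assoc, Iso.hom_inv_id, Category.comp_id])).app Fj ≪≫ i⟩⟩

/-- The projection of a base change to the base change at an intermediate stage. -/
def stageMap {k : Type u} [Field k] {X : Scheme.{u}} (p : X ⟶ Spec (CommRingCat.of k)) (N K : Type u) [Field N]
    [Field K] [Algebra k N] [Algebra k K] [Algebra N K] [IsScalarTower k N K] :
    W4bk4gw11416.baseChange p K ⟶ W4bk4gw11416.baseChange p N :=
  pullback.map _ _ _ _ (𝟙 X) (Spec.map (CommRingCat.ofHom (algebraMap N K))) (𝟙 _) (by simp)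
    (by rw [Category.comp_id, ← Spec.map_comp, ← CommRingCat.ofHom_comp, ← IsScalarTower.algebraMap_eq])

/-- A coherent module on a base change along a Galois extension comes from a finite Galois stage. -/
theorem exists_galois_stage {k : Type u} [Field k] {X : Scheme.{u}} (p : X ⟶ Spec (CommRingCat.of k)) [IsProper p]
    (K : Type u) [Field K] [Algebra k K] [IsGalois k K] (F : (W4bk4gw11416.baseChange p K).Modules)
    (hF : Coh.IsCoh F) :
    ∃ (N : IntermediateField k K) (_ : FiniteDimensional k N) (_ : IsGalois k N)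
      (F₀ : (W4bk4gw11416.baseChange p N).Modules), Coh.IsCoh F₀ ∧
      Nonempty ((Scheme.Modules.pullback (stageMap p N K)).obj F₀ ≅ F) := by
  obtain ⟨S, ⟨s, hs⟩, F₁, hq, hfp, ⟨e⟩⟩ := exists_fg_stage p K F hF
  let N := FiniteGaloisIntermediateField.adjoin k (s : Set K)
  have hle : S ≤ N.toIntermediateField.toSubalgebra := by
    rw [← hs]
    exact Algebra.adjoin_le fun x hx => FiniteGaloisIntermediateField.subset_adjoin k _ hx
  haveI := hq; haveI := hfp
  let i : S →ₐ[k] N.toIntermediateField.toSubalgebra := Subalgebra.inclusion hle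
  let m : W4bk4gw11416.baseChange p N.toIntermediateField ⟶
      pullback p (Spec.map (CommRingCat.ofHom (algebraMap k S))) :=
    pullback.map _ _ _ _ (𝟙 X) (Spec.map (CommRingCat.ofHom i.toRingHom)) (𝟙 _) (by simp)
      (by rw [Category.comp_id, ← Spec.map_comp, ← CommRingCat.ofHom_comp]; rfl)
  have hm : stageMap p N.toIntermediateField K ≫ m = GeoConn24.toSub K p S := by
    refine pullback.hom_ext ?_ ?_
    · simp [stageMap, m, GeoConn24.toSub]
    · simp only [stageMap, m, GeoConn24.toSub, Category.assoc, pullback.lift_snd, pullback.lift_snd_assoc,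
        ← Spec.map_comp]
      rfl
  haveI : IsLocallyNoetherian (W4bk4gw11416.baseChange p N.toIntermediateField) :=
    LocallyOfFiniteType.isLocallyNoetherian (W4bk4gw11416.baseChangeTo p N.toIntermediateField)
  refine ⟨N.toIntermediateField, inferInstance, inferInstance, (Scheme.Modules.pullback m).obj F₁,
    ⟨QCPull72.isQuasicoherent_pullback m F₁, QCPull72.isFiniteType_pullback m F₁⟩, ⟨?_⟩⟩
  exact (LimTop61.pullbackCompIso m (stageMap p N.toIntermediateField K) hm).app F₁ ≪≫ e

end Groth.Agent.ASB64
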