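import Groth.Agent.ASB64.TypeClass
import Groth.Agent.QC70.Stalk
import Groth.Agent.Csa25.RatPoint
import Groth.Prelude.Def_CurvBase
import Mathlib.AlgebraicGeometry.FunctionField

/-! The class of an isotypical module dies at the generic point. -/

set_option autoImplicit false
set_option maxSynthPendingDepth 6
set_option synthInstance.maxHeartbeats 200000
set_option backward.isDefEq.respectTransparency.types false
universe u

open CategoryTheory CategoryTheory.Limits AlgebraicGeometry Opposite
open scoped TensorProduct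

attribute [local instance] Curv2.stalkAlgebra

noncomputable section

namespace Groth.Agent.ASB64

theorem isFinLocFreeOfRank_pow {Y : Scheme.{u}} {L : Y.Modules} (hL : PicF.IsInvertible L) (r : ℕ) :
    FlatMod.IsFinLocFreeOfRank r (BrSev.pow L r) := fun x => by
  obtain ⟨U, hx, ⟨φ⟩⟩ := hL x
  have : PreservesColimitsOfSize.{0, 0} (Scheme.Modules.restrictFunctor U.ι) :=
    (Scheme.Modules.restrictAdjunction U.ι).leftAdjoint_preservesColimits
  exact ⟨U, hx, ⟨PreservesCoproduct.iso (Scheme.Modules.restrictFunctor U.ι) (fun _ : Fin r => L) ≪≫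
    Limits.Sigma.mapIso fun _ => φ⟩⟩

variable {k : Type u} [Field k] {X : Scheme.{u}} [X.Over (Spec (CommRingCat.of k))]

/-- The action of endomorphisms on a stalk. -/
def endStalk (M : X.Modules) (x : X) :
    End M →+* Module.End (X.presheaf.stalk x) (M.presheaf.stalk x) where
  toFun a := QC70.stalkLinear (End.asHom a) x
  map_one' := LinearMap.ext fun v => by
    obtain ⟨W, hW, s, rfl⟩ := QC70.germM_exist v
    exact QC70.stalkMapM_germ (𝟙 M) hW s
  map_mul' a b := LinearMap.ext fun v => by
    obtain ⟨W, hW, s, rfl⟩ := QC70.germM_exist v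
    show QC70.stalkMapM (End.asHom b ≫ End.asHom a) x _ =
      QC70.stalkMapM (End.asHom a) x (QC70.stalkMapM (End.asHom b) x _)
    rw [QC70.stalkMapM_germ, QC70.stalkMapM_germ, QC70.stalkMapM_germ]
    rfl
  map_zero' := LinearMap.ext fun v => by
    obtain ⟨W, hW, s, rfl⟩ := QC70.germM_exist v
    exact (QC70.stalkMapM_germ (0 : M ⟶ M) hW s).trans (QC70.germM_zero hW)
  map_add' a b := LinearMap.ext fun v => by
    obtain ⟨W, hW, s, rfl⟩ := QC70.germM_exist v
    show QC70.stalkMapM (End.asHom a + End.asHom b) x _ =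
      QC70.stalkMapM (End.asHom a) x _ + QC70.stalkMapM (End.asHom b) x _
    rw [QC70.stalkMapM_germ, QC70.stalkMapM_germ, QC70.stalkMapM_germ, app_add_apply, QC70.germM_add]

theorem endStalk_algebraMap (M : X.Modules) (x : X) (c : k) :
    endStalk M x (algebraMap k (End M) c) = Curv2.stalkMap k X x c • LinearMap.id := by
  refine LinearMap.ext fun v => ?_
  obtain ⟨W, hW, s, rfl⟩ := QC70.germM_exist v
  rw [Algebra.algebraMap_eq_smul_one]
  show QC70.stalkMapM (c • 𝟙 M) x _ = _
  rw [KLin.smul_id, QC70.stalkMapM_germ]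
  show QC70.germM M W x hW ((Formal.smulModΓ M _).app W s) = _
  rw [KLin.smulModΓ_app_apply, QC70.germM_smul]
  show _ = Curv2.stalkMap k X x c • QC70.germM M W x hW s
  congr 1
  exact QC70.germ_resO (le_top : W ≤ ⊤) hW _

variable [IsProper (X ↘ Spec (CommRingCat.of k))] {K : Type u} [Field K] [Algebra k K]
  {L : (FF71.bc k X K).Modules} {r : ℕ} {M : X.Modules}

/-- The endomorphism algebra is split by the function field. -/
theorem splits_functionField [IsIntegral X]
    (hΓ : Function.Bijective (Coh.toGlobal (FF71.bc k X K ↘ Spec (CommRingCat.of K))))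
    (h : Typed K L r M) (hr : 0 < r) : Curves.Splits k (End M) X.functionField := by
  obtain ⟨_, _, _⟩ := h.csa hΓ hr
  obtain ⟨e⟩ := h.iso
  let η := genericPoint X
  have hM := h.isFinLocFree
  obtain ⟨_, hs, _⟩ := bcπ_flat_surjective (k := k) (X := X) K
  obtain ⟨y, hy⟩ := (FF71.bcπ k X K).surjective η
  have hrk : LimTop61.stalkRk M η = r := by
    rw [← hy, ← LimTop61.stalkRk_pullback (FF71.bcπ k X K) hM y]
    exact (LimTop61.isFinLocFreeOfRank_iff.mp
      (LimTop61.isFinLocFreeOfRank_of_iso e.symm (isFinLocFreeOfRank_pow h.inv r))).2 y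
  let F := X.presheaf.stalk η
  letI : Field F := inferInstanceAs (Field X.functionField)
  haveI : Module.Finite F (M.presheaf.stalk η) :=
    Module.finite_of_finrank_pos (show 0 < LimTop61.stalkRk M η by rw [hrk]; exact hr)
  let b := Module.finBasisOfFinrankEq F (M.presheaf.stalk η) hrk
  let φ : End M →ₐ[k] Matrix (Fin r) (Fin r) F :=
    { toRingHom := (LinearMap.toMatrixAlgEquiv b).toRingEquiv.toRingHom.comp (endStalk M η)
      commutes' := fun c => by
        show LinearMap.toMatrixAlgEquiv b (endStalk M η (algebraMap k (End M) c)) = _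
        rw [endStalk_algebraMap, map_smul]
        show Curv2.stalkMap k X η c • LinearMap.toMatrixAlgEquiv b (1 : Module.End F (M.presheaf.stalk η)) = _
        rw [map_one, ← Algebra.algebraMap_eq_smul_one]
        rfl }
  exact Csa25.splits_of_rep k (End M) X.functionField hr.ne' (h.finrank_end hΓ) φ

end Groth.Agent.ASB64

end
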