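import Groth.Agent.ASB64.TypeClass

/-! Global functions after a field extension. -/

set_option autoImplicit false
set_option maxSynthPendingDepth 6
set_option synthInstance.maxHeartbeats 200000
set_option backward.isDefEq.respectTransparency.types false
universe u

open CategoryTheory CategoryTheory.Limits AlgebraicGeometry
open scoped TensorProduct

noncomputable section

namespace Groth.Agent.ASB64

variable {k : Type u} [Field k] {X : Scheme.{u}} [X.Over (Spec (CommRingCat.of k))]
  [IsProper (X ↘ Spec (CommRingCat.of k))] (K : Type u) [Field K] [Algebra k K]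

/-- If the global functions on `X` are the scalars, so are those of its base change. -/
theorem bijective_toGlobal_bc (hk : Function.Bijective (Coh.toGlobal (X ↘ Spec (CommRingCat.of k)))) :
    Function.Bijective (Coh.toGlobal (FF71.bc k X K ↘ Spec (CommRingCat.of K))) := by
  let O := Coh.structureModule X
  let O' := Coh.structureModule (FF71.bc k X K)
  have hf := isFinLocFree_of_isInvertible (EGA73.isInvertible_structureModule (X := X))
  haveI : O.IsQuasicoherent := Props58.LocFree.isQuasicoherent_of_isFinLocFree hf
  haveI : O.IsFiniteType := Props58.LocFree.isFiniteType_of_isFinLocFree hf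
  haveI : CompactSpace X := QuasiCompact.compactSpace_of_compactSpace (X ↘ Spec (CommRingCat.of k))
  have he : Function.Bijective fun a : k => a • 𝟙 O := bijective_smul_id hk EGA73.isInvertible_structureModule
  have hE : Module.finrank k (End O) = 1 := by
    have h1 : Function.Bijective (Algebra.linearMap k (End O)) := by
      have h2 : (fun a : k => a • 𝟙 O) = Algebra.linearMap k (End O) :=
        funext fun a => (Algebra.algebraMap_eq_smul_one (A := End O) a).symm
      rwa [h2] at he
    rw [← (LinearEquiv.ofBijective _ h1).finrank_eq, Module.finrank_self]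
  have hE' : Module.finrank K (End O') = 1 := by
    rw [← (conjAlg (K := K) (PicLoc.pullbackStructureIso (FF71.bcπ k X K))).toLinearEquiv.finrank_eq,
      ← (AlgEquiv.ofBijective (endBC (k := k) K O) (endBC_bijective (k := k) K O)).toLinearEquiv.finrank_eq,
      Module.finrank_baseChange, hE]
  haveI : Nontrivial (End O') := Module.nontrivial_of_finrank_pos (R := K) (by omega)
  haveI : FiniteDimensional K (End O') := Module.finite_of_finrank_pos (by omega)
  have hinj : Function.Injective (Algebra.linearMap K (End O')) := (algebraMap K (End O')).injective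
  have hsur := (LinearMap.injective_iff_surjective_of_finrank_eq_finrank (by rw [Module.finrank_self, hE'])
    (f := Algebra.linearMap K (End O'))).mp hinj
  have hval : ∀ a : K, algebraMap K (End O') a =
      End.of (Formal.smulModΓ O' (Coh.toGlobal (FF71.bc k X K ↘ Spec (CommRingCat.of K)) a)) := fun a => by
    rw [Algebra.algebraMap_eq_smul_one]
    exact KLin.smul_id O' a
  refine ⟨fun a b hab => hinj (?_ : algebraMap K (End O') a = algebraMap K (End O') b), fun g => ?_⟩
  · rw [hval a, hval b, hab]
  obtain ⟨a, ha⟩ := hsur (End.of (Formal.smulModΓ O' g))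
  refine ⟨a, (sub_eq_zero.mp (eq_zero_of_smulModΓ_eq_zero EGA73.isInvertible_structureModule ?_))⟩
  have h1 : Formal.smulModΓ O' (Coh.toGlobal (FF71.bc k X K ↘ Spec (CommRingCat.of K)) a) = Formal.smulModΓ O' g :=
    (hval a).symm.trans ha
  have h2 := KLin.smulModΓ_add O' (Coh.toGlobal (FF71.bc k X K ↘ Spec (CommRingCat.of K)) a - g) g
  rw [sub_add_cancel, h1] at h2
  simpa using h2.symm

end Groth.Agent.ASB64

end
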