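import Groth.Agent.ASB64.FlatLift
import Groth.Agent.ParaF26.ThickTriv
import Groth.Agent.Mum71.Model
import Groth.Agent.Cube73.Semicont
import Groth.Agent.ValVan29.Vanish

/-! Invertible modules over an artinian local base which are trivial on the closed fibre. -/

set_option autoImplicit false
set_option maxSynthPendingDepth 6
set_option synthInstance.maxHeartbeats 200000
set_option linter.style.haveILetI false
set_option backward.isDefEq.respectTransparency.types false

universe u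

noncomputable section

open CategoryTheory Limits AlgebraicGeometry TopologicalSpace Opposite TensorProduct

namespace Groth.Agent.ASB64

open Coh69 CechComp71 FF71 Mum71 Var76.LineBundle

set_option maxHeartbeats 1000000 in
/-- An invertible module on a flat proper scheme over an artinian local ring which is trivial on the
closed fibre is trivial, when the fibre has `H¹(O) = 0`. -/
theorem trivial_of_residue {A : Type u} [CommRing A] [IsLocalRing A] [IsArtinianRing A] [IsNoetherianRing A]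
    {Y : Scheme.{u}} [Y.Over (Spec (CommRingCat.of A))] [IsProper (Y ↘ Spec (CommRingCat.of A))]
    [Flat (Y ↘ Spec (CommRingCat.of A))] (L : Y.Modules) (hL : PicF.IsInvertible L)
    {κ : Type u} [Field κ] [Algebra A κ] (hκ : Function.Surjective (algebraMap A κ))
    (e : bcMod (A := A) L κ ≅ Coh.structureModule _)
    (h1 : Subsingleton (Coh.HH (bc A Y κ) (Coh.structureModule (bc A Y κ)) 1)) :
    Nonempty (L ≅ Coh.structureModule Y) := by
  let p := bcπ A Y κ
  let G := bcMod (A := A) L κ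
  have hC := Crv77.isCoh_of_isInvertible hL
  haveI := hC.1
  haveI := hC.2
  haveI : IsLocallyNoetherian Y := LocallyOfFiniteType.isLocallyNoetherian (Y ↘ Spec (CommRingCat.of A))
  obtain ⟨ι, hι, U, hU, hUa⟩ := exists_cover (A := A) (X := Y)
  let θ := bcCoef (A := A) L κ hUa
  have hfl : Module.Flat A (Ch U L 2) :=
    flat_chCx (A := A) L hUa (Cube73.isFlatOver_of_isInvertible _ hL) (Int.ofNat 2)
  have hgf : cdL A U L 1 ∘ₗ cdL A U L 0 = 0 :=
    LinearMap.ext fun c => Coh69.cd_cd (P := L.presheaf) U 0 c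
  have hex : ∀ x : Ch U L 1 ⊗[A] κ, (cdL A U L 1).rTensor κ x = 0 →
      x ∈ LinearMap.range ((cdL A U L 0).rTensor κ) := fun x hx =>
    θ.mem_range_of_subsingleton (iSup_bcCover (A := A) U κ hU) (acyclicOn_bc (A := A) L κ hUa) 0
      (ValVan29.subsingleton_hh_of_iso e.symm 1 h1) x hx
  obtain ⟨t, ht⟩ := ParaF26.exists_frame_of_iso_unit e
  let t₀ : Cochain (bcCover (A := A) U κ) G.presheaf 0 := fun i => QC70.res G le_top t
  obtain ⟨z, hz⟩ : ∃ z : Ch U L 0, θ.Φ 0 (z ⊗ₜ (1 : κ)) = t₀ := by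
    obtain ⟨w, hw⟩ := (θ.Φ 0).surjective t₀
    obtain ⟨z, rfl⟩ : ∃ z : Ch U L 0, w = z ⊗ₜ 1 := by
      clear hw
      induction w with
      | zero => exact ⟨0, (TensorProduct.zero_tmul _ _).symm⟩
      | add a b ha hb =>
        obtain ⟨x, rfl⟩ := ha
        obtain ⟨y, rfl⟩ := hb
        exact ⟨x + y, (TensorProduct.add_tmul _ _ _).symm⟩
      | tmul x a =>
        obtain ⟨r, rfl⟩ := hκ a
        exact ⟨r • x, by rw [TensorProduct.smul_tmul, Algebra.smul_def, mul_one]⟩
    exact ⟨z, hw⟩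
  have hz0 : (cdL A U L 0).rTensor κ (z ⊗ₜ 1) = 0 := by
    apply (θ.Φ 1).injective
    rw [θ.Φ_d, hz, map_zero]
    funext i
    show Coh69.cd _ G.presheaf 0 t₀ i = 0
    rw [cd_apply, Fin.sum_univ_two]
    let R : Γ(G, ⊤) → Γ(G, cOpen (bcCover (A := A) U κ) i) := QC70.res G le_top
    have e' : ∀ j : Fin 2, Coh69.res G.presheaf (cOpen_comp_le (bcCover (A := A) U κ) i j.succAbove)
        (t₀ (i ∘ j.succAbove)) = R t := fun j => QC70.res_res _ _ _
    rw [e', e']
    simp
  obtain ⟨c, hc, hcz⟩ := exists_lift_of_residue hκ (cdL A U L 0) (cdL A U L 1) hgf hex z hz0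
  obtain ⟨n₀, hn₀⟩ := ParaF26.exists_global (⊥ : Ideal A) L U hU hUa
  obtain ⟨s, hs⟩ := hn₀ c (by
    rw [show Coh69.cd U L.presheaf 0 c = 0 from hc]
    exact zero_mem _)
  have hs' : ∀ i, QC70.res L le_top s = (show Γ(L, cOpen U i) from c i) := fun i => by
    have h := hs i
    rw [FF71.secI, Ideal.map_bot, Submodule.bot_smul, Submodule.mem_bot, sub_eq_zero] at h
    exact h
  have hpt : Amp73.pullS p L ⊤ s = QC70.res G le_top t := by
    refine QC70.section_ext' G (fun a : ι => p ⁻¹ᵁ cOpen U fun _ : Fin (0 + 1) => a) (fun a => p.preimage_mono le_top)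
      (fun x _ => ?_) _ _ fun a => ?_
    · obtain ⟨a, ha⟩ := Opens.mem_iSup.mp (hU.ge (trivial : p x ∈ ⊤))
      exact Opens.mem_iSup.mpr ⟨a, le_cOpen U (V := U a) (fun _ => le_rfl) ha⟩
    let i : Fin (0 + 1) → ι := fun _ => a
    have h2 : θ.θ 0 i (c i ⊗ₜ (1 : κ)) = QC70.res G le_top t := by
      rw [← θ.Φ_tmul 0 c 1 i, hcz, hz]
    have h3 : θ.θ 0 i (c i ⊗ₜ (1 : κ)) =
        QC70.res G (cOpen_bcCover U κ i).le (Amp73.pullS p L (cOpen U i) (c i)) := by
      show bcMap L κ (hUa 0 i) (cOpen_bcCover U κ i) (c i ⊗ₜ 1) = _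
      rw [bcMap_tmul, map_one, one_smul]
      rfl
    rw [h3] at h2
    have h4 := congrArg (QC70.res G (cOpen_bcCover U κ i).ge) h2
    rw [QC70.res_res, QC70.res_res, QC70.res_self] at h4
    rw [QC70.res_res]
    refine (Amp73.res_pullS p L (le_top : cOpen U i ≤ ⊤) s).trans ?_
    rw [show Var76.LineBundle.res L (le_top : cOpen U i ≤ ⊤) s = c i from hs' i]
    exact h4
  haveI : Surjective p := by
    haveI : Surjective (Spec.map (CommRingCat.ofHom (algebraMap A κ))) := ⟨fun x => by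
      refine ⟨IsLocalRing.closedPoint κ, ?_⟩
      have : x.asIdeal.IsMaximal := inferInstance
      refine PrimeSpectrum.ext ?_
      show Ideal.comap (algebraMap A κ) (IsLocalRing.maximalIdeal κ) = x.asIdeal
      rw [IsLocalRing.eq_maximalIdeal this, IsLocalRing.maximalIdeal_eq_bot, ← RingHom.ker_eq_comap_bot]
      exact IsLocalRing.eq_maximalIdeal (RingHom.ker_isMaximal_of_surjective (algebraMap A κ) hκ)⟩
    infer_instance
  refine ParaF26.nonempty_iso_unit (e := s) (Amp73.isFrame_of_locally _ fun y _ => ?_)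
  obtain ⟨W, hyW, -, ε, hε⟩ := Mero90.exists_affine_frame hL y ⊤ trivial
  obtain ⟨v, hv⟩ := (hε W.1 le_rfl).2 (Var76.LineBundle.res L le_top s)
  dsimp only at hv
  rw [Amp73.res_self] at hv
  obtain ⟨q, hq⟩ := p.surjective y
  have h5 : IsFrame G (p ⁻¹ᵁ W.1) (p.app W.1 v • Amp73.pullS p L W.1 ε) := by
    rw [← Amp73.pullS_smul, hv, ← Amp73.res_pullS p L le_top s, hpt]
    have h6 := (ht.res (le_top : p ⁻¹ᵁ ⊤ ≤ ⊤)).res (p.preimage_mono (le_top : W.1 ≤ ⊤))
    exact h6
  have hu := (Amp73.isFrame_smul_iff (Amp73.isFrame_pullS p hL hε) _).1 h5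
  have hq' : q ∈ (bc A Y κ).basicOpen (p.app W.1 v) := by
    rw [(bc A Y κ).basicOpen_of_isUnit hu]
    show p q ∈ W.1
    rw [hq]
    exact hyW
  rw [← Scheme.preimage_basicOpen] at hq'
  have hyv : y ∈ Y.basicOpen v := hq ▸ hq'
  refine ⟨Y.basicOpen v, le_top, hyv, ?_⟩
  have hcu : IsUnit (Y.presheaf.map (homOfLE (Y.basicOpen_le v)).op v) :=
    RingedSpace.isUnit_res_basicOpen _ v
  have h7 := (Amp73.isFrame_smul_iff (hε.res (Y.basicOpen_le v)) _).2 hcu
  rw [← Var76.LineBundle.res_smul, hv, Var76.LineBundle.res_res] at h7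
  exact h7

end Groth.Agent.ASB64
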