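import Groth.Agent.ASB64.BaseFree
import Groth.Agent.ASB64.PicThick
import Groth.Agent.An92.Ample.Inverse
import Groth.Agent.Coh69.AffinePush
import Mathlib.FieldTheory.PurelyInseparable.Basic
import Mathlib.RingTheory.Artinian.Module

/-! A purely inseparable descent of invertible modules. -/

set_option autoImplicit false
set_option maxSynthPendingDepth 6
set_option synthInstance.maxHeartbeats 200000
set_option linter.style.haveILetI false
set_option backward.isDefEq.respectTransparency.types false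
universe u

noncomputable section

open CategoryTheory CategoryTheory.Limits AlgebraicGeometry TopologicalSpace TensorProduct

namespace Groth.Agent.ASB64

open QC70 FF71 QCPull72 Mum71

/-- The tensor square of a purely inseparable extension is local. -/
theorem isLocalRing_tensor_self (F K : Type u) [Field F] [Field K] [Algebra F K] [IsPurelyInseparable F K] :
    IsLocalRing (K ⊗[F] K) := by
  let μ : K ⊗[F] K →ₐ[F] K := Algebra.TensorProduct.lmul' F
  haveI : Nontrivial (K ⊗[F] K) := RingHom.domain_nontrivial μ.toRingHom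
  obtain ⟨q, hq⟩ := ExpChar.exists F
  haveI := hq
  haveI : ExpChar K q := expChar_of_injective_ringHom (algebraMap F K).injective q
  haveI : ExpChar (K ⊗[F] K) q :=
    expChar_of_injective_ringHom (algebraMap F (K ⊗[F] K)).injective q
  have hnil : RingHom.ker μ.toRingHom ≤ nilradical (K ⊗[F] K) := by
    show KaehlerDifferential.ideal F K ≤ _
    rw [← KaehlerDifferential.span_range_eq_ideal, Ideal.span_le]
    rintro _ ⟨x, rfl⟩
    obtain ⟨m, a, ha⟩ := IsPurelyInseparable.pow_mem F q x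
    refine ⟨q ^ m, ?_⟩
    show ((1 : K) ⊗ₜ[F] x - x ⊗ₜ[F] (1 : K)) ^ (q ^ m) = 0
    rw [sub_pow_expChar_pow, Algebra.TensorProduct.tmul_pow, Algebra.TensorProduct.tmul_pow, one_pow, ← ha,
      Algebra.algebraMap_eq_smul_one, TensorProduct.tmul_smul, TensorProduct.smul_tmul', sub_self]
  have hmax : (RingHom.ker μ.toRingHom).IsMaximal :=
    RingHom.ker_isMaximal_of_surjective _ fun x => ⟨x ⊗ₜ 1, by
      show μ (x ⊗ₜ 1) = x
      rw [Algebra.TensorProduct.lmul'_apply_tmul, mul_one]⟩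
  refine IsLocalRing.of_unique_max_ideal ⟨_, hmax, fun J hJ => ?_⟩
  exact (hmax.eq_of_le hJ.ne_top (hnil.trans (nilradical_le_prime J))).symm

variable {F : Type u} [Field F] {X : Scheme.{u}} [X.Over (Spec (CommRingCat.of F))]
  {K : Type u} [Field K] [Algebra F K]

theorem hom_app_rA {A : Type u} [CommRing A] {Y Z : Scheme.{u}} [Y.Over (Spec (CommRingCat.of A))]
    [Z.Over (Spec (CommRingCat.of A))] (g : Y ⟶ Z)
    (hg : g ≫ (Z ↘ Spec (CommRingCat.of A)) = Y ↘ Spec (CommRingCat.of A)) (W : Z.Opens) (c : A) :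
    g.app W (rA A Z W c) = rA A Y (g ⁻¹ᵁ W) c := by
  have h := congrArg (fun φ => Scheme.Hom.appTop φ ((Scheme.ΓSpecIso (CommRingCat.of A)).inv c)) hg
  simp only [Scheme.Hom.comp_appTop, CategoryTheory.comp_apply] at h
  show g.app W (resO Z le_top ((Z ↘ Spec (CommRingCat.of A)).appTop _)) = resO Y le_top ((Y ↘ Spec (CommRingCat.of A)).appTop _)
  rw [QCqs72.app_resO]
  exact congrArg (resO _ le_top) h

theorem isPullback_includeLeft_Right (F K : Type u) [Field F] [Field K] [Algebra F K] :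
    IsPullback (Spec.map (CommRingCat.ofHom ((Algebra.TensorProduct.includeRight : K →ₐ[F] K ⊗[F] K).toRingHom)))
      (Spec.map (CommRingCat.ofHom (Algebra.TensorProduct.includeLeftRingHom : K →+* K ⊗[F] K)))
      (Spec.map (CommRingCat.ofHom (algebraMap F K))) (Spec.map (CommRingCat.ofHom (algebraMap F K))) :=
  (CommRingCat.isPushout_tensorProduct F K K).op.map Scheme.Spec

theorem exists_toTensor {F : Type u} [Field F] {K : Type u} [Field K]
    [Algebra F K] {X₀ : Scheme.{u}} [X₀.Over (Spec (CommRingCat.of F))] (sK : X₀ ⟶ Spec (CommRingCat.of K))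
    (hs : X₀ ↘ Spec (CommRingCat.of F) = sK ≫ Spec.map (CommRingCat.ofHom (algebraMap F K))) :
    ∃ r : bc F X₀ K ⟶ Spec (CommRingCat.of (K ⊗[F] K)),
      r ≫ Spec.map (CommRingCat.ofHom ((Algebra.TensorProduct.includeRight : K →ₐ[F] K ⊗[F] K).toRingHom)) = pullback.snd _ _ ∧
      IsPullback r (bcπ F X₀ K) (Spec.map (CommRingCat.ofHom (Algebra.TensorProduct.includeLeftRingHom : K →+* K ⊗[F] K))) sK := by
  have hR := isPullback_includeLeft_Right F K
  have hw : pullback.snd _ _ ≫ Spec.map (CommRingCat.ofHom (algebraMap F K)) =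
      (bcπ F X₀ K ≫ sK) ≫ Spec.map (CommRingCat.ofHom (algebraMap F K)) := by
    rw [Category.assoc, ← hs]; exact pullback.condition.symm
  refine ⟨hR.lift _ _ hw, hR.lift_fst _ _ _, IsPullback.of_right ?_ (hR.lift_snd _ _ _) hR⟩
  rw [hR.lift_fst, ← hs]
  exact (IsPullback.of_hasPullback _ _).flip

section

variable [(bc F X K).Over (Spec (CommRingCat.of F))]

/-- The first projection of the self product of a base change. -/
def twin (hF : (bc F X K ↘ Spec (CommRingCat.of F)) = bcπ F X K ≫ (X ↘ Spec (CommRingCat.of F))) :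
    bc F (bc F X K) K ⟶ bc F X K :=
  pullback.lift (bcπ F (bc F X K) K ≫ bcπ F X K) (pullback.snd _ _)
    (by rw [Category.assoc, ← hF]; exact pullback.condition)

theorem exists_swap (hF : (bc F X K ↘ Spec (CommRingCat.of F)) = bcπ F X K ≫ (X ↘ Spec (CommRingCat.of F))) :
    ∃ σ : bc F (bc F X K) K ⟶ bc F (bc F X K) K, IsIso σ ∧ σ ≫ bcπ F (bc F X K) K = twin hF := by
  let π := bcπ F X K
  let sK : bc F X K ⟶ Spec (CommRingCat.of K) := bc F X K ↘ Spec (CommRingCat.of K)
  let a := Spec.map (CommRingCat.ofHom (algebraMap F K))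
  let X₀ := bc F X K
  let Y := bc F X₀ K
  let q₂ : Y ⟶ X₀ := bcπ F X₀ K
  let sY : Y ⟶ Spec (CommRingCat.of K) := Y ↘ Spec (CommRingCat.of K)
  let q₁ : Y ⟶ X₀ := twin hF
  have hq₁π : q₁ ≫ π = q₂ ≫ π := pullback.lift_fst _ _ _
  have hq₁s : q₁ ≫ sK = sY := pullback.lift_snd _ _ _
  have hπa : π ≫ (X ↘ Spec (CommRingCat.of F)) = sK ≫ a := pullback.condition
  have hw₂ : q₂ ≫ π ≫ (X ↘ Spec (CommRingCat.of F)) = sY ≫ a := by
    rw [← hF]; exact pullback.condition
  let σ : Y ⟶ Y := pullback.lift q₁ (q₂ ≫ sK) (by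
    rw [hF]
    show q₁ ≫ π ≫ (X ↘ Spec (CommRingCat.of F)) = (q₂ ≫ sK) ≫ a
    rw [reassoc_of% hq₁π, hπa, Category.assoc])
  have hσ₂ : σ ≫ q₂ = q₁ := pullback.lift_fst _ _ _
  have hσs : σ ≫ sY = q₂ ≫ sK := pullback.lift_snd _ _ _
  have hσ₁ : σ ≫ q₁ = q₂ := by
    refine pullback.hom_ext ?_ ?_
    · show (σ ≫ q₁) ≫ π = q₂ ≫ π
      rw [Category.assoc, hq₁π, reassoc_of% hσ₂, hq₁π]
    · show (σ ≫ q₁) ≫ sK = q₂ ≫ sK
      rw [Category.assoc, hq₁s, hσs]
  have hσσ : σ ≫ σ = 𝟙 Y := by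
    refine pullback.hom_ext ?_ ?_
    · show (σ ≫ σ) ≫ q₂ = 𝟙 Y ≫ q₂
      rw [Category.assoc, hσ₂, hσ₁, Category.id_comp]
    · show (σ ≫ σ) ≫ sY = 𝟙 Y ≫ sY
      rw [Category.assoc, hσs, reassoc_of% hσ₂, hq₁s, Category.id_comp]
  haveI : IsIso σ := ⟨σ, hσσ, hσσ⟩
  exact ⟨σ, inferInstance, hσ₂⟩

theorem isAffineHom_twin (hF : (bc F X K ↘ Spec (CommRingCat.of F)) = bcπ F X K ≫ (X ↘ Spec (CommRingCat.of F))) :
    IsAffineHom (twin hF) := by
  obtain ⟨σ, _, h⟩ := exists_swap hF
  rw [← h]; infer_instance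

set_option maxHeartbeats 800000 in
/-- Base change of a direct image along itself. -/
theorem nonempty_pull_push_twin (hF : (bc F X K ↘ Spec (CommRingCat.of F)) = bcπ F X K ≫ (X ↘ Spec (CommRingCat.of F)))
    (L : (bc F X K).Modules) [L.IsQuasicoherent] :
    Nonempty ((Scheme.Modules.pullback (bcπ F X K)).obj ((Scheme.Modules.pushforward (bcπ F X K)).obj L) ≅
      (Scheme.Modules.pushforward (twin hF)).obj (bcMod (A := F) L K)) := by
  let π := bcπ F X K
  let sK : bc F X K ⟶ Spec (CommRingCat.of K) := bc F X K ↘ Spec (CommRingCat.of K)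
  let a := Spec.map (CommRingCat.ofHom (algebraMap F K))
  let X₀ := bc F X K
  let Y := bc F X₀ K
  let q₂ : Y ⟶ X₀ := bcπ F X₀ K
  let sY : Y ⟶ Spec (CommRingCat.of K) := Y ↘ Spec (CommRingCat.of K)
  let q₁ : Y ⟶ X₀ := twin hF
  have hq₁π : q₁ ≫ π = q₂ ≫ π := pullback.lift_fst _ _ _
  have hq₁s : q₁ ≫ sK = sY := pullback.lift_snd _ _ _
  have hπa : π ≫ (X ↘ Spec (CommRingCat.of F)) = sK ≫ a := pullback.condition
  have hw₂ : q₂ ≫ π ≫ (X ↘ Spec (CommRingCat.of F)) = sY ≫ a := by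
    rw [← hF]; exact pullback.condition
  haveI : IsAffineHom q₁ := isAffineHom_twin hF
  let G := bcMod (A := F) L K
  haveI : G.IsQuasicoherent := QCPull72.isQuasicoherent_pullback q₂ L
  let N := (Scheme.Modules.pushforward π).obj L
  haveI : N.IsQuasicoherent := QCqs72.isQuasicoherent_pushforward (M := L) π
  let β : N ⟶ (Scheme.Modules.pushforward π).obj ((Scheme.Modules.pushforward q₁).obj G) :=
    (Scheme.Modules.pushforward π).map (QCPull72.pullUnit q₂ L) ≫
      (Scheme.Modules.pushforwardComp q₂ π).hom.app G ≫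
      (Scheme.Modules.pushforwardCongr hq₁π).inv.app G ≫
      (Scheme.Modules.pushforwardComp q₁ π).inv.app G
  let Φ : (Scheme.Modules.pullback π).obj N ⟶ (Scheme.Modules.pushforward q₁).obj G :=
    ((Scheme.Modules.pullbackPushforwardAdjunction π).homEquiv _ _).symm β
  haveI := QCPull72.isQuasicoherent_pullback π N
  haveI : ((Scheme.Modules.pushforward q₁).obj G).IsQuasicoherent := QCqs72.isQuasicoherent_pushforward (M := G) q₁
  haveI hΦ : IsIso Φ := by
    refine EGA73.isIso_of_bijective_cover Φ (fun V : X.affineOpens => π ⁻¹ᵁ V.1) (fun V => V.2.preimage π)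
      (fun x => ?_) fun V => ?_
    · obtain ⟨V, hV, hx, -⟩ := exists_isAffineOpen_mem_and_subset (x := π x) (U := ⊤) trivial
      exact ⟨⟨V, hV⟩, hx⟩
    let W := π ⁻¹ᵁ V.1
    have hW : IsAffineOpen W := V.2.preimage π
    have hpre : q₁ ⁻¹ᵁ W = q₂ ⁻¹ᵁ W := by
      show q₁ ⁻¹ᵁ π ⁻¹ᵁ V.1 = q₂ ⁻¹ᵁ π ⁻¹ᵁ V.1
      rw [← Scheme.Hom.comp_preimage, ← Scheme.Hom.comp_preimage, hq₁π]
    have hkey : ∀ (m : Γ(N, V.1)) (c : K), Φ.app W (bcMap N K V.2 rfl (m ⊗ₜ c)) =
        bcMap L K hW hpre ((show Γ(L, W) from m) ⊗ₜ c) := by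
      intro m c
      have h := (Scheme.Modules.pullbackPushforwardAdjunction π).homEquiv_unit (X := N) (f := Φ)
      rw [show ((Scheme.Modules.pullbackPushforwardAdjunction π).homEquiv _ _) Φ = β from
        Equiv.apply_symm_apply _ _] at h
      have h2 := congrArg (fun φ => φ.app V.1 m) h
      have hu : Φ.app W (unitSec π N (le_refl W) m) =
          (show Γ(G, q₁ ⁻¹ᵁ W) from res G hpre.le ((QCPull72.pullUnit q₂ L).app W m)) := by
        unfold unitSec
        rw [res_self]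
        exact h2.symm.trans rfl
      rw [bcMap_tmul, bcMap_tmul, Scheme.Modules.Hom.app_smul, hu]
      show q₁.app W (rA K X₀ W c) • (show Γ(G, q₁ ⁻¹ᵁ W) from res G hpre.le ((QCPull72.pullUnit q₂ L).app W m)) = _
      rw [hom_app_rA q₁ hq₁s]
      rfl
    let e := bcMap L K hW hpre
    have hfun : ∀ z : Γ(N, V.1) ⊗[F] K, ∃ z' : Γ(L, W) ⊗[F] K, Φ.app W (bcMap N K V.2 rfl z) = e z' := by
      intro z
      induction z with
      | zero => exact ⟨0, by rw [map_zero, map_zero, map_zero]; rfl⟩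
      | add x y hx hy =>
        obtain ⟨x', hx⟩ := hx
        obtain ⟨y', hy⟩ := hy
        exact ⟨x' + y', by rw [map_add, map_add, hx, hy, map_add]; rfl⟩
      | tmul m c => exact ⟨_, hkey m c⟩
    let ι' : Γ(L, W) ⊗[F] K →+ Γ(N, V.1) ⊗[F] K := TensorProduct.liftAddHom
      (AddMonoidHom.mk' (fun m => AddMonoidHom.mk' (fun c => (show Γ(N, V.1) from m) ⊗ₜ c)
        fun c c' => TensorProduct.tmul_add _ _ _) fun m m' => AddMonoidHom.ext fun c => TensorProduct.add_tmul _ _ _)
      fun r m c => by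
        show (show Γ(N, V.1) from rA F X₀ W r • m) ⊗ₜ c = (show Γ(N, V.1) from m) ⊗ₜ (r • c)
        rw [← TensorProduct.smul_tmul]
        refine congrArg (· ⊗ₜ c) ?_
        show rA F X₀ W r • m = π.app V.1 (rA F X V.1 r) • m
        rw [hom_app_rA π hF.symm]
    have hinv : ∀ z' : Γ(L, W) ⊗[F] K, Φ.app W (bcMap N K V.2 rfl (ι' z')) = e z' := by
      intro z
      induction z with
      | zero => rw [map_zero, map_zero, map_zero, map_zero]; rfl
      | add x y hx hy => rw [map_add, map_add, map_add, hx, hy, map_add]; rfl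
      | tmul m c => exact hkey m c
    have hι : Function.Surjective ι' := fun z => by
      induction z with
      | zero => exact ⟨0, map_zero _⟩
      | add x y hx hy =>
        obtain ⟨x', rfl⟩ := hx
        obtain ⟨y', rfl⟩ := hy
        exact ⟨x' + y', map_add _ _ _⟩
      | tmul m c => exact ⟨_ ⊗ₜ c, rfl⟩
    refine ⟨fun s t hst => ?_, fun y => ?_⟩
    · obtain ⟨z, rfl⟩ := (bcMap_bijective N K V.2 rfl).2 s
      obtain ⟨z', rfl⟩ := hι z
      obtain ⟨w, rfl⟩ := (bcMap_bijective N K V.2 rfl).2 t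
      obtain ⟨w', rfl⟩ := hι w
      rw [hinv, hinv] at hst
      rw [(bcMap_bijective L K hW hpre).1 hst]
    · obtain ⟨z', hz⟩ := (bcMap_bijective L K hW hpre).2 y
      exact ⟨_, (hinv z').trans hz⟩
  exact ⟨asIso Φ⟩

set_option maxHeartbeats 800000 in
/-- The two pullbacks of an invertible module agree. -/
theorem nonempty_pull_twin_iso [IsProper (X ↘ Spec (CommRingCat.of F))] [FiniteDimensional F K]
    [IsPurelyInseparable F K] (hF : (bc F X K ↘ Spec (CommRingCat.of F)) = bcπ F X K ≫ (X ↘ Spec (CommRingCat.of F)))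
    (L : (bc F X K).Modules) (hL : PicF.IsInvertible L)
    (h1 : Subsingleton (Coh.HH (bc F X K) (Coh.structureModule (bc F X K)) 1)) :
    Nonempty ((Scheme.Modules.pullback (twin hF)).obj L ≅ bcMod (A := F) L K) := by
  haveI : L.IsQuasicoherent := Props58.LocFree.isQuasicoherent_of_isFinLocFree (isFinLocFree_of_isInvertible hL)
  let π := bcπ F X K
  let sK : bc F X K ⟶ Spec (CommRingCat.of K) := bc F X K ↘ Spec (CommRingCat.of K)
  let a := Spec.map (CommRingCat.ofHom (algebraMap F K))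
  let X₀ := bc F X K
  let Y := bc F X₀ K
  let q₂ : Y ⟶ X₀ := bcπ F X₀ K
  let sY : Y ⟶ Spec (CommRingCat.of K) := Y ↘ Spec (CommRingCat.of K)
  let q₁ : Y ⟶ X₀ := twin hF
  have hq₁π : q₁ ≫ π = q₂ ≫ π := pullback.lift_fst _ _ _
  have hq₁s : q₁ ≫ sK = sY := pullback.lift_snd _ _ _
  have hπa : π ≫ (X ↘ Spec (CommRingCat.of F)) = sK ≫ a := pullback.condition
  have hw₂ : q₂ ≫ π ≫ (X ↘ Spec (CommRingCat.of F)) = sY ≫ a := by
    rw [← hF]; exact pullback.condition
  -- the tensor square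
  let R := K ⊗[F] K
  haveI : IsLocalRing R := isLocalRing_tensor_self F K
  haveI : Module.Finite K R := inferInstance
  haveI : IsArtinianRing R := IsArtinianRing.of_finite K R
  let inL := Spec.map (CommRingCat.ofHom (Algebra.TensorProduct.includeLeftRingHom : K →+* R))
  let inR := Spec.map (CommRingCat.ofHom ((Algebra.TensorProduct.includeRight : K →ₐ[F] R).toRingHom))
  obtain ⟨r, hrR, hY⟩ := exists_toTensor (X₀ := X₀) sK (hF.trans hπa)
  have hrL : r ≫ inL = q₂ ≫ sK := hY.w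
  letI : Y.Over (Spec (CommRingCat.of R)) := ⟨r⟩
  haveI : Flat sK := flat_of_field sK
  haveI : Flat (Y ↘ Spec (CommRingCat.of R)) :=
    MorphismProperty.of_isPullback (P := @Flat) hY.flip inferInstance
  haveI : IsProper (Y ↘ Spec (CommRingCat.of R)) :=
    MorphismProperty.of_isPullback (P := @IsProper) hY.flip (inferInstanceAs (IsProper sK))
  let μ : R →ₐ[F] K := Algebra.TensorProduct.lmul' F
  letI : Algebra R K := μ.toRingHom.toAlgebra
  have hμ : Function.Surjective (algebraMap R K) := fun x => ⟨x ⊗ₜ 1, by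
    show μ (x ⊗ₜ 1) = x
    rw [Algebra.TensorProduct.lmul'_apply_tmul, mul_one]⟩
  have hμL : Spec.map (CommRingCat.ofHom (algebraMap R K)) ≫ inL = 𝟙 _ := by
    rw [← Spec.map_comp, ← Spec.map_id]
    refine congrArg _ (CommRingCat.hom_ext (RingHom.ext fun x => ?_))
    show μ (x ⊗ₜ 1) = x
    rw [Algebra.TensorProduct.lmul'_apply_tmul, mul_one]
  have hμR : Spec.map (CommRingCat.ofHom (algebraMap R K)) ≫ inR = 𝟙 _ := by
    rw [← Spec.map_comp, ← Spec.map_id]
    refine congrArg _ (CommRingCat.hom_ext (RingHom.ext fun x => ?_))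
    show μ (1 ⊗ₜ x) = x
    rw [Algebra.TensorProduct.lmul'_apply_tmul, one_mul]
  let Z := bc R Y K
  let i : Z ⟶ Y := bcπ R Y K
  let j : Z ⟶ X₀ := i ≫ q₂
  have hZ : IsPullback j (pullback.snd _ _) sK (𝟙 _) := by
    have h := (IsPullback.of_hasPullback (Y ↘ Spec (CommRingCat.of R))
      (Spec.map (CommRingCat.ofHom (algebraMap R K)))).paste_horiz hY.flip
    rwa [hμL] at h
  haveI : IsIso j := hZ.isIso_fst_of_isIso
  have hj : i ≫ q₁ = j := by
    refine pullback.hom_ext ?_ ?_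
    · show (i ≫ q₁) ≫ π = (i ≫ q₂) ≫ π
      rw [Category.assoc, Category.assoc, hq₁π]
    · show (i ≫ q₁) ≫ sK = (i ≫ q₂) ≫ sK
      have hc : i ≫ r = pullback.snd _ _ ≫ Spec.map (CommRingCat.ofHom (algebraMap R K)) := pullback.condition
      rw [Category.assoc, Category.assoc, hq₁s, ← hrL, show sY = r ≫ inR from hrR.symm, reassoc_of% hc, reassoc_of% hc,
        hμL, hμR]
  have h1Z : Subsingleton (Coh.HH Z (Coh.structureModule Z) 1) := by
    haveI := QCqs72.isQuasicoherent_pushforward (M := Coh.structureModule Z) j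
    obtain ⟨η⟩ := Coh69.nonempty_hh_push j (Coh.structureModule Z) 1
    haveI := ValVan29.subsingleton_hh_of_iso (pushIsoOfPullIso j (PicLoc.pullbackStructureIso j)).symm 1 h1
    exact η.toEquiv.subsingleton
  have hA := Amp73.isInvertible_pullback q₁ hL
  have hB := Amp73.isInvertible_pullback q₂ hL
  obtain ⟨J, hJ, ⟨iJ⟩⟩ := An92.InvMod.exists_inverse hB
  let M := CohB1.tensorMod ((Scheme.Modules.pullback q₁).obj L) J
  have hM : PicF.IsInvertible M := EGA73.isInvertible_tensorMod hA hJ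
  let eM : bcMod (A := R) M K ≅ Coh.structureModule Z :=
    TwTens96.pullTensIso i _ J ≪≫ EGA73.tensIso
      ((Scheme.Modules.pullbackComp i q₁).app L ≪≫ (Scheme.Modules.pullbackCongr hj).app L ≪≫
        ((Scheme.Modules.pullbackComp i q₂).app L).symm) (Iso.refl _) ≪≫
      (TwTens96.pullTensIso i _ J).symm ≪≫
      (Scheme.Modules.pullback i).mapIso (EGA73.tensComm _ _ ≪≫ iJ) ≪≫ PicLoc.pullbackStructureIso i
  obtain ⟨tM⟩ := trivial_of_residue (A := R) (Y := Y) M hM hμ eM h1Z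
  let eq12 : (Scheme.Modules.pullback q₁).obj L ≅ (Scheme.Modules.pullback q₂).obj L :=
    (EGA73.tensUnitRight _).symm ≪≫ EGA73.tensIso (Iso.refl _) iJ.symm ≪≫
      (EGA73.tensAssoc' _ J _).symm ≪≫ EGA73.tensIso tM (Iso.refl _) ≪≫ EGA73.tensUnitLeft _
  exact ⟨eq12⟩

end

/-- An invertible module on a purely inseparable base change is the type of its direct image. -/
theorem nonempty_pull_push_insep [IsProper (X ↘ Spec (CommRingCat.of F))] [FiniteDimensional F K]
    [IsPurelyInseparable F K] (L : (bc F X K).Modules) (hL : PicF.IsInvertible L)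
    (h1 : Subsingleton (Coh.HH (bc F X K) (Coh.structureModule (bc F X K)) 1)) :
    Nonempty ((Scheme.Modules.pullback (bcπ F X K)).obj ((Scheme.Modules.pushforward (bcπ F X K)).obj L) ≅
      BrSev.pow L (Module.finrank F K)) := by
  haveI : L.IsQuasicoherent := Props58.LocFree.isQuasicoherent_of_isFinLocFree (isFinLocFree_of_isInvertible hL)
  letI : (bc F X K).Over (Spec (CommRingCat.of F)) := ⟨bcπ F X K ≫ (X ↘ Spec (CommRingCat.of F))⟩
  have hF : (bc F X K ↘ Spec (CommRingCat.of F)) = bcπ F X K ≫ (X ↘ Spec (CommRingCat.of F)) := rfl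
  obtain ⟨Φ⟩ := nonempty_pull_push_twin hF L
  obtain ⟨e⟩ := nonempty_pull_twin_iso hF L hL h1
  obtain ⟨σ, hσi, hσ⟩ := exists_swap hF
  haveI := hσi
  let G := bcMod (A := F) L K
  let tσ : (Scheme.Modules.pullback σ).obj G ≅ G :=
    (Scheme.Modules.pullbackComp σ (bcπ F (bc F X K) K)).app L ≪≫ (Scheme.Modules.pullbackCongr hσ).app L ≪≫ e
  obtain ⟨fr⟩ := nonempty_push_pull_iso (k := F) (X := bc F X K) K L
  exact ⟨Φ ≪≫ ((Scheme.Modules.pushforwardCongr hσ).app G).symm ≪≫
    ((Scheme.Modules.pushforwardComp σ (bcπ F (bc F X K) K)).app G).symm ≪≫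
    (Scheme.Modules.pushforward (bcπ F (bc F X K) K)).mapIso (pushIsoOfPullIso σ tσ) ≪≫ fr⟩

end Groth.Agent.ASB64
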