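import Groth.Agent.ASB64.Summand
import Groth.Agent.ASB64.LocFreeRetract
import Groth.Prelude.Def_W4c1astiltbs12AS

/-! Absolutely isotypical modules are powers of an indecomposable one. -/

set_option autoImplicit false
set_option maxSynthPendingDepth 6
set_option synthInstance.maxHeartbeats 200000
set_option backward.isDefEq.respectTransparency.types false
universe u

open CategoryTheory CategoryTheory.Limits AlgebraicGeometry
open W4c1astiltbs12

noncomputable section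

namespace Groth.Agent.ASB64

/-- An absolutely isotypical module is a power of an indecomposable one, unique up to isomorphism. -/
theorem isotypical_iso_pow (k : Type u) [Field k] {X : Scheme.{u}}
    (p : X ⟶ Spec (CommRingCat.of k)) [IsProper p] (K : Type u) [Field K] [Algebra k K]
    [IsAlgClosure k K] (E : X.Modules) (hE : FlatMod.IsFinLocFree E) (hE0 : ¬ IsZero E)
    (L : (W4bk4gw11416.baseChange p K).Modules) (hL : PicF.IsInvertible L)
    (hLi : (¬ IsZero L ∧ ∀ A B : (W4bk4gw11416.baseChange p K).Modules, Nonempty (L ≅ A ⊞ B) → IsZero A ∨ IsZero B))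
    (r : ℕ) (e : Nonempty (bcMod p K E ≅ pow L r)) :
    (∃ (G : X.Modules) (n : ℕ), FlatMod.IsFinLocFree G ∧
      (¬ IsZero G ∧ ∀ A B : X.Modules, Nonempty (G ≅ A ⊞ B) → IsZero A ∨ IsZero B) ∧
      Nonempty (E ≅ pow G n)) ∧
    (∀ (G G' : X.Modules) (n m : ℕ),
      (¬ IsZero G ∧ ∀ A B : X.Modules, Nonempty (G ≅ A ⊞ B) → IsZero A ∨ IsZero B) →
      (¬ IsZero G' ∧ ∀ A B : X.Modules, Nonempty (G' ≅ A ⊞ B) → IsZero A ∨ IsZero B) →
      Nonempty (E ≅ pow G n) → Nonempty (E ≅ pow G' m) → Nonempty (G ≅ G')) := by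
  obtain ⟨e⟩ := e
  letI : X.Over (Spec (CommRingCat.of k)) := ⟨p⟩
  haveI : IsProper (X ↘ Spec (CommRingCat.of k)) := ‹IsProper p›
  haveI : IsLocallyNoetherian X := LocallyOfFiniteType.isLocallyNoetherian (X ↘ Spec (CommRingCat.of k))
  haveI : HasFiniteBiproducts X.Modules := HasFiniteBiproducts.of_hasFiniteProducts
  haveI : HasFiniteBiproducts (Groth.Agent.FF71.bc k X K).Modules := HasFiniteBiproducts.of_hasFiniteProducts
  let Φ := Scheme.Modules.pullback (Groth.Agent.FF71.bcπ k X K)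
  let L' : (Groth.Agent.FF71.bc k X K).Modules := L
  have hcE : Coh.IsCoh E := ⟨Groth.Agent.Props58.LocFree.isQuasicoherent_of_isFinLocFree hE,
    Groth.Agent.Props58.LocFree.isFiniteType_of_isFinLocFree hE⟩
  haveI := Groth.Agent.KSchm95.isArtinianRing_end (k := k) E hcE
  have hcK : Coh.IsCoh (Φ.obj E) := by
    haveI := hcE.1; haveI := hcE.2
    exact ⟨Groth.Agent.QCPull72.isQuasicoherent_pullback _ E, Groth.Agent.QCPull72.isFiniteType_pullback _ E⟩
  haveI := Groth.Agent.KSchm95.isArtinianRing_end (k := K) (Φ.obj E) hcK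
  have hLi' : Groth.Agent.KSchm95.Indec L' := hLi
  let eK : Φ.obj E ≅ ⨁ fun _ : Fin r => L' := e ≪≫ (biproduct.isoCoproduct fun _ : Fin r => L').symm
  have hret : ∀ (G : X.Modules) (i : G ⟶ E) (s : E ⟶ G), i ≫ s = 𝟙 G →
      Coh.IsCoh G ∧ ∃ t : ℕ, Nonempty (W4c1astiltbs12.bcMod p K G ≅ W4c1astiltbs12.pow L t) := by
    intro G i s his
    obtain ⟨t, τ, ⟨f⟩⟩ := Groth.Agent.ASB64.exists_subfamily (fun _ : Fin r => L') (fun _ => hLi')
      eK (Φ.map i) (Φ.map s)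
      ((Φ.map_comp i s).symm.trans ((congrArg Φ.map his).trans (Φ.map_id G)))
    exact ⟨Groth.Agent.KSchm95.isCoh_of_retract i s his hcE, t, ⟨f ≪≫ biproduct.isoCoproduct fun _ : Fin t => L'⟩⟩
  obtain ⟨n, Gs, hGs, ⟨eE⟩⟩ := Groth.Agent.KSchm95.exists_decomp E
  have hpart : ∀ i, Coh.IsCoh (Gs i) ∧ ∃ t : ℕ, Nonempty (W4c1astiltbs12.bcMod p K (Gs i) ≅ W4c1astiltbs12.pow L t) :=
    fun i => hret _ (biproduct.ι Gs i ≫ eE.inv) (eE.hom ≫ biproduct.π Gs i) (by simp)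
  refine ⟨?_, ?_⟩
  · obtain ⟨i₀⟩ : Nonempty (Fin n) := by
      rcases Nat.eq_zero_or_pos n with rfl | hn
      · exact (hE0 (IsZero.of_iso ((IsZero.iff_id_eq_zero _).mpr (biproduct.hom_ext _ _ fun k => k.elim0)) eE)).elim
      · exact ⟨⟨0, hn⟩⟩
    have hiso : ∀ i, Nonempty (Gs i ≅ Gs i₀) := fun i => by
      obtain ⟨hc, t, ⟨f⟩⟩ := hpart i
      obtain ⟨hc₀, t₀, ⟨f₀⟩⟩ := hpart i₀
      exact Groth.Agent.KSchm95.nonempty_iso_of_isotypical p K hc hc₀ (hGs i) (hGs i₀) L t t₀ f f₀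
    exact ⟨Gs i₀, n, Groth.Agent.ASB64.isFinLocFree_of_retract (biproduct.ι Gs i₀ ≫ eE.inv)
      (eE.hom ≫ biproduct.π Gs i₀) (by simp) hE, hGs i₀,
      ⟨eE ≪≫ (biproduct.mapIso fun i => (hiso i).some) ≪≫ biproduct.isoCoproduct fun _ : Fin n => Gs i₀⟩⟩
  · intro G G' n' m hG hG' ⟨a⟩ ⟨b⟩
    obtain ⟨σ, hσ⟩ := Groth.Agent.KSchm95.exists_equiv_of_iso (fun _ : Fin n' => G) (fun _ : Fin m => G')
      (fun _ => hG) (fun _ => hG') (a ≪≫ (biproduct.isoCoproduct fun _ : Fin n' => G).symm)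
      (b ≪≫ (biproduct.isoCoproduct fun _ : Fin m => G').symm)
    rcases Nat.eq_zero_or_pos n' with rfl | hn
    · exact (hE0 (IsZero.of_iso ((IsZero.iff_id_eq_zero _).mpr (biproduct.hom_ext _ _ fun k => k.elim0))
        (a ≪≫ (biproduct.isoCoproduct fun _ : Fin 0 => G).symm))).elim
    · exact hσ ⟨0, hn⟩

end Groth.Agent.ASB64

end
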