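import Groth.Agent.SerreD94.Horrocks
import Groth.Agent.ASB64.PicProj
import Groth.Agent.ASB64.IndecInv
import Groth.Agent.KSchm95.Basic
import Groth.Agent.KSchm95.EndFinite
import Groth.Agent.Approx60.Segre
import Mathlib.Data.Fin.Tuple.Sort

/-! Sums of twists on projective space determine their degrees. -/

set_option autoImplicit false
set_option maxSynthPendingDepth 6
set_option linter.style.haveILetI false
set_option backward.isDefEq.respectTransparency.types false
universe u

open CategoryTheory CategoryTheory.Limits AlgebraicGeometry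

noncomputable section

namespace Groth.Agent.ASB64

open Crv77 Var76.Reg

variable {k : Type u} [Field k] {n : ℕ}

/-- The degrees of a sum of twists are unique up to order. -/
theorem exists_perm_of_iso (hn : 1 ≤ n) {r s : ℕ} (a : Fin r → ℤ) (b : Fin s → ℤ)
    (e : (∐ fun i => Twist.twistProjSpace n k (a i)) ≅ ∐ fun j => Twist.twistProjSpace n k (b j)) :
    ∃ σ : Fin r ≃ Fin s, ∀ i, a i = b (σ i) := by
  letI : (CohB1.ProjSpace n k).Over (Spec (CommRingCat.of k)) := ⟨CohB1.ProjSpace.toSpec n k⟩
  haveI : IsProper (CohB1.ProjSpace n k ↘ Spec (CommRingCat.of k)) := Approx60.Segre.isProper_toSpec k n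
  haveI : IsLocallyNoetherian (CohB1.ProjSpace n k) :=
    LocallyOfFiniteType.isLocallyNoetherian (CohB1.ProjSpace n k ↘ Spec (CommRingCat.of k))
  haveI : IsIntegral (CohB1.ProjSpace n k) := Curves2.ProjLine.isIntegral k n
  haveI : HasFiniteBiproducts (CohB1.ProjSpace n k).Modules := HasFiniteBiproducts.of_hasFiniteProducts
  let F : Fin r → (CohB1.ProjSpace n k).Modules := fun i => Twist.twistProjSpace n k (a i)
  haveI := KSchm95.isArtinianRing_end (k := k) (⨁ F)
    (QC70.isCoh_biproduct F fun i => Amp73.isCoh_of_isInvertible (isInvertible_twist _))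
  obtain ⟨σ, hσ⟩ := KSchm95.exists_equiv_of_iso F (fun j => Twist.twistProjSpace n k (b j))
    (fun i => indec_of_isInvertible (isInvertible_twist _)) (fun j => indec_of_isInvertible (isInvertible_twist _))
    (Iso.refl _) (biproduct.isoCoproduct F ≪≫ e ≪≫ (biproduct.isoCoproduct _).symm)
  exact ⟨σ, fun i => PicProj.eq_of_iso_twist hn (hσ i).some⟩

/-- A non-increasing enumeration is unique. -/
theorem antitone_eq {r : ℕ} {a b : Fin r → ℤ} (ha : Antitone a) (hb : Antitone b) (σ : Fin r ≃ Fin r)
    (h : ∀ i, a i = b (σ i)) : a = b := by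
  have key : ∀ (σ : Fin r ≃ Fin r) (a b : Fin r → ℤ), Antitone a → Antitone b → (∀ i, a i = b (σ i)) →
      ∀ i, a i ≤ b i := by
    intro σ a b ha hb h i
    by_contra hlt
    -- the first `i + 1` values go among the first `i`
    have hmem : ∀ j : Fin r, j ≤ i → σ j < i := fun j hj => by
      by_contra hge
      have h1 := hb (not_lt.1 hge)
      have h2 := ha hj
      rw [h j] at h2
      omega
    have := Finset.card_le_card_of_injOn (s := Finset.Iic i) (t := Finset.Iio i) σ
      (fun j hj => Finset.mem_Iio.2 (hmem j (Finset.mem_Iic.1 hj))) (σ.injective.injOn)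
    rw [Fin.card_Iic, Fin.card_Iio] at this
    omega
  exact funext fun i => le_antisymm (key σ a b ha hb h i)
    (key σ.symm b a hb ha (fun j => by rw [h, Equiv.apply_symm_apply]) i)

end Groth.Agent.ASB64
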