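import Groth.Agent.Om3.OmegaPn
import Groth.Agent.Var76.RegMulX
import Groth.Agent.Var76.ZeroScheme
import Groth.Agent.Curves2.ProjLine
import Mathlib.RingTheory.UniqueFactorizationDomain.GCDMonoid
import Mathlib.RingTheory.Polynomial.UniqueFactorization

/-! Invertible functions on intersections of standard opens of projective space. -/

set_option autoImplicit false
set_option backward.isDefEq.respectTransparency.types false

universe u

open CategoryTheory CategoryTheory.Limits AlgebraicGeometry TopologicalSpace Opposite HomogeneousLocalization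

noncomputable section

namespace Groth.Agent.ASB64.PicProj

open Om3.OmegaPn Approx60.ProjCharts

variable {k : Type u} [Field k] {n : ℕ}

local notation "𝓟" => CohB1.polyGrading n k
local notation "P" => CohB1.ProjSpace n k

/-- The value of a function at a point, in the localization. -/
def valHom {V : Scheme.Opens P} (x : V) :
    Γ(P, V) →+* Localization x.1.asHomogeneousIdeal.toIdeal.primeCompl where
  toFun s := ((s : Twist.O (𝒜 := 𝓟) (op V)).1 x).val
  map_one' := HomogeneousLocalization.val_one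
  map_mul' _ _ := HomogeneousLocalization.val_mul _ _
  map_zero' := HomogeneousLocalization.val_zero
  map_add' _ _ := HomogeneousLocalization.val_add _ _

theorem valHom_res {V V' : Scheme.Opens P} (h : V' ≤ V) (x : V') (s : Γ(P, V)) :
    valHom x ((P).presheaf.map (homOfLE h).op s) = valHom ⟨x.1, h x.2⟩ s := rfl

theorem ext_valHom {V : Scheme.Opens P} {s t : Γ(P, V)} (h : ∀ x : V, valHom x s = valHom x t) : s = t :=
  Subtype.ext (funext fun x => HomogeneousLocalization.val_injective _ (h x))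

/-- A coordinate not vanishing at a point, as a unit of the localization. -/
def xUnit (x : P) (l : Fin (n + 1)) (h : x ∈ U k n l) :
    (Localization x.asHomogeneousIdeal.toIdeal.primeCompl)ˣ where
  val := Localization.mk (MvPolynomial.X l) 1
  inv := Localization.mk 1 ⟨MvPolynomial.X l, h⟩
  val_inv := by
    rw [Localization.mk_mul, ← Localization.mk_one, Localization.mk_eq_mk_iff, Localization.r_iff_exists]
    exact ⟨1, by simp⟩
  inv_val := by
    rw [Localization.mk_mul, ← Localization.mk_one, Localization.mk_eq_mk_iff, Localization.r_iff_exists]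
    exact ⟨1, by simp⟩

theorem val_zpow_xUnit (x : P) (l : Fin (n + 1)) (h : x ∈ U k n l) (a : ℤ) :
    ((xUnit x l h ^ a : (Localization x.asHomogeneousIdeal.toIdeal.primeCompl)ˣ) :
        Localization x.asHomogeneousIdeal.toIdeal.primeCompl) =
      Localization.mk ((MvPolynomial.X l : MvPolynomial (Fin (n + 1)) k) ^ a.toNat)
        ((⟨MvPolynomial.X l, h⟩ : x.asHomogeneousIdeal.toIdeal.primeCompl) ^ (-a).toNat) := by
  rcases le_or_gt 0 a with ha | ha
  · obtain ⟨m, rfl⟩ := Int.eq_ofNat_of_zero_le ha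
    rw [zpow_natCast, Units.val_pow_eq_pow_val]
    show Localization.mk (MvPolynomial.X l) 1 ^ m = _
    rw [Localization.mk_pow, one_pow, Int.toNat_natCast, show (-(m : ℤ)).toNat = 0 by omega, pow_zero]
  · obtain ⟨m, hm⟩ : ∃ m : ℕ, a = -(m : ℤ) := ⟨(-a).toNat, by omega⟩
    subst hm
    rw [zpow_neg, zpow_natCast, ← inv_pow, Units.val_pow_eq_pow_val]
    show Localization.mk 1 ⟨MvPolynomial.X l, h⟩ ^ m = _
    rw [Localization.mk_pow, one_pow, show (-(m : ℤ)).toNat = 0 by omega, pow_zero, neg_neg, Int.toNat_natCast]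

theorem valHom_coord (j l : Fin (n + 1)) (x : U k n j) :
    valHom x (coord k n j l) =
      Localization.mk (MvPolynomial.X l) 1 * ((xUnit x.1 j x.2)⁻¹ : Units _).val := by
  refine (val_coord k n j l x).trans ?_
  show _ = Localization.mk (MvPolynomial.X l) 1 * Localization.mk 1 _
  rw [Localization.mk_mul, one_mul, mul_one]

/-- `x_i / x_j` as a unit of the functions on an open where both are invertible. -/
def quot (i j : Fin (n + 1)) {V : Scheme.Opens P} (hi : V ≤ U k n i) (hj : V ≤ U k n j) : Γ(P, V)ˣ where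
  val := (P).presheaf.map (homOfLE hj).op (coord k n j i)
  inv := (P).presheaf.map (homOfLE hi).op (coord k n i j)
  val_inv := ext_valHom fun x => by
    rw [map_mul, map_one, valHom_res, valHom_res, valHom_coord, valHom_coord]
    show (xUnit x.1 i (hi x.2)).val * _ * ((xUnit x.1 j (hj x.2)).val * _) = 1
    rw [← Units.val_mul, ← Units.val_mul, ← Units.val_mul]
    rw [show xUnit x.1 i (hi x.2) * (xUnit x.1 j (hj x.2))⁻¹ * (xUnit x.1 j (hj x.2) * (xUnit x.1 i (hi x.2))⁻¹) = 1 by group]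
    rfl
  inv_val := ext_valHom fun x => by
    rw [map_mul, map_one, valHom_res, valHom_res, valHom_coord, valHom_coord]
    show (xUnit x.1 j (hj x.2)).val * _ * ((xUnit x.1 i (hi x.2)).val * _) = 1
    rw [← Units.val_mul, ← Units.val_mul, ← Units.val_mul]
    rw [show xUnit x.1 j (hj x.2) * (xUnit x.1 i (hi x.2))⁻¹ * (xUnit x.1 i (hi x.2) * (xUnit x.1 j (hj x.2))⁻¹) = 1 by group]
    rfl

theorem valHom_quot_zpow (i j : Fin (n + 1)) {V : Scheme.Opens P} (hi : V ≤ U k n i) (hj : V ≤ U k n j) (a : ℤ)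
    (x : V) :
    valHom x ((quot i j hi hj ^ a : Γ(P, V)ˣ) : Γ(P, V)) =
      (((xUnit x.1 i (hi x.2) * (xUnit x.1 j (hj x.2))⁻¹) ^ a : Units _) : Localization _) := by
  have h : Units.map (valHom x : Γ(P, V) →* _) (quot i j hi hj) =
      xUnit x.1 i (hi x.2) * (xUnit x.1 j (hj x.2))⁻¹ := by
    refine Units.ext ?_
    show valHom x ((P).presheaf.map (homOfLE hj).op (coord k n j i)) = _
    rw [valHom_res, valHom_coord]
    rfl
  rw [← h, ← map_zpow]
  rfl

set_option maxHeartbeats 1600000 in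
/-- Twist frames differ by powers of the coordinate quotients. -/
theorem quot_zpow_smul_frame (i j : Fin (n + 1)) {V : Scheme.Opens P} (hi : V ≤ U k n i) (hj : V ≤ U k n j)
    (a : ℤ) :
    ((quot i j hi hj ^ a : Γ(P, V)ˣ) : Γ(P, V)) •
        Var76.LineBundle.res (Twist.twistProjSpace n k a) hj (Var76.Reg.gUnit (X₁ k n j) a).fwd =
      Var76.LineBundle.res (Twist.twistProjSpace n k a) hi (Var76.Reg.gUnit (X₁ k n i) a).fwd := by
  have hval : ∀ (l : Fin (n + 1)) (x : U k n l),
      (((Var76.Reg.gUnit (X₁ k n l) a).fwd).1 x).1 =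
        ((xUnit x.1 l x.2 ^ a : Units _) : Localization _) := fun l x => by
    rw [val_zpow_xUnit, Var76.Reg.gUnit, EGA73.castTwist_apply]
    show Localization.mk ((X₁ k n l).1 ^ a.toNat) _ = _
    rw [Localization.mk_eq_mk_iff, Localization.r_iff_exists]
    exact ⟨1, by simp [X₁]⟩
  refine Subtype.ext (funext fun x => Subtype.ext ?_)
  refine (Twist.coe_smul_val _ _ _ _).trans ?_
  show valHom x ((quot i j hi hj ^ a : Γ(P, V)ˣ) : Γ(P, V)) *
      (((Var76.Reg.gUnit (X₁ k n j) a).fwd).1 ⟨x.1, hj x.2⟩).1 =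
    (((Var76.Reg.gUnit (X₁ k n i) a).fwd).1 ⟨x.1, hi x.2⟩).1
  refine ((congrArg₂ (· * ·) (valHom_quot_zpow i j hi hj a x) (hval j ⟨x.1, hj x.2⟩)).trans ?_).trans
    (hval i ⟨x.1, hi x.2⟩).symm
  dsimp only
  rw [← Units.val_mul, mul_zpow, inv_zpow, mul_assoc, inv_mul_cancel, mul_one]

theorem C_mem_degree_zero (b : k) : (MvPolynomial.C b : MvPolynomial (Fin (n + 1)) k) ∈ 𝓟 (0 • 1) := by
  simpa using MvPolynomial.isHomogeneous_C (Fin (n + 1)) b

/-- A constant on a standard open. -/
def sc (i : Fin (n + 1)) (b : k) : Γ(P, U k n i) :=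
  Proj.awayToSection 𝓟 (MvPolynomial.X i) (Away.mk 𝓟 (MvPolynomial.isHomogeneous_X k i) 0 _ (C_mem_degree_zero b))

theorem valHom_sc (i : Fin (n + 1)) (b : k) (x : U k n i) :
    valHom x (sc i b) = Localization.mk (MvPolynomial.C b) 1 := by
  show ((sc i b : Twist.O (𝒜 := 𝓟) (op (U k n i))).1 x).val = _
  refine (ProjectiveSpectrum.Proj.awayToSection_apply 𝓟 _ _ x).trans ?_
  rw [Away.val_mk, Localization.mk_eq_mk', IsLocalization.map_mk', ← Localization.mk_eq_mk']
  simp only [RingHom.id_apply, Localization.mk_eq_mk_iff, Localization.r_iff_exists]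
  exact ⟨1, by simp⟩

theorem sc_mul_sc (i : Fin (n + 1)) {b b' : k} (h : b * b' = 1) : sc (n := n) i b * sc i b' = 1 :=
  ext_valHom fun x => by
    rw [map_mul, map_one, valHom_sc, valHom_sc, Localization.mk_mul, ← map_mul, h, map_one, mul_one,
      Localization.mk_one]

/-- An invertible constant on a standard open. -/
def scUnit (i : Fin (n + 1)) (v : kˣ) : Γ(P, U k n i)ˣ :=
  ⟨sc i (v : k), sc i ((v⁻¹ : kˣ) : k), sc_mul_sc i (Units.mul_inv v), sc_mul_sc i (Units.inv_mul v)⟩

theorem valHom_scUnit (i : Fin (n + 1)) (v : kˣ) (x : U k n i) :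
    valHom x (scUnit i v : Γ(P, U k n i)ˣ) = Localization.mk (MvPolynomial.C (v : k)) 1 := valHom_sc i (v : k) x

/-- The invertible functions on the intersection of two standard opens. -/
theorem exists_eq_quot_zpow (i j : Fin (n + 1)) (hij : i ≠ j) (c : Γ(P, U k n i ⊓ U k n j)) (hc : IsUnit c) :
    ∃ (κ : kˣ) (a : ℤ), c = (P).presheaf.map (homOfLE (inf_le_left : U k n i ⊓ U k n j ≤ U k n i)).op (scUnit i κ : Γ(P, U k n i)ˣ) *
      ((quot i j inf_le_left inf_le_right ^ a : Γ(P, U k n i ⊓ U k n j)ˣ) : Γ(P, U k n i ⊓ U k n j)) := by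
  classical
  let f : MvPolynomial (Fin (n + 1)) k := MvPolynomial.X i * MvPolynomial.X j
  have hf : f ∈ 𝓟 2 := (MvPolynomial.isHomogeneous_X k i).mul (MvPolynomial.isHomogeneous_X k j)
  have heq : U k n i ⊓ U k n j = Proj.basicOpen 𝓟 f := (Proj.basicOpen_mul 𝓟 _ _).symm
  obtain ⟨z, hz⟩ := (ConcreteCategory.bijective_of_isIso (Proj.basicOpenIsoAway 𝓟 f hf two_pos).hom).surjective
    ((P).presheaf.map (eqToHom heq.symm).op c)
  obtain ⟨z', hz'⟩ := (ConcreteCategory.bijective_of_isIso (Proj.basicOpenIsoAway 𝓟 f hf two_pos).hom).surjective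
    ((P).presheaf.map (eqToHom heq.symm).op (hc.unit⁻¹ : Γ(P, U k n i ⊓ U k n j)ˣ).val)
  have hzz : z * z' = 1 := by
    refine (ConcreteCategory.bijective_of_isIso (Proj.basicOpenIsoAway 𝓟 f hf two_pos).hom).injective ?_
    have h1 := congrArg ((P).presheaf.map (eqToHom heq.symm).op) hc.mul_val_inv
    rw [map_mul, map_one] at h1
    exact (map_mul _ _ _).trans ((congrArg₂ (· * ·) hz hz').trans (h1.trans (map_one _).symm))
  obtain ⟨r, A, hA, rfl⟩ := Away.mk_surjective 𝓟 hf z
  obtain ⟨s, B, hB, rfl⟩ := Away.mk_surjective 𝓟 hf z'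
  have hf0 : f ≠ 0 := mul_ne_zero (MvPolynomial.X_ne_zero i) (MvPolynomial.X_ne_zero j)
  have hAB : A * B = f ^ (r + s) := by
    have h := congrArg HomogeneousLocalization.val hzz
    rw [val_mul, Away.val_mk, Away.val_mk, val_one, Localization.mk_mul, ← Localization.mk_one,
      Localization.mk_eq_mk_iff, Localization.r_iff_exists] at h
    obtain ⟨⟨_, m, rfl⟩, hm⟩ := h
    simp only [Submonoid.coe_mul, OneMemClass.coe_one, one_mul, mul_one] at hm
    rw [pow_add]
    exact mul_left_cancel₀ (pow_ne_zero m hf0) hm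
  obtain ⟨d₁, d₂, hd₁, hd₂, hAd⟩ := dvd_mul.mp (show A ∣ MvPolynomial.X i ^ (r + s) * MvPolynomial.X j ^ (r + s) by
    rw [← mul_pow]; exact ⟨B, hAB.symm⟩)
  obtain ⟨p, -, hp⟩ := (dvd_prime_pow MvPolynomial.X_prime _).mp hd₁
  obtain ⟨q, -, hq⟩ := (dvd_prime_pow MvPolynomial.X_prime _).mp hd₂
  obtain ⟨u, hu⟩ := (hp.mul_mul hq).symm
  obtain ⟨κ, hκ, hκu⟩ := MvPolynomial.isUnit_iff_eq_C_of_isReduced.mp u.isUnit
  have hA' : A = MvPolynomial.C κ * (MvPolynomial.X i ^ p * MvPolynomial.X j ^ q) := by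
    rw [hAd, ← hu, hκu]; ring
  have hpq : p + q = r * 2 := by
    have h1 : (A : MvPolynomial (Fin (n + 1)) k).IsHomogeneous (p + q) := by
      rw [hA']
      simpa using (MvPolynomial.isHomogeneous_C (Fin (n + 1)) κ).mul
        (((MvPolynomial.isHomogeneous_X k i).pow p).mul ((MvPolynomial.isHomogeneous_X k j).pow q))
    refine h1.inj_right (by simpa using hA) ?_
    rw [hA']
    exact mul_ne_zero (by simpa using hκ.ne_zero)
      (mul_ne_zero (pow_ne_zero _ (MvPolynomial.X_ne_zero i)) (pow_ne_zero _ (MvPolynomial.X_ne_zero j)))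
  obtain ⟨v, rfl⟩ := hκ
  refine ⟨v, (p : ℤ) - r, ext_valHom fun x => ?_⟩
  rw [map_mul, valHom_res, valHom_scUnit, valHom_quot_zpow]
  have hxf : x.1 ∈ Proj.basicOpen 𝓟 f := heq.le x.2
  have hx : valHom x c = valHom (⟨x.1, hxf⟩ : (Proj.basicOpen 𝓟 f))
      ((P).presheaf.map (eqToHom heq.symm).op c) := rfl
  rw [hx, ← hz]
  show ((Proj.awayToSection 𝓟 f (Away.mk 𝓟 hf r A hA) : Twist.O (𝒜 := 𝓟) (op (Proj.basicOpen 𝓟 f))).1 ⟨x.1, hxf⟩).val = _
  refine (ProjectiveSpectrum.Proj.awayToSection_apply 𝓟 f _ ⟨x.1, hxf⟩).trans ?_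
  rw [Away.val_mk, Localization.mk_eq_mk', IsLocalization.map_mk', ← Localization.mk_eq_mk']
  have hXi := x.2.1
  have hXj := x.2.2
  have hmk : ∀ (N : MvPolynomial (Fin (n + 1)) k) (D : x.1.asHomogeneousIdeal.toIdeal.primeCompl)
      (w : Localization x.1.asHomogeneousIdeal.toIdeal.primeCompl),
      Localization.mk N 1 = w * Localization.mk D.1 1 → Localization.mk N D = w := fun N D w h => by
    have hD : Localization.mk D.1 1 * Localization.mk 1 D = (1 : Localization _) := by
      rw [Localization.mk_mul, mul_one, one_mul, Localization.mk_self]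
    have : Localization.mk N D = Localization.mk N 1 * Localization.mk 1 D := by
      rw [Localization.mk_mul, mul_one, one_mul]
    rw [this, h, mul_assoc, hD, mul_one]
  refine hmk _ _ _ ?_
  simp only [RingHom.id_apply]
  rw [hA']
  let ι := algebraMap (MvPolynomial (Fin (n + 1)) k) (Localization x.1.asHomogeneousIdeal.toIdeal.primeCompl)
  have hι : ∀ N, Localization.mk N 1 = ι N := fun N => Localization.mk_one_eq_algebraMap N
  rw [hι, hι, hι]
  have hi' : ι (MvPolynomial.X i) = (xUnit x.1 i hXi).val := (hι _).symm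
  have hj' : ι (MvPolynomial.X j) = (xUnit x.1 j hXj).val := (hι _).symm
  show ι (_ * _) = ι _ * _ * ι (f ^ r)
  simp only [f, map_mul, map_pow, hi', hj', ← Units.val_pow_eq_pow_val, ← Units.val_mul, mul_assoc]
  congr 2
  rw [← zpow_natCast, ← zpow_natCast (xUnit x.1 j hXj), mul_pow, ← zpow_natCast, ← zpow_natCast (xUnit x.1 j hXj),
    mul_zpow, inv_zpow', mul_mul_mul_comm, ← zpow_add, ← zpow_add]
  congr 2 <;> omega

end Groth.Agent.ASB64.PicProj

end
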