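import Groth.Agent.ASB64.SplitCrit
import Groth.Agent.ASB64.SBTypes
import Groth.Agent.ASB64.TwistAlg
import Groth.Agent.Crv77.BaseChange
import Groth.Agent.Coh69.AffinePush

/-! Cohomology of a Severi-Brauer variety against cohomology of projective space. -/

set_option autoImplicit false
set_option maxSynthPendingDepth 6
set_option linter.style.haveILetI false
set_option backward.isDefEq.respectTransparency.types false
universe u

open CategoryTheory CategoryTheory.Limits AlgebraicGeometry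

noncomputable section

namespace Groth.Agent.ASB64

theorem subsingleton_hh_pow_iff (A : Type u) [CommRing A] {Y : Scheme.{u}} [Y.Over (Spec (CommRingCat.of A))]
    (M : Y.Modules) {r : ℕ} (hr : 0 < r) (i : ℕ) :
    Subsingleton (Coh.HH Y (BrSev.pow M r) i) ↔ Subsingleton (Coh.HH Y M i) := by
  haveI : HasFiniteBiproducts Y.Modules := HasFiniteBiproducts.of_hasFiniteProducts
  let e : (⨁ fun _ : Fin r => M) ≅ BrSev.pow M r := biproduct.isoCoproduct _
  refine ⟨fun h => ?_, fun h => ValVan29.subsingleton_hh_of_iso e i ?_⟩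
  · let a : M ⟶ BrSev.pow M r := biproduct.ι (fun _ : Fin r => M) ⟨0, hr⟩ ≫ e.hom
    let b : BrSev.pow M r ⟶ M := e.inv ≫ biproduct.π (fun _ : Fin r => M) ⟨0, hr⟩
    have hab : a ≫ b = 𝟙 M := by simp [a, b]
    refine subsingleton_of_forall_eq 0 fun x => ?_
    rw [← Crv77.hmap_id A M i x, ← hab, ← Crv77.hmap_comp, h.elim (Crv77.hmap A a i x) 0, map_zero]
  · exact QC70.biproduct_induction (fun N => Subsingleton (Coh.HH Y N i))
      (fun N hN => ValVan29.subsingleton_hh_of_isZero hN i)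
      (fun S hS a c => ValVan29.subsingleton_hh_X₂ hS i a c) _ fun _ => h

theorem subsingleton_hh_pullback_iso {Y Z : Scheme.{u}} (g : Y ⟶ Z) [IsIso g] (M : Z.Modules) [M.IsQuasicoherent]
    (i : ℕ) : Subsingleton (Coh.HH Y ((Scheme.Modules.pullback g).obj M) i) ↔ Subsingleton (Coh.HH Z M i) := by
  haveI := QCPull72.isQuasicoherent_pullback g M
  obtain ⟨η⟩ := Coh69.nonempty_hh_push g ((Scheme.Modules.pullback g).obj M) i
  refine ⟨fun h => ?_, fun h => ?_⟩
  · haveI := η.symm.toEquiv.subsingleton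
    exact ValVan29.subsingleton_hh_of_iso (pushIsoOfPullIso g (Iso.refl _)) i inferInstance
  · haveI := ValVan29.subsingleton_hh_of_iso (pushIsoOfPullIso g (Iso.refl ((Scheme.Modules.pullback g).obj M))).symm i h
    exact η.toEquiv.subsingleton

theorem subsingleton_hh_bc_iff {k : Type u} [Field k] {X : Scheme.{u}} [X.Over (Spec (CommRingCat.of k))]
    [IsProper (X ↘ Spec (CommRingCat.of k))] (K : Type u) [Field K] [Algebra k K] (M : X.Modules)
    (hM : Coh.IsCoh M) (i : ℕ) :
    Subsingleton (Coh.HH (FF71.bc k X K) (Mum71.bcMod (A := k) M K) i) ↔ Subsingleton (Coh.HH X M i) := by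
  haveI := hM.1; haveI := hM.2
  haveI : IsLocallyNoetherian X := LocallyOfFiniteType.isLocallyNoetherian (X ↘ Spec (CommRingCat.of k))
  haveI : IsLocallyNoetherian (FF71.bc k X K) :=
    LocallyOfFiniteType.isLocallyNoetherian (FF71.bc k X K ↘ Spec (CommRingCat.of K))
  have h := Crv77.finrank_hh_baseChange k K (FF71.bcπ k X K) (IsPullback.of_hasPullback _ _) M hM i
  have f1 : Module.Finite k (Coh.HH X M i) := Serre71.finite_hh_of_isProper k M hM i
  have f2 : Module.Finite K (Coh.HH (FF71.bc k X K) (Mum71.bcMod (A := k) M K) i) :=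
    Serre71.finite_hh_of_isProper K _ ⟨QCPull72.isQuasicoherent_pullback _ M, QCPull72.isFiniteType_pullback _ M⟩ i
  rw [← Module.finrank_zero_iff (R := K), ← Module.finrank_zero_iff (R := k) (M := Coh.HH X M i)]
  exact ⟨fun h0 => h.symm.trans h0, fun h0 => h.trans h0⟩

variable {k : Type u} [Field k] {X : Scheme.{u}} {f : X ⟶ Spec (CommRingCat.of k)} [IsProper f]
  {K : Type u} [Field K] [Algebra k K] {n : ℕ}

/-- The twists of `E` on projective space, through cohomology on the variety. -/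
theorem subsingleton_hh_twisted (e : BrSev.Splitting f K n) {E L W : X.Modules} (hE : FlatMod.IsFinLocFree E)
    (hL : PicF.IsInvertible L) (hW : FlatMod.IsFinLocFree W) {a j : ℤ} {r : ℕ} (hr : 0 < r)
    (hLt : BrSev.IsTwPow e a 1 L) (hWt : BrSev.IsTwPow e j r W) (i : ℕ) :
    Subsingleton (Coh.HH X (CohB1.tensorMod (CohB1.tensorMod E L) W) i) ↔
      Subsingleton (Coh.HH (CohB1.ProjSpace n K)
        (Var76.Reg.tw n K ((Scheme.Modules.pullback e.iso.inv).obj (BrSev.bcMod f K E)) (a + j)) i) := by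
  letI : X.Over (Spec (CommRingCat.of k)) := ⟨f⟩
  haveI : IsProper (X ↘ Spec (CommRingCat.of k)) := ‹IsProper f›
  have hcE : Coh.IsCoh E := ⟨Props58.LocFree.isQuasicoherent_of_isFinLocFree hE, Props58.LocFree.isFiniteType_of_isFinLocFree hE⟩
  have hcW : Coh.IsCoh W := ⟨Props58.LocFree.isQuasicoherent_of_isFinLocFree hW, Props58.LocFree.isFiniteType_of_isFinLocFree hW⟩
  have hcL : Coh.IsCoh L := Amp73.isCoh_of_isInvertible hL
  haveI := hcE.1; haveI := hcE.2; haveI := hcW.1; haveI := hcW.2; haveI := hcL.1; haveI := hcL.2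
  haveI : IsLocallyNoetherian X := LocallyOfFiniteType.isLocallyNoetherian (X ↘ Spec (CommRingCat.of k))
  let M := CohB1.tensorMod (CohB1.tensorMod E L) W
  have hM : Coh.IsCoh M := Amp73.isCoh_tensorMod (Amp73.isCoh_tensorMod hcE hcL) hcW
  let G := Scheme.Modules.pullback e.iso.inv
  let π := BrSev.proj f K
  let EK := BrSev.bcMod f K E
  obtain ⟨l⟩ := hLt
  obtain ⟨w⟩ := hWt
  obtain ⟨t₁⟩ := TwTens96.nonempty_pow_tens EK (e.twist a) 1 1
  obtain ⟨t₂⟩ := TwTens96.nonempty_pow_tens (CohB1.tensorMod EK (e.twist a)) (e.twist j) (1 * 1) r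
  obtain ⟨ta⟩ := nonempty_twist_add' e a j
  let φ : BrSev.bcMod f K M ≅ BrSev.pow (CohB1.tensorMod EK (e.twist (a + j))) (1 * 1 * r) :=
    TwTens96.pullTensIso π _ W ≪≫
      EGA73.tensIso (TwTens96.pullTensIso π E L ≪≫
        EGA73.tensIso (coproductUniqueIso fun _ : Fin 1 => EK).symm l ≪≫ t₁) w ≪≫ t₂ ≪≫
      Limits.Sigma.mapIso fun _ => EGA73.tensAssoc' _ _ _ ≪≫ EGA73.tensIso (Iso.refl _) ta
  haveI : PreservesColimitsOfSize.{0, 0} G :=
    (Scheme.Modules.pullbackPushforwardAdjunction _).leftAdjoint_preservesColimits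
  let tb : G.obj (e.twist (a + j)) ≅ Twist.twistProjSpace n K (a + j) :=
    (Scheme.Modules.pullbackComp e.iso.inv e.iso.hom).app _ ≪≫
      (Scheme.Modules.pullbackCongr e.iso.inv_hom_id).app _ ≪≫ (Scheme.Modules.pullbackId _).app _
  let ψ : G.obj (BrSev.bcMod f K M) ≅ BrSev.pow (Var76.Reg.tw n K (G.obj EK) (a + j)) (1 * 1 * r) :=
    G.mapIso φ ≪≫ PreservesCoproduct.iso _ _ ≪≫
      Limits.Sigma.mapIso fun _ => TwTens96.pullTensIso e.iso.inv _ _ ≪≫ EGA73.tensIso (Iso.refl _) tb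
  haveI : (BrSev.bcMod f K M).IsQuasicoherent := by haveI := hM.1; exact QCPull72.isQuasicoherent_pullback _ M
  refine ((subsingleton_hh_bc_iff K M hM i).symm.trans
    (subsingleton_hh_pullback_iso e.iso.inv (BrSev.bcMod f K M) i).symm).trans ?_
  letI : (CohB1.ProjSpace n K).Over (Spec (CommRingCat.of K)) := ⟨CohB1.ProjSpace.toSpec n K⟩
  refine Iff.trans ?_ (subsingleton_hh_pow_iff K _ (show 0 < 1 * 1 * r by omega) i)
  exact ⟨ValVan29.subsingleton_hh_of_iso ψ i, ValVan29.subsingleton_hh_of_iso ψ.symm i⟩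

/-- The splitting criterion on a Severi-Brauer variety. -/
theorem absSplit_iff [IsAlgClosure k K] {A : Type u} [Ring A] [Algebra k A] [Algebra.IsCentral k A] [IsSimpleRing A]
    (hA : Module.finrank k A = (n + 1) * (n + 1))
    (hX : BrSev.IsSBOf k A ((n + 1) * (n + 1) - (n + 1)) f) (e : BrSev.Splitting f K n)
    {p : ℕ} (hp : CSAGal.IsPeriod k A p) (E : X.Modules) (hE : FlatMod.IsFinLocFree E) :
    (∃ (s : ℕ) (Ls : Fin s → (BrSev.bc f K).Modules), (∀ i, PicF.IsInvertible (Ls i)) ∧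
        Nonempty (BrSev.bcMod f K E ≅ ∐ Ls)) ↔
      (∀ (i : ℕ), 0 < i → i + 1 < n + 1 → ∀ (a : ℤ) (L : X.Modules), PicF.IsInvertible L →
        BrSev.IsTwPow e (a * (p : ℤ)) 1 L → ∀ (j : ℤ), 0 ≤ j → j < (p : ℤ) →
        ∀ (W : X.Modules), FlatMod.IsFinLocFree W → KSchm95.Indec W →
        ∀ (r : ℕ), 0 < r → BrSev.IsTwPow e j r W →
        Subsingleton (Coh.HH X (CohB1.tensorMod (CohB1.tensorMod E L) W) i)) := by
  constructor
  · rintro ⟨s, Ls, hLs, ⟨u⟩⟩ i hi hin a L hL hLt j hj hjp W hW hWi r hr hWt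
    refine (subsingleton_hh_twisted e hE hL hW hr hLt hWt i).2 ?_
    choose d hd using fun l => exists_iso_twist' e (hLs l)
    have t := fun l => (hd l).some
    haveI : PreservesColimitsOfSize.{0, 0} (Scheme.Modules.pullback e.iso.inv) :=
      (Scheme.Modules.pullbackPushforwardAdjunction _).leftAdjoint_preservesColimits
    let F := (Scheme.Modules.pullback e.iso.inv).obj (BrSev.bcMod f K E)
    let φ : F ≅ ∐ fun l => Twist.twistProjSpace n K (d l) :=
      (Scheme.Modules.pullback e.iso.inv).mapIso u ≪≫ PreservesCoproduct.iso _ _ ≪≫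
        Limits.Sigma.mapIso fun l => (Scheme.Modules.pullback e.iso.inv).mapIso (t l) ≪≫
          (Scheme.Modules.pullbackComp e.iso.inv e.iso.hom).app _ ≪≫
          (Scheme.Modules.pullbackCongr e.iso.inv_hom_id).app _ ≪≫ (Scheme.Modules.pullbackId _).app _
    have hF : FlatMod.IsFinLocFree F := isFinLocFree_pullback_iso e.iso.inv (isFinLocFree_bcMod hE)
    exact (SerreD94.hyp_of_iso d ⟨Props58.LocFree.isQuasicoherent_of_isFinLocFree hF,
      Props58.LocFree.isFiniteType_of_isFinLocFree hF⟩ φ).mid _ i hi (by omega)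
  · intro h
    refine split_of_mid e hE fun t i hi hin => ?_
    have hp0 : 0 < p := hp.1
    obtain ⟨L, hL, hLt⟩ := (exists_invertible_type_iff f hA hX K e hp (t / (p : ℤ) * (p : ℤ))).2 (Dvd.intro_left _ rfl)
    obtain ⟨W, r, hW, hWi, hr, hWt⟩ := exists_indec_twPow hA hX e (t % (p : ℤ))
    have := (subsingleton_hh_twisted e hE hL hW hr hLt hWt i).1 (h i hi (by omega) _ L hL hLt _
      (Int.emod_nonneg _ (by omega)) (Int.emod_lt_of_pos _ (by omega)) W hW hWi r hr hWt)
    rwa [Int.mul_comm (t / (p : ℤ)) (p : ℤ), Int.mul_ediv_add_emod] at this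

end Groth.Agent.ASB64
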