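import Groth.Agent.ASB64.SBK0Step
import Groth.Agent.ASB64.SBCore
import Groth.Agent.Crv77.Twist

/-! The Grothendieck group of a Severi-Brauer variety is spanned by modules of types `O(-j)`. -/

set_option autoImplicit false
set_option maxSynthPendingDepth 6
set_option maxHeartbeats 1000000
set_option synthInstance.maxHeartbeats 400000
set_option linter.style.haveILetI false
set_option backward.isDefEq.respectTransparency.types false
universe u

open CategoryTheory CategoryTheory.Limits AlgebraicGeometry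
open scoped TensorProduct ZeroObject Groth.Agent.Csa25

noncomputable section

namespace Groth.Agent.ASB64

/-- The property of being finite locally free. -/
abbrev lfProp (X : Scheme.{u}) : ObjectProperty X.Modules := fun M => FlatMod.IsFinLocFree M

variable {X : Scheme.{u}}

theorem cl_eq_zero_of_isZero {M : X.Modules} (hM : FlatMod.IsFinLocFree M) (hz : IsZero M) :
    KZero.clSub (lfProp X) M = 0 := by
  have hS : (ShortComplex.mk (𝟙 M) (𝟙 M) (hz.eq_of_src _ _)).ShortExact :=
    ShortComplex.Splitting.shortExact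
      { r := 0, s := 0, f_r := hz.eq_of_src _ _, s_g := hz.eq_of_src _ _, id := hz.eq_of_src _ _ }
  exact left_eq_add.mp (K0Res3.cls_add (P := lfProp X) _ hS hM hM hM)

theorem cl_eq_of_iso [IsLocallyNoetherian X] {M N : X.Modules} (e : M ≅ N) (hM : FlatMod.IsFinLocFree M) :
    KZero.clSub (lfProp X) M = KZero.clSub (lfProp X) N := by
  have hN : FlatMod.IsFinLocFree N := LimTop61.isFinLocFree_of_iso e hM
  have hc : FlatMod.IsFinLocFree (kernel e.hom) :=
    SerreD94.isFinLocFree_kernel (isCoh_vb hM) (isCoh_vb hN) hM hN e.hom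
  refine (K0Res3.cls_add (P := lfProp X) _ (K0Res3.epiSeq_shortExact e.hom) hc hM hN).trans ?_
  exact (congrArg (· + _) (cl_eq_zero_of_isZero hc (isZero_kernel_of_mono _))).trans (zero_add _)

variable {k : Type u} [Field k] {f : X ⟶ Spec (CommRingCat.of k)} [IsProper f] {K : Type u} [Field K] [Algebra k K]
  {n : ℕ}

/-- The classes of the indecomposable modules of types `O(-j)`, `j ≥ 0`. -/
def negGen (e : BrSev.Splitting f K n) : Set (KZero.K0sub (lfProp X)) :=
  {c | ∃ (W : X.Modules) (j : ℕ) (r : ℕ), FlatMod.IsFinLocFree W ∧ KSchm95.Indec W ∧ 0 < r ∧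
    BrSev.IsTwPow e (-(j : ℤ)) r W ∧ c = KZero.clSub (lfProp X) W}

variable [IsAlgClosure k K] {A : Type u} [Ring A] [Algebra k A] [Algebra.IsCentral k A] [IsSimpleRing A]

/-- Twists of states are in the span. -/
theorem cl_tensor_mem (hA : Module.finrank k A = (n + 1) * (n + 1))
    (hX : BrSev.IsSBOf k A ((n + 1) * (n + 1) - (n + 1)) f) (e : BrSev.Splitting f K n) (d : ℕ)
    {N N' : X.Modules} (hN : PicF.IsInvertible N) (hNN' : Nonempty (CohB1.tensorMod N N' ≅ Coh.structureModule X))
    (hNt : BrSev.IsTwPow e (-(d : ℤ)) 1 N) :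
    ∀ (c i : ℕ) (F : X.Modules), i + c = n + 1 → FlatMod.IsFinLocFree F → Syz (onPn e F) i →
      KZero.clSub (lfProp X) (CohB1.tensorMod F N) ∈ AddSubgroup.closure (negGen e) := by
  letI : X.Over (Spec (CommRingCat.of k)) := ⟨f⟩
  haveI : IsProper (X ↘ Spec (CommRingCat.of k)) := ‹IsProper f›
  haveI : IsLocallyNoetherian X := LocallyOfFiniteType.isLocallyNoetherian (X ↘ Spec (CommRingCat.of k))
  haveI : HasFiniteBiproducts X.Modules := HasFiniteBiproducts.of_hasFiniteProducts
  haveI : IsAlgClosed K := IsAlgClosure.isAlgClosed k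
  haveI : Algebra.IsAlgebraic k K := IsAlgClosure.isAlgebraic
  have hNf := isFinLocFree_of_isInvertible hN
  intro c
  induction c with
  | zero =>
    intro i F hi hF h
    obtain rfl : i = n + 1 := by omega
    have hz : IsZero F := by
      refine isZero_of_isZero_bc (k := k) K (isCoh_vb hF) ?_
      haveI := isEquivalence_pullback_inv e
      exact (IsZero.iff_id_eq_zero _).mpr ((Scheme.Modules.pullback e.iso.inv).map_injective (h.isZero.eq_of_src _ _))
    rw [cl_eq_zero_of_isZero (isFinLocFree_tensor hF hNf) (ValVan29.isZero_tensorMod hz hN)]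
    exact zero_mem _
  | succ c ih =>
    intro i F hi hF h
    obtain ⟨W, r, m, ψ, hψ, hW, hWi, hr, hWt, hker, hK⟩ := syz_step hA hX e hF (by omega) h
    obtain ⟨T, hT, e₁, e₂, e₃⟩ := Crv77.shortExact_twist (Mero90.isFinLocFreeOfRank_of_isInvertible hN)
      (K0Res3.epiSeq_shortExact ψ)
    have hP : FlatMod.IsFinLocFree (⨁ fun _ : Fin m => W) := isFinLocFree_biproduct' _ fun _ => hW
    have hadd := K0Res3.cls_add (P := lfProp X) T hT (e₁ ▸ isFinLocFree_tensor hker hNf)
      (e₂ ▸ isFinLocFree_tensor hP hNf) (e₃ ▸ isFinLocFree_tensor hF hNf)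
    rw [e₁, e₂, e₃] at hadd
    -- the indecomposable twist
    have hWN : KZero.clSub (lfProp X) (CohB1.tensorMod W N) ∈ AddSubgroup.closure (negGen e) := by
      obtain ⟨z⟩ := hNN'
      obtain ⟨t⟩ := nonempty_twist_add' e (-(i : ℤ)) (-(d : ℤ))
      refine AddSubgroup.subset_closure ⟨_, i + d, r * 1, isFinLocFree_tensor hW hNf,
        indec_tensor_of_inverse hWi z, by omega, ?_, rfl⟩
      rw [show (-((i + d : ℕ) : ℤ)) = -(i : ℤ) + -(d : ℤ) by push_cast; ring]
      exact (((typed_of_isTwPow e hW hWt).tensor (typed_of_isTwPow e hNf hNt)).of_iso t).iso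
    -- sums of copies
    have hsum : ∀ q : ℕ, KZero.clSub (lfProp X) (CohB1.tensorMod (⨁ fun _ : Fin q => W) N) ∈
        AddSubgroup.closure (negGen e) := fun q => by
      induction q with
      | zero =>
        rw [cl_eq_zero_of_isZero (isFinLocFree_tensor (isFinLocFree_biproduct' _ fun _ => hW) hNf)
          (ValVan29.isZero_tensorMod ((IsZero.iff_id_eq_zero _).mpr (biproduct.hom_ext _ _ fun a => a.elim0)) hN)]
        exact zero_mem _
      | succ q ihq =>
        obtain ⟨U, hU, u₁, u₂, u₃⟩ := Crv77.shortExact_twist (Mero90.isFinLocFreeOfRank_of_isInvertible hN)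
          (QC70.consSC_shortExact fun _ : Fin (q + 1) => W)
        have hq : ∀ a : ℕ, FlatMod.IsFinLocFree (⨁ fun _ : Fin a => W) := fun a => isFinLocFree_biproduct' _ fun _ => hW
        have h2 := K0Res3.cls_add (P := lfProp X) U hU (u₁ ▸ isFinLocFree_tensor hW hNf)
          (u₂ ▸ isFinLocFree_tensor (hq (q + 1)) hNf) (u₃ ▸ isFinLocFree_tensor (hq q) hNf)
        rw [u₁, u₂, u₃] at h2
        exact (congrArg (fun z => z ∈ AddSubgroup.closure (negGen e)) h2).mpr (add_mem hWN ihq)
    have h3 := ih (i + 1) (kernel ψ) (by omega) hker hK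
    have h4 := sub_mem (hsum m) h3
    exact (congrArg (fun z => z ∈ AddSubgroup.closure (negGen e)) (eq_sub_of_add_eq' hadd.symm)).mpr h4

/-- The group is spanned by the classes of indecomposable modules of types `O(-j)`. -/
theorem closure_negGen_eq_top (hA : Module.finrank k A = (n + 1) * (n + 1))
    (hX : BrSev.IsSBOf k A ((n + 1) * (n + 1) - (n + 1)) f) (e : BrSev.Splitting f K n) :
    AddSubgroup.closure (negGen e) = ⊤ := by
  letI : X.Over (Spec (CommRingCat.of k)) := ⟨f⟩
  haveI : IsProper (X ↘ Spec (CommRingCat.of k)) := ‹IsProper f›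
  haveI : IsLocallyNoetherian X := LocallyOfFiniteType.isLocallyNoetherian (X ↘ Spec (CommRingCat.of k))
  haveI : FiniteDimensional k A := FiniteDimensional.of_finrank_pos (by rw [hA]; positivity)
  haveI : IsAlgClosed K := IsAlgClosure.isAlgClosed k
  haveI : Algebra.IsAlgebraic k K := IsAlgClosure.isAlgebraic
  rw [AddSubgroup.eq_top_iff']
  intro x
  obtain ⟨y, rfl⟩ := QuotientAddGroup.mk_surjective x
  induction y using FreeAbelianGroup.induction_on with
  | zero => exact zero_mem _
  | neg y h => exact neg_mem h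
  | add a b ha hb => exact add_mem ha hb
  | of E =>
    obtain ⟨E, hE⟩ := E
    rw [← K0Res3.cls_eq (P := lfProp X) hE]
    -- a multiple of the period making the twist regular at zero
    have hord : 0 < orderOf (Csa25.cl k A) :=
      orderOf_pos_iff.mpr (isOfFinOrder_iff_pow_eq_one.mpr ⟨n + 1, n.succ_pos, Csa25.cl_pow_degree hA⟩)
    have hp := (Csa25.isPeriod_iff k A (orderOf (Csa25.cl k A))).mpr ⟨hord, rfl⟩
    obtain ⟨m₀, hm₀⟩ := Var76.Reg.exists_reg (onPn e E) (isCoh_vb (isFinLocFree_onPn e hE))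
    let d : ℕ := m₀.toNat * orderOf (Csa25.cl k A)
    have hd : m₀ ≤ (d : ℤ) := le_trans (Int.self_le_toNat m₀) (by exact_mod_cast Nat.le_mul_of_pos_right _ hord)
    obtain ⟨L, hL, hLt⟩ := (exists_invertible_type_iff f hA hX K e hp (d : ℤ)).2 ⟨m₀.toNat, by push_cast [d]; ring⟩
    obtain ⟨N, hN, hNt⟩ := (exists_invertible_type_iff f hA hX K e hp (-(d : ℤ))).2
      ⟨-(m₀.toNat : ℤ), by push_cast [d]; ring⟩
    have hLf := isFinLocFree_of_isInvertible hL
    have hNf := isFinLocFree_of_isInvertible hN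
    have hLN : Nonempty (CohB1.tensorMod L N ≅ Coh.structureModule X) := by
      obtain ⟨t⟩ := nonempty_twist_add' e (d : ℤ) (-(d : ℤ))
      obtain ⟨t₀⟩ := nonempty_twist_pow e 1 0
      have h1 := ((typed_of_isTwPow e hLf hLt).tensor (typed_of_isTwPow e hNf hNt)).of_iso
        (t ≪≫ eqToIso (by rw [add_neg_cancel]) ≪≫ (eqToIso (by simp)) ≪≫ t₀.symm)
      obtain ⟨a⟩ := h1.iso
      obtain ⟨b⟩ := (typed_structureModule (k := k) (X := X) (K := K)).iso
      exact Groth.Agent.S13687.result k (X ↘ Spec (CommRingCat.of k)) K _ _ h1.coh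
        (isCoh_vb (isFinLocFree_of_isInvertible EGA73.isInvertible_structureModule)) (a ≪≫ b.symm)
    obtain ⟨z⟩ := hLN
    let Q := CohB1.tensorMod E L
    have hQ : FlatMod.IsFinLocFree Q := isFinLocFree_tensor hE hLf
    have hreg : Syz (onPn e Q) 0 := by
      obtain ⟨l⟩ := (Csa25.isTwPow_one_iff e _ L).mp hLt
      let φ : onPn e Q ≅ Var76.Reg.tw n K (onPn e E) (d : ℤ) :=
        (Scheme.Modules.pullback e.iso.inv).mapIso
            (TwTens96.pullTensIso (BrSev.proj f K) E L ≪≫ EGA73.tensIso (Iso.refl _) l) ≪≫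
          TwTens96.pullTensIso e.iso.inv _ _ ≪≫ EGA73.tensIso (Iso.refl _) (twistBack e _)
      refine ⟨isCoh_vb (isFinLocFree_onPn e hQ), fun q hq => ?_, fun t q ht hti => absurd hti (by omega)⟩
      exact ValVan29.subsingleton_hh_of_iso (EGA73.tensIso φ.symm (Iso.refl _)) q
        (Var76.Reg.sub_tw_tw (F := onPn e E) (show (d : ℤ) + ((0 : ℕ) - (q : ℤ)) = (d : ℤ) - q by push_cast; ring)
          (hm₀.vanish (isCoh_vb (isFinLocFree_onPn e hE)).1 hq (by omega)))
    have key := cl_tensor_mem hA hX e d hN ⟨EGA73.tensComm N L ≪≫ z⟩ hNt (n + 1) 0 Q (by omega) hQ hreg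
    let w : CohB1.tensorMod Q N ≅ E :=
      EGA73.tensAssoc' E L N ≪≫ EGA73.tensIso (Iso.refl E) z ≪≫ EGA73.tensUnitRight E
    exact (congrArg (fun a => a ∈ AddSubgroup.closure (negGen e))
      (cl_eq_of_iso w (isFinLocFree_tensor hQ hNf))).mp key

end Groth.Agent.ASB64
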