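import Groth.Prelude.Def_BrSev
import Groth.Agent.SerreD94.Split
import Groth.Agent.ASB64.HomBC
import Groth.Agent.QC70.HomCoh
import Groth.Agent.Serre71.Finite
import Groth.Agent.ASB64.Isotypical

/-! Syzygies of regular modules, and generators of spaces of morphisms. -/

set_option autoImplicit false
set_option maxSynthPendingDepth 6
set_option maxHeartbeats 1000000
set_option synthInstance.maxHeartbeats 400000
set_option linter.style.haveILetI false
set_option backward.isDefEq.respectTransparency.types false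
universe u

open CategoryTheory CategoryTheory.Limits AlgebraicGeometry

noncomputable section

namespace Groth.Agent.ASB64

open Crv77 Var76.Reg SerreD94

/-- Sections from morphisms out of the structure module. -/
theorem surjective_hmap_of_lift {k : Type u} [Field k] {Y : Scheme.{u}} [Y.Over (Spec (CommRingCat.of k))]
    {M N : Y.Modules} (f : M ⟶ N) (h : ∀ g : Coh.structureModule Y ⟶ N, ∃ g', g' ≫ f = g) :
    Function.Surjective (Crv77.hmap k f 0) := fun x => by
  obtain ⟨g', hg⟩ := h (Crv77.toHom x)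
  refine ⟨(Crv77.sec M).symm (g'.app ⊤ (1 : Γ(Y, ⊤))), (Crv77.sec N).injective ?_⟩
  rw [Crv77.sec_hmap, AddEquiv.apply_symm_apply]
  exact (congrArg (fun φ : Coh.structureModule Y ⟶ N => φ.app ⊤ (1 : Γ(Y, ⊤))) hg).trans (Crv77.toHom_app_one x)

theorem subsingleton_h0_of_lift {Y : Scheme.{u}} {M N : Y.Modules} (f : M ⟶ N)
    (h : ∀ g : Coh.structureModule Y ⟶ M, g ≫ f = 0 → g = 0)
    (hN : ∀ g : Coh.structureModule Y ⟶ M, g ≫ f = 0) : Subsingleton (Coh.HH Y M 0) := by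
  refine subsingleton_of_forall_eq 0 fun x => (Crv77.sec M).injective ?_
  refine (Crv77.toHom_app_one x).symm.trans ?_
  refine (congrArg (fun φ : Coh.structureModule Y ⟶ M => φ.app ⊤ (1 : Γ(Y, ⊤))) (h _ (hN _))).trans ?_
  exact (map_zero (Crv77.sec M)).symm

variable {k : Type u} [Field k] {n : ℕ}

theorem subsingleton_tw_pow {N : ℕ} {S : (CohB1.ProjSpace n k).Modules} {a t : ℤ} {q : ℕ}
    (φ : S ≅ BrSev.pow (Twist.twistProjSpace n k a) N)
    (h₀ : ¬ (q = 0 ∧ 0 ≤ a + t)) (h₁ : ¬ (q = n ∧ a + t ≤ -((n : ℤ) + 1))) :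
    Subsingleton (Coh.HH (CohB1.ProjSpace n k) (tw n k S t) q) := by
  refine ValVan29.subsingleton_hh_of_iso (EGA73.tensIso (biproduct.isoCoproduct _ ≪≫ φ.symm) (Iso.refl _)) q ?_
  refine QC70.biproduct_induction (fun M => Subsingleton (Coh.HH _ (tw n k M t) q))
    (fun M h => ValVan29.subsingleton_hh_of_isZero (ValVan29.isZero_tensorMod h (isInvertible_twist t)) q)
    (fun S hS a c => sub_tw_X₂ hS a c) _ fun _ => ?_
  obtain ⟨e⟩ := nonempty_twist_add (n := n) (A := k) (show a + t = a + t from rfl)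
  exact ValVan29.subsingleton_hh_of_iso e.symm q (Pn71.subsingleton_hh n k _ q h₀ h₁)

/-- The state of a syzygy: regular at `i`, with no cohomology in the twists `0, …, i - 1`. -/
structure Syz (F : (CohB1.ProjSpace n k).Modules) (i : ℕ) : Prop where
  coh : Coh.IsCoh F
  reg : Reg n k F i
  acy : ∀ (t : ℤ) (q : ℕ), 0 ≤ t → t < i → Subsingleton (Coh.HH (CohB1.ProjSpace n k) (tw n k F t) q)

theorem Syz.isZero {F : (CohB1.ProjSpace n k).Modules} (h : Syz F (n + 1)) : IsZero F := by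
  refine SerreD94.isZero_of_reg_of_h0 h.coh (m := (n : ℤ)) (fun q hq => ?_) (h.acy _ 0 (by omega) (by omega))
  rcases le_or_gt q n with hqn | hqn
  · exact h.acy _ q (by omega) (by omega)
  · exact subsingleton_hh_gt n k _ (isQCoh_tw n k F h.coh.1 _) q hqn

/-- A syzygy of a quotient by twists, sections being lifted uniquely. -/
theorem Syz.step {S : ShortComplex (CohB1.ProjSpace n k).Modules} (hS : S.ShortExact) (hc : Coh.IsCoh S.X₁)
    {i N : ℕ} (hi : i ≤ n) (h : Syz S.X₃ i) (φ : S.X₂ ≅ BrSev.pow (Twist.twistProjSpace n k (-(i : ℤ))) N)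
    (hsurj : ∀ g : Twist.twistProjSpace n k (-(i : ℤ)) ⟶ S.X₃, ∃ g', g' ≫ S.g = g)
    (hinj : ∀ g : Twist.twistProjSpace n k (-(i : ℤ)) ⟶ S.X₂, g ≫ S.g = 0 → g = 0) : Syz S.X₁ (i + 1) := by
  letI : (CohB1.ProjSpace n k).Over (Spec (CommRingCat.of k)) := ⟨CohB1.ProjSpace.toSpec n k⟩
  -- tensoring with a twist
  let T := Twist.twistProjSpace n k
  obtain ⟨e0⟩ := nonempty_twist_zero (n := n) (A := k)
  obtain ⟨u⟩ := nonempty_twist_add (n := n) (A := k) (show -(i : ℤ) + (i : ℤ) = 0 by ring)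
  obtain ⟨v⟩ := nonempty_twist_add (n := n) (A := k) (show (i : ℤ) + -(i : ℤ) = 0 by ring)
  obtain ⟨α, hα⟩ := exists_natIso_tensor (v ≪≫ e0)
  let one : Coh.structureModule (CohB1.ProjSpace n k) ≅ CohB1.tensorMod (T (-(i : ℤ))) (T i) := (u ≪≫ e0).symm
  have hfaith : ∀ {M M' : (CohB1.ProjSpace n k).Modules} (p p' : M ⟶ M'),
      whiskR p (T i) = whiskR p' (T i) → p = p' := fun {M M'} p p' hp => by
    rw [← cancel_epi (α M).hom, ← hα, ← hα, hp]
  have hfull : ∀ {M M' : (CohB1.ProjSpace n k).Modules} (p : CohB1.tensorMod M (T i) ⟶ CohB1.tensorMod M' (T i)),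
      ∃ p' : M ⟶ M', whiskR p' (T i) = p := fun {M M'} p => by
    obtain ⟨β, hβ⟩ := exists_natIso_tensor (u ≪≫ e0)
    refine ⟨(α M).inv ≫ whiskR p (T (-(i : ℤ))) ≫ (α M').hom, ?_⟩
    have key : whiskR (whiskR ((α M).inv ≫ whiskR p (T (-(i : ℤ))) ≫ (α M').hom) (T i)) (T (-(i : ℤ))) =
        whiskR p (T (-(i : ℤ))) := by
      rw [← cancel_mono (α M').hom, hα]
      simp
    rw [← cancel_epi (β (CohB1.tensorMod M (T i))).hom, ← hβ, ← hβ, key]
  have hsurj' : ∀ g : Coh.structureModule _ ⟶ CohB1.tensorMod S.X₃ (T i), ∃ g', g' ≫ whiskR S.g (T i) = g := fun g => by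
    obtain ⟨p, hp⟩ := hfull (one.inv ≫ g)
    obtain ⟨q, hq⟩ := hsurj p
    exact ⟨one.hom ≫ whiskR q (T i), by rw [Category.assoc, ← whiskR_comp, hq, hp, Iso.hom_inv_id_assoc]⟩
  have hinj' : ∀ g : Coh.structureModule _ ⟶ CohB1.tensorMod S.X₂ (T i), g ≫ whiskR S.g (T i) = 0 → g = 0 := fun g hg => by
    obtain ⟨p, hp⟩ := hfull (one.inv ≫ g)
    have : p ≫ S.g = 0 := hfaith _ _ (by rw [whiskR_comp, hp, Category.assoc, hg, comp_zero, whiskR_zero])
    rw [← cancel_epi one.inv, ← hp, hinj p this, whiskR_zero, comp_zero]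
  have hgen : ∀ (t : ℤ) (q : ℕ), Subsingleton (Coh.HH _ (tw n k S.X₃ t) q) →
      Subsingleton (Coh.HH _ (tw n k S.X₂ t) (q + 1)) → Subsingleton (Coh.HH _ (tw n k S.X₁ t) (q + 1)) :=
    fun t q a b => sub_tw_X₁ hS a b
  -- degree `i`
  obtain ⟨w, hT⟩ := shortExact_whiskR (isInvertible_twist (A := k) (n := n) (i : ℤ)) hS
  have h01 : Subsingleton (Coh.HH _ (tw n k S.X₁ i) 0) ∧ Subsingleton (Coh.HH _ (tw n k S.X₁ i) 1) := by
    refine ⟨subsingleton_h0_of_lift (whiskR S.f (T i)) (fun g hg => ?_) fun g => hinj' _ ?_, ?_⟩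
    · haveI := hT.mono_f
      exact zero_of_comp_mono (whiskR S.f (T i)) hg
    · rw [Category.assoc, ← whiskR_comp, S.zero, whiskR_zero, comp_zero]
    · refine subsingleton_of_forall_eq 0 fun x => ?_
      have h2 : Subsingleton (Coh.HH _ (tw n k S.X₂ i) 1) :=
        subsingleton_tw_pow (t := (i : ℤ)) (q := 1) φ (by omega) (by omega)
      obtain ⟨y, rfl⟩ := (Crv77.exact_δ_f k hT 0 x).1 (h2.elim _ _)
      obtain ⟨z, rfl⟩ := surjective_hmap_of_lift (k := k) (whiskR S.g (T i)) hsurj' y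
      exact (Crv77.exact_g_δ k hT 0).apply_apply_eq_zero z
  refine ⟨hc, fun q hq => ?_, fun t q ht hti => ?_⟩
  · rcases Nat.eq_or_lt_of_le hq with rfl | hq2
    · simpa using h01.2
    · obtain ⟨p, rfl⟩ : ∃ p, q = p + 1 := ⟨q - 1, by omega⟩
      refine hgen _ p ?_ ?_
      · have := h.reg p (by omega)
        rwa [show ((i + 1 : ℕ) : ℤ) - ((p + 1 : ℕ) : ℤ) = (i : ℤ) - p by push_cast; ring]
      · exact subsingleton_tw_pow (t := ((i + 1 : ℕ) : ℤ) - ((p + 1 : ℕ) : ℤ)) (q := p + 1) φ (by omega)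
          (fun hh => by push_cast at hh; omega)
  · have hs2 : ∀ q', t < (i : ℤ) → Subsingleton (Coh.HH _ (tw n k S.X₂ t) q') := fun q' hlt =>
      subsingleton_tw_pow (t := t) (q := q') φ (by omega) (by omega)
    rcases eq_or_lt_of_le (show t ≤ (i : ℤ) by push_cast at hti; omega) with rfl | hlt
    · rcases q with - | - | p
      · exact h01.1
      · exact h01.2
      · refine hgen _ (p + 1) (h.reg.vanish h.coh.1 (by omega) (by omega))
          (subsingleton_tw_pow (t := (i : ℤ)) (q := p + 2) φ (by omega) (by omega))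
    · rcases q with - | p
      · obtain ⟨w', hT'⟩ := shortExact_whiskR (isInvertible_twist (A := k) (n := n) t) hS
        haveI := hT'.mono_f
        exact subsingleton_h0_of_lift (whiskR S.f (T t)) (fun g hg => zero_of_comp_mono (whiskR S.f (T t)) hg)
          fun g => SerreD94.hom_eq_zero_of_subsingleton (hs2 0 hlt) _
      · exact hgen t p (h.acy t p ht hlt) (hs2 _ hlt)

section Gens

open QC70

variable {X : Scheme.{u}} [X.Over (Spec (CommRingCat.of k))]

/-- The morphisms between coherent modules form a finite dimensional space. -/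
theorem finite_hom [IsProper (X ↘ Spec (CommRingCat.of k))] {A B : X.Modules} (hA : Coh.IsCoh A) (hB : Coh.IsCoh B) :
    Module.Finite k (A ⟶ B) := by
  haveI : IsLocallyNoetherian X := LocallyOfFiniteType.isLocallyNoetherian (X ↘ Spec (CommRingCat.of k))
  haveI : Module.Finite k (Coh.HH X (homMod A B) 0) :=
    Serre71.finite_hh_of_isProper k (homMod A B) (isCoh_homMod hA hB) 0
  let f : (A ⟶ B) →ₗ[k] Coh.HH X (homMod A B) 0 :=
    { toFun := fun φ => (Crv77.sec (homMod A B)).symm (HomOn.ofHom φ ⊤).toSec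
      map_add' := fun φ ψ => by
        rw [← map_add]
        exact congrArg _ (HomOn.ext' fun W hW s => by rfl)
      map_smul' := fun a φ => (Crv77.sec (homMod A B)).injective (by
        rw [RingHom.id_apply, Crv77.sec_smul k (homMod A B) a, AddEquiv.apply_symm_apply, AddEquiv.apply_symm_apply]
        exact HomOn.ext' fun W hW s => smul_app_rA a φ W s) }
  refine Module.Finite.of_injective f fun φ ψ h => ?_
  have h2 : HomOn.ofHom φ ⊤ = HomOn.ofHom ψ ⊤ := (Crv77.sec (homMod A B)).symm.injective h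
  refine Scheme.Modules.hom_ext _ _ fun W => ?_
  ext s
  exact congrArg (fun χ : HomOn A B ⊤ => χ.app W le_top s) h2

/-- Morphisms out of an object with division endomorphisms have a free system of generators. -/
theorem exists_free_generators [IsProper (X ↘ Spec (CommRingCat.of k))] [HasFiniteBiproducts X.Modules]
    {W F : X.Modules} (hW : Coh.IsCoh W) (hF : Coh.IsCoh F) (hdiv : ∀ a : End W, a ≠ 0 → IsUnit a) :
    ∃ (m : ℕ) (u : Fin m → (W ⟶ F)), (∀ g : W ⟶ F, ∃ h : W ⟶ ⨁ fun _ : Fin m => W, h ≫ biproduct.desc u = g) ∧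
      ∀ h : W ⟶ ⨁ fun _ : Fin m => W, h ≫ biproduct.desc u = 0 → h = 0 := by
  classical
  haveI := finite_hom (k := k) hW hF
  let P : ℕ → Prop := fun m => ∃ u : Fin m → (W ⟶ F), ∀ g : W ⟶ F, ∃ a : Fin m → (W ⟶ W), ∑ l, a l ≫ u l = g
  have hex : ∃ m, P m := ⟨_, fun l => Module.finBasis k (W ⟶ F) l, fun g =>
    ⟨fun l => (Module.finBasis k (W ⟶ F)).repr g l • 𝟙 W, by
      simp only [Linear.smul_comp, Category.id_comp]
      exact (Module.finBasis k (W ⟶ F)).sum_repr g⟩⟩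
  obtain ⟨u, hu⟩ := Nat.find_spec hex
  have hdesc : ∀ h : W ⟶ ⨁ fun _ : Fin (Nat.find hex) => W,
      h ≫ biproduct.desc u = ∑ l, (h ≫ biproduct.π (fun _ => W) l) ≫ u l := fun h => by
    rw [biproduct.desc_eq, Preadditive.comp_sum]
    simp only [Category.assoc]
  refine ⟨_, u, fun g => ?_, fun h hh => ?_⟩
  · obtain ⟨a, ha⟩ := hu g
    exact ⟨biproduct.lift a, by rw [hdesc]; simpa using ha⟩
  by_contra hne
  obtain ⟨l₀, hl₀⟩ : ∃ l, h ≫ biproduct.π (fun _ => W) l ≠ 0 := by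
    by_contra hc
    simp only [not_exists, not_not] at hc
    exact hne (biproduct.hom_ext _ _ fun l => by rw [hc l, zero_comp])
  obtain ⟨v, hv⟩ := hdiv (h ≫ biproduct.π (fun _ => W) l₀) hl₀
  let m := Nat.find hex
  obtain ⟨m', hm'⟩ : ∃ m', m = m' + 1 := ⟨m - 1, by have := l₀.2; omega⟩
  refine Nat.find_min hex (show m' < m by omega) ?_
  let l₁ : Fin (m' + 1) := Fin.cast hm' l₀
  let u' : Fin (m' + 1) → (W ⟶ F) := u ∘ Fin.cast hm'.symm
  let a₀ : W ⟶ W := h ≫ biproduct.π (fun _ => W) l₀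
  let b : Fin (m' + 1) → (W ⟶ W) := fun l => h ≫ biproduct.π (fun _ => W) (Fin.cast hm'.symm l)
  have hsum : a₀ ≫ u l₀ + ∑ l : Fin m', b (l₁.succAbove l) ≫ u' (l₁.succAbove l) = 0 := by
    rw [show a₀ ≫ u l₀ = b l₁ ≫ u' l₁ from rfl, ← Fin.sum_univ_succAbove (fun l => b l ≫ u' l) l₁,
      ← hh, hdesc]
    exact (finCongr hm'.symm).sum_comp (fun l => (h ≫ biproduct.π (fun _ => W) l) ≫ u l)
  have hinv : (End.asHom (↑v⁻¹ : End W)) ≫ a₀ = 𝟙 W := by
    show End.asHom (↑v⁻¹ : End W) ≫ End.asHom (h ≫ biproduct.π (fun _ => W) l₀ : End W) = 𝟙 W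
    rw [← hv]
    exact v.mul_inv
  refine ⟨fun l => u' (l₁.succAbove l), fun g => ?_⟩
  obtain ⟨a, ha⟩ := hu g
  refine ⟨fun l => a (Fin.cast hm'.symm (l₁.succAbove l)) - (a l₀ ≫ End.asHom (↑v⁻¹ : End W)) ≫ b (l₁.succAbove l), ?_⟩
  have hu0 : u l₀ = -(End.asHom (↑v⁻¹ : End W) ≫ ∑ l : Fin m', b (l₁.succAbove l) ≫ u' (l₁.succAbove l)) := by
    rw [← Preadditive.comp_neg, ← eq_neg_of_add_eq_zero_left hsum, ← Category.assoc, hinv, Category.id_comp]
  rw [← ha, ← (finCongr hm'.symm).sum_comp, Fin.sum_univ_succAbove _ l₁]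
  simp only [Preadditive.sub_comp, Category.assoc, Finset.sum_sub_distrib]
  show _ = a l₀ ≫ u l₀ + _
  rw [hu0, Preadditive.comp_neg, Preadditive.comp_sum, Preadditive.comp_sum]
  exact sub_eq_neg_add _ _

end Gens

end Groth.Agent.ASB64
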