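import Groth.Agent.SerreD94.Horrocks
import Groth.Agent.LimTop61.LocFreeStage
import Groth.Agent.ASB64.SplitFacts

/-! The splitting criterion, read on a split Severi-Brauer variety. -/

set_option autoImplicit false
set_option maxSynthPendingDepth 6
set_option linter.style.haveILetI false
set_option backward.isDefEq.respectTransparency.types false
universe u

open CategoryTheory CategoryTheory.Limits AlgebraicGeometry

noncomputable section

namespace Groth.Agent.ASB64

variable {k : Type u} [Field k] {X : Scheme.{u}} {f : X ⟶ Spec (CommRingCat.of k)}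
  {K : Type u} [Field K] [Algebra k K] {n : ℕ}

theorem isFinLocFree_pullback_iso {Y Z : Scheme.{u}} (g : Y ⟶ Z) [IsIso g] {M : Z.Modules}
    (hM : FlatMod.IsFinLocFree M) : FlatMod.IsFinLocFree ((Scheme.Modules.pullback g).obj M) :=
  LimTop61.isFinLocFree_pullback g hM

theorem isFinLocFree_bcMod {M : X.Modules} (hM : FlatMod.IsFinLocFree M) :
    FlatMod.IsFinLocFree (BrSev.bcMod f K M) := by
  letI : X.Over (Spec (CommRingCat.of k)) := ⟨f⟩
  haveI : IsAffineHom (BrSev.proj f K) := FF71.isAffineHom_bcπ k X K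
  exact LimTop61.isFinLocFree_pullback _ hM

/-- Read through a splitting, the criterion: the twists of `E` have no middle cohomology on projective space. -/
theorem split_of_mid (e : BrSev.Splitting f K n) {E : X.Modules} (hE : FlatMod.IsFinLocFree E)
    (hmid : ∀ (t : ℤ) (i : ℕ), 1 ≤ i → i < n → Subsingleton (Coh.HH (CohB1.ProjSpace n K)
      (Var76.Reg.tw n K ((Scheme.Modules.pullback e.iso.inv).obj (BrSev.bcMod f K E)) t) i)) :
    ∃ (r : ℕ) (Ls : Fin r → (BrSev.bc f K).Modules), (∀ i, PicF.IsInvertible (Ls i)) ∧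
      Nonempty (BrSev.bcMod f K E ≅ ∐ Ls) := by
  let F := (Scheme.Modules.pullback e.iso.inv).obj (BrSev.bcMod f K E)
  have hF : FlatMod.IsFinLocFree F := isFinLocFree_pullback_iso e.iso.inv (isFinLocFree_bcMod hE)
  obtain ⟨r, a, ⟨φ⟩⟩ := SerreD94.exists_iso_coprod_twists (d := n) (k := K) (F := F)
    ⟨⟨Props58.LocFree.isQuasicoherent_of_isFinLocFree hF, Props58.LocFree.isFiniteType_of_isFinLocFree hF⟩,
      fun hn => SerreD94.exists_low hF hn, hmid⟩
  haveI : PreservesColimitsOfSize.{0, 0} (Scheme.Modules.pullback e.iso.hom) :=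
    (Scheme.Modules.pullbackPushforwardAdjunction _).leftAdjoint_preservesColimits
  let back : (Scheme.Modules.pullback e.iso.hom).obj F ≅ BrSev.bcMod f K E :=
    (Scheme.Modules.pullbackComp e.iso.hom e.iso.inv).app _ ≪≫
      (Scheme.Modules.pullbackCongr e.iso.hom_inv_id).app _ ≪≫ (Scheme.Modules.pullbackId _).app _
  exact ⟨r, fun j => e.twist (a j), fun j => isInvertible_twist' e (a j),
    ⟨back.symm ≪≫ (Scheme.Modules.pullback e.iso.hom).mapIso φ ≪≫ PreservesCoproduct.iso _ _⟩⟩

end Groth.Agent.ASB64
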