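import Groth.Agent.ASB64.SBK0Core
import Groth.Agent.ASB64.AnyTypes
import Groth.Agent.ASB64.SplitCrit
import Groth.Agent.ASB64.Cyclic
import Groth.Agent.KRR40.Pull
import Groth.Agent.K0Res3.Main
import Groth.Agent.DCK91.StalkTensorNat
import Groth.Agent.Var76.RegPres

/-! One step of the resolution by indecomposable modules of types `O(-i)` on a Severi-Brauer variety. -/

set_option autoImplicit false
set_option maxSynthPendingDepth 6
set_option maxHeartbeats 1000000
set_option synthInstance.maxHeartbeats 400000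
set_option linter.style.haveILetI false
set_option backward.isDefEq.respectTransparency.types false
universe u

open CategoryTheory CategoryTheory.Limits AlgebraicGeometry
open scoped TensorProduct ZeroObject

noncomputable section

namespace Groth.Agent.ASB64

/-- Finite locally free modules are coherent. -/
theorem isCoh_vb {Y : Scheme.{u}} {M : Y.Modules} (h : FlatMod.IsFinLocFree M) : Coh.IsCoh M :=
  ⟨Props58.LocFree.isQuasicoherent_of_isFinLocFree h, Props58.LocFree.isFiniteType_of_isFinLocFree h⟩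

/-- Tensor products of finite locally free modules. -/
theorem isFinLocFree_tensor {Y : Scheme.{u}} [IsLocallyNoetherian Y] {M N : Y.Modules}
    (hM : FlatMod.IsFinLocFree M) (hN : FlatMod.IsFinLocFree N) : FlatMod.IsFinLocFree (CohB1.tensorMod M N) := by
  refine (Div89.isFinLocFree_iff_free_stalks (Amp73.isCoh_tensorMod (isCoh_vb hM) (isCoh_vb hN))).mpr fun x => ?_
  haveI : Module.Free (Y.presheaf.stalk x) (M.presheaf.stalk x) := Props58.LocFree.free_stalk_of_isFinLocFree hM x
  haveI : Module.Free (Y.presheaf.stalk x) (N.presheaf.stalk x) := Props58.LocFree.free_stalk_of_isFinLocFree hN x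
  have e : (M.presheaf.stalk x) ⊗[Y.presheaf.stalk x] (N.presheaf.stalk x) ≃ₗ[Y.presheaf.stalk x]
      (CohB1.tensorMod M N).presheaf.stalk x :=
    (@asIso _ _ _ _ (DCK91.tensorStalk x M N) (DCK91.isIso_tensorStalk x M N)).toLinearEquiv
  exact Module.Free.of_equiv e

section Lift

variable {k : Type u} [Field k] {X : Scheme.{u}} [X.Over (Spec (CommRingCat.of k))]
  [IsProper (X ↘ Spec (CommRingCat.of k))] (K : Type u) [Field K] [Algebra k K]

/-- Unique lifting of morphisms persists after base change. -/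
theorem bijective_comp_bc {W P F : X.Modules} (hW : Coh.IsCoh W) (hP : Coh.IsCoh P) (hF : Coh.IsCoh F) (ψ : P ⟶ F)
    (h : Function.Bijective fun a : W ⟶ P => a ≫ ψ) :
    Function.Bijective fun a : bcObj (k := k) K W ⟶ bcObj (k := k) K P =>
      a ≫ (Scheme.Modules.pullback (FF71.bcπ k X K)).map ψ := by
  haveI := hW.1; haveI := hW.2; haveI := hP.1; haveI := hF.1
  haveI : CompactSpace X := QuasiCompact.compactSpace_of_compactSpace (X ↘ Spec (CommRingCat.of k))
  let ℓ : (W ⟶ P) ≃ₗ[k] (W ⟶ F) := LinearEquiv.ofBijective (Linear.rightComp k W ψ) h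
  have key : ∀ z : K ⊗[k] (W ⟶ P), toBC (k := k) K W F (LinearEquiv.lTensor K ℓ z) =
      toBC (k := k) K W P z ≫ (Scheme.Modules.pullback (FF71.bcπ k X K)).map ψ := fun z => by
    induction z using TensorProduct.induction_on with
    | zero => simp only [map_zero]; exact (zero_comp).symm
    | add x y hx hy => simp only [map_add]; rw [hx, hy]; exact (Preadditive.add_comp _ _ _ _ _ _).symm
    | tmul c a =>
      rw [LinearEquiv.lTensor_tmul, toBC_tmul, toBC_tmul]
      exact (congrArg (fun φ => c • φ) (Functor.map_comp _ a ψ)).trans (Linear.smul_comp _ _ _ c _ _).symm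
  refine ⟨fun a b hab => ?_, fun g => ?_⟩
  · obtain ⟨z, rfl⟩ := toBC_surjective (k := k) K W P a
    obtain ⟨w, rfl⟩ := toBC_surjective (k := k) K W P b
    exact congrArg _ ((LinearEquiv.lTensor K ℓ).injective (toBC_injective (k := k) K W F
      ((key z).trans (hab.trans (key w).symm))))
  · obtain ⟨z, rfl⟩ := toBC_surjective (k := k) K W F g
    obtain ⟨w, rfl⟩ := (LinearEquiv.lTensor K ℓ).surjective z
    exact ⟨_, (key w).symm⟩

/-- A coherent module vanishing after an algebraic extension vanishes. -/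
theorem isZero_of_isZero_bc [Algebra.IsAlgebraic k K] {C : X.Modules} (hC : Coh.IsCoh C)
    (h : IsZero (bcObj (k := k) K C)) : IsZero C := by
  haveI : IsLocallyNoetherian X := LocallyOfFiniteType.isLocallyNoetherian (X ↘ Spec (CommRingCat.of k))
  have hz := isZero_zero X.Modules
  have h' : IsZero (bcObj (k := k) K (0 : X.Modules)) := (Scheme.Modules.pullback (FF71.bcπ k X K)).map_isZero hz
  obtain ⟨i⟩ := Groth.Agent.S13687.result k (X ↘ Spec (CommRingCat.of k)) K C 0 hC (QC70.isCoh_of_isZero hz)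
    (h.iso h')
  exact hz.of_iso i

end Lift

variable {k : Type u} [Field k] {X : Scheme.{u}} {f : X ⟶ Spec (CommRingCat.of k)} {K : Type u} [Field K]
  [Algebra k K] {n : ℕ}

/-- The module on projective space. -/
abbrev onPn (e : BrSev.Splitting f K n) (M : X.Modules) : (CohB1.ProjSpace n K).Modules :=
  (Scheme.Modules.pullback e.iso.inv).obj (BrSev.bcMod f K M)

theorem isFinLocFree_onPn (e : BrSev.Splitting f K n) {M : X.Modules} (hM : FlatMod.IsFinLocFree M) :
    FlatMod.IsFinLocFree (onPn e M) :=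
  isFinLocFree_pullback_iso e.iso.inv (isFinLocFree_bcMod hM)

/-- The pulled back twist. -/
def twistBack (e : BrSev.Splitting f K n) (j : ℤ) :
    (Scheme.Modules.pullback e.iso.inv).obj (e.twist j) ≅ Twist.twistProjSpace n K j :=
  (Scheme.Modules.pullbackComp e.iso.inv e.iso.hom).app _ ≪≫
    (Scheme.Modules.pullbackCongr e.iso.inv_hom_id).app _ ≪≫ (Scheme.Modules.pullbackId _).app _

theorem isEquivalence_pullback_inv (e : BrSev.Splitting f K n) :
    (Scheme.Modules.pullback e.iso.inv).IsEquivalence :=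
  (CategoryTheory.Equivalence.mk (Scheme.Modules.pullback e.iso.inv) (Scheme.Modules.pullback e.iso.hom)
    (Scheme.Modules.pullbackComp e.iso.hom e.iso.inv ≪≫ Scheme.Modules.pullbackCongr e.iso.hom_inv_id ≪≫
      Scheme.Modules.pullbackId _).symm
    (Scheme.Modules.pullbackComp e.iso.inv e.iso.hom ≪≫ Scheme.Modules.pullbackCongr e.iso.inv_hom_id ≪≫
      Scheme.Modules.pullbackId _)).isEquivalence_functor

variable [IsProper f] [IsAlgClosure k K] {A : Type u} [Ring A] [Algebra k A] [Algebra.IsCentral k A]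
  [IsSimpleRing A]

/-- Covering a module in state `i` by a sum of the indecomposable module of type `O(-i)`. -/
theorem syz_step (hA : Module.finrank k A = (n + 1) * (n + 1))
    (hX : BrSev.IsSBOf k A ((n + 1) * (n + 1) - (n + 1)) f) (e : BrSev.Splitting f K n) {F : X.Modules}
    (hF : FlatMod.IsFinLocFree F) {i : ℕ} (hi : i ≤ n) (h : Syz (onPn e F) i) [HasFiniteBiproducts X.Modules] :
    ∃ (W : X.Modules) (r m : ℕ) (ψ : (⨁ fun _ : Fin m => W) ⟶ F), Epi ψ ∧ FlatMod.IsFinLocFree W ∧
      KSchm95.Indec W ∧ 0 < r ∧ BrSev.IsTwPow e (-(i : ℤ)) r W ∧ FlatMod.IsFinLocFree (kernel ψ) ∧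
      Syz (onPn e (kernel ψ)) (i + 1) := by
  classical
  letI : X.Over (Spec (CommRingCat.of k)) := ⟨f⟩
  haveI : IsProper (X ↘ Spec (CommRingCat.of k)) := ‹IsProper f›
  haveI : IsLocallyNoetherian X := LocallyOfFiniteType.isLocallyNoetherian (X ↘ Spec (CommRingCat.of k))
  haveI : IsAlgClosed K := IsAlgClosure.isAlgClosed k
  haveI : Algebra.IsAlgebraic k K := IsAlgClosure.isAlgebraic
  obtain ⟨W, r, hW, hWi, hr, ⟨w⟩⟩ := exists_indec_twPow hA hX e (-(i : ℤ))
  let L : (FF71.bc k X K).Modules := e.twist (-(i : ℤ))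
  have hL : PicF.IsInvertible L := isInvertible_twist' e _
  obtain ⟨m, u, hu, hu0⟩ := exists_free_generators (k := k) (isCoh_vb hW) (isCoh_vb hF)
    (isUnit_of_ne_zero (K := K) (isCoh_vb hW) (bijective_toGlobal_of_splitting e) hL w hWi)
  let P : X.Modules := ⨁ fun _ : Fin m => W
  let ψ : P ⟶ F := biproduct.desc u
  have hP : FlatMod.IsFinLocFree P := isFinLocFree_biproduct' _ fun _ => hW
  -- lifting over the extension
  have hbij := bijective_comp_bc (k := k) K (isCoh_vb hW) (isCoh_vb hP) (isCoh_vb hF) ψ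
    ⟨fun a b hab => sub_eq_zero.mp (hu0 (a - b) (by rw [Preadditive.sub_comp]; exact sub_eq_zero.mpr hab)),
      fun g => hu g⟩
  let ψK := (Scheme.Modules.pullback (BrSev.proj f K)).map ψ
  let a : e.twist (-(i : ℤ)) ⟶ BrSev.bcMod f K W :=
    Sigma.ι (fun _ : Fin r => e.twist (-(i : ℤ))) ⟨0, hr⟩ ≫ w.inv
  let b : BrSev.bcMod f K W ⟶ e.twist (-(i : ℤ)) :=
    w.hom ≫ Sigma.desc (Function.update (fun _ => 0) (⟨0, hr⟩ : Fin r) (𝟙 _))
  have hab : a ≫ b = 𝟙 _ := by simp [a, b]
  have hlift : ∀ g : e.twist (-(i : ℤ)) ⟶ BrSev.bcMod f K F, ∃ g', g' ≫ ψK = g := fun g => by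
    obtain ⟨q, hq⟩ : ∃ q : BrSev.bcMod f K W ⟶ BrSev.bcMod f K P, q ≫ ψK = b ≫ g := hbij.2 (b ≫ g)
    refine ⟨a ≫ q, ?_⟩
    rw [Category.assoc, hq, reassoc_of% hab]
  have hinj : ∀ g : e.twist (-(i : ℤ)) ⟶ BrSev.bcMod f K P, g ≫ ψK = 0 → g = 0 := fun g hg => by
    have h0 : (b ≫ g) ≫ ψK = 0 := by rw [Category.assoc, hg, comp_zero]
    have h1 : b ≫ g = 0 := hbij.1 (h0.trans zero_comp.symm)
    rw [← Category.id_comp g, ← hab, Category.assoc, h1, comp_zero]
  -- lifting on projective space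
  let G := Scheme.Modules.pullback e.iso.inv
  haveI : G.IsEquivalence := isEquivalence_pullback_inv e
  let Ψ : onPn e P ⟶ onPn e F := G.map ψK
  have hlift' : ∀ g : Twist.twistProjSpace n K (-(i : ℤ)) ⟶ onPn e F, ∃ g', g' ≫ Ψ = g := fun g => by
    obtain ⟨g₀, hg₀⟩ := G.map_surjective ((twistBack e _).hom ≫ g)
    obtain ⟨q, hq⟩ := hlift g₀
    refine ⟨(twistBack e _).inv ≫ G.map q, ?_⟩
    rw [Category.assoc, ← G.map_comp, hq, hg₀, Iso.inv_hom_id_assoc]
  have hinj' : ∀ g : Twist.twistProjSpace n K (-(i : ℤ)) ⟶ onPn e P, g ≫ Ψ = 0 → g = 0 := fun g hg => by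
    obtain ⟨g₀, hg₀⟩ := G.map_surjective ((twistBack e _).hom ≫ g)
    have : g₀ ≫ ψK = 0 := G.map_injective (by rw [G.map_comp, hg₀, Category.assoc, hg, comp_zero, G.map_zero])
    rw [← cancel_epi (twistBack e (-(i : ℤ))).hom, comp_zero, ← hg₀, hinj g₀ this, G.map_zero]
  have hepi : Epi Ψ := by
    obtain ⟨c, φ, hφ, -⟩ := h.reg.exists_presentation h.coh
    choose q hq using fun j => hlift' (Sigma.ι (fun _ : Fin c => Twist.twistProjSpace n K (-(i : ℤ))) j ≫ φ)
    exact epi_of_epi_fac (f := Sigma.desc q) (h := φ) (Sigma.hom_ext _ _ fun j => by rw [Sigma.ι_desc_assoc, hq])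
  haveI : Epi ψK := G.epi_of_epi_map hepi
  haveI : Epi ψ := by
    refine Abelian.epi_of_cokernel_π_eq_zero _ (IsZero.eq_of_tgt ?_ _ _)
    haveI := (isCoh_vb hP).1
    haveI := (isCoh_vb hF).1
    haveI := (isCoh_vb hF).2
    refine isZero_of_isZero_bc (k := k) K
      ⟨QC70.isQuasicoherent_cokernel ψ, QC70.isFiniteType_of_epi (cokernel.π ψ)⟩ ?_
    haveI : PreservesColimitsOfSize.{0, 0} (Scheme.Modules.pullback (BrSev.proj f K)) :=
      (Scheme.Modules.pullbackPushforwardAdjunction _).leftAdjoint_preservesColimits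
    exact IsZero.of_iso (isZero_cokernel_of_epi ψK)
      (PreservesCokernel.iso (Scheme.Modules.pullback (BrSev.proj f K)) ψ)
  have hker : FlatMod.IsFinLocFree (kernel ψ) := SerreD94.isFinLocFree_kernel (isCoh_vb hP) (isCoh_vb hF) hP hF ψ
  refine ⟨W, r, m, ψ, inferInstance, hW, hWi, hr, ⟨w⟩, hker, ?_⟩
  let S := K0Res3.epiSeq ψ
  have hS : ((S.map (Scheme.Modules.pullback (BrSev.proj f K))).map G).ShortExact :=
    KRR40.shortExact_pullback e.iso.inv
      (KRR40.shortExact_pullback (BrSev.proj f K) (K0Res3.epiSeq_shortExact ψ) hF) (isFinLocFree_bcMod hF)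
  haveI : HasFiniteBiproducts (BrSev.bc f K).Modules := HasFiniteBiproducts.of_hasFiniteProducts
  haveI : PreservesColimitsOfSize.{0, 0} G :=
    (Scheme.Modules.pullbackPushforwardAdjunction _).leftAdjoint_preservesColimits
  let φ : onPn e P ≅ BrSev.pow (Twist.twistProjSpace n K (-(i : ℤ))) (m * r) :=
    G.mapIso ((Scheme.Modules.pullback (BrSev.proj f K)).mapIso (biproduct.isoCoproduct fun _ : Fin m => W) ≪≫
      bcPowIso (k := k) K W m ≪≫ Limits.Sigma.mapIso (fun _ => w) ≪≫ powPowIso (e.twist (-(i : ℤ))) r m) ≪≫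
    PreservesCoproduct.iso G _ ≪≫ Limits.Sigma.mapIso fun _ => twistBack e _
  exact Syz.step hS (isCoh_vb (isFinLocFree_onPn e hker)) hi h φ hlift' hinj'

end Groth.Agent.ASB64
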