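import Groth.Agent.ASB64.PushSplit
import Groth.Agent.ASB64.TwistAlg
import Groth.Agent.Csa25.SBDescent

/-! Every twist is the type of a module on a variety split by a finite Galois extension. -/

set_option autoImplicit false
set_option maxSynthPendingDepth 6
set_option linter.style.haveILetI false
set_option backward.isDefEq.respectTransparency.types false
universe u

open CategoryTheory CategoryTheory.Limits AlgebraicGeometry

noncomputable section

namespace Groth.Agent.ASB64

open Csa25

variable {k : Type u} [Field k] {X : Scheme.{u}} {f : X ⟶ Spec (CommRingCat.of k)}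
  {K : Type u} [Field K] [Algebra k K] {n : ℕ}

/-- Twists have Galois invariant classes. -/
theorem nonempty_bcAct_twist (e : BrSev.Splitting f K n) (σ : K ≃ₐ[k] K) (j : ℤ) :
    Nonempty ((Scheme.Modules.pullback (bcAct f σ)).obj (e.twist j) ≅ e.twist j) := by
  obtain ⟨F⟩ := exists_frame e
  obtain ⟨t₁⟩ := @nonempty_pullback_extend K K _ _ (σ : K →+* K).toAlgebra n j
  obtain ⟨t₂⟩ := nonempty_pullback_linMap (F.mat σ) (F.isUnit σ) j
  have hl : linMap (RingHom.id K) (F.mat σ) (F.isUnit σ) ≫ linMap (n := n) (σ : K →+* K) 1 isUnit_one =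
      linMap (σ : K →+* K) (F.mat σ) (F.isUnit σ) := by
    rw [linMap_comp]
    exact linMap_congr (RingHom.id_comp _) (by simp)
  have hc : bcAct f σ ≫ e.iso.hom =
      e.iso.hom ≫ linMap (RingHom.id K) (F.mat σ) (F.isUnit σ) ≫ linMap (n := n) (σ : K →+* K) 1 isUnit_one := by
    rw [hl, ← F.act σ, Iso.hom_inv_id_assoc]
  exact ⟨(Scheme.Modules.pullbackComp (bcAct f σ) e.iso.hom).app _ ≪≫ (Scheme.Modules.pullbackCongr hc).app _ ≪≫
    ((Scheme.Modules.pullbackComp e.iso.hom _).app _).symm ≪≫ (Scheme.Modules.pullback e.iso.hom).mapIso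
      (((Scheme.Modules.pullbackComp _ _).app _).symm ≪≫ (Scheme.Modules.pullback _).mapIso t₁ ≪≫ t₂)⟩

/-- Every twist of a splitting over a finite Galois extension is the type of a module. -/
theorem exists_twPow_galois [IsProper f] [FiniteDimensional k K] [IsGalois k K] (e : BrSev.Splitting f K n)
    (j : ℤ) : ∃ (r : ℕ) (M : X.Modules), 0 < r ∧ Coh.IsCoh M ∧ BrSev.IsTwPow e j r M := by
  letI : X.Over (Spec (CommRingCat.of k)) := ⟨f⟩
  haveI : IsProper (X ↘ Spec (CommRingCat.of k)) := ‹IsProper f›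
  let L : (FF71.bc k X K).Modules := e.twist j
  have hL : PicF.IsInvertible L := isInvertible_twist' e j
  haveI : L.IsQuasicoherent := Props58.LocFree.isQuasicoherent_of_isFinLocFree (isFinLocFree_of_isInvertible hL)
  have h := exists_typed (K := K) L hL fun σ => nonempty_bcAct_twist e σ j
  exact ⟨_, _, Module.finrank_pos, h.coh, h.iso⟩

/-- Extension of the coefficients preserves types. -/
theorem isTwPow_extend {K₀ : Type u} [Field K₀] [Algebra k K₀] {L : Type u} [Field L] [Algebra k L] [Algebra K₀ L]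
    [IsScalarTower k K₀ L] (e₀ : BrSev.Splitting f K₀ n) {j : ℤ} {r : ℕ} {M : X.Modules}
    (h : BrSev.IsTwPow e₀ j r M) (e : BrSev.Splitting f L n) : BrSev.IsTwPow e j r M := by
  obtain ⟨χ, e', hχ, htw⟩ := exists_splitting_extend f K₀ L e₀
  obtain ⟨tw⟩ := htw j
  obtain ⟨i⟩ := h
  obtain ⟨t⟩ := nonempty_twist_iso e' e j
  let p := W4c1astiltbs12.proj (BrSev.bcTo f K₀) L
  haveI : PreservesColimitsOfSize.{0, 0} (Scheme.Modules.pullback p) :=
    (Scheme.Modules.pullbackPushforwardAdjunction _).leftAdjoint_preservesColimits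
  haveI : PreservesColimitsOfSize.{0, 0} (Scheme.Modules.pullback χ.inv) :=
    (Scheme.Modules.pullbackPushforwardAdjunction _).leftAdjoint_preservesColimits
  let a : (Scheme.Modules.pullback χ.hom).obj (BrSev.bcMod f L M) ≅
      BrSev.pow ((Scheme.Modules.pullback χ.hom).obj (e'.twist j)) r :=
    (Scheme.Modules.pullbackComp χ.hom (BrSev.proj f L)).app M ≪≫ (Scheme.Modules.pullbackCongr hχ).app M ≪≫
      ((Scheme.Modules.pullbackComp p (BrSev.proj f K₀)).app M).symm ≪≫ (Scheme.Modules.pullback p).mapIso i ≪≫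
      PreservesCoproduct.iso _ _ ≪≫ Limits.Sigma.mapIso fun _ => tw.symm
  let back : ∀ N : (BrSev.bc f L).Modules,
      (Scheme.Modules.pullback χ.inv).obj ((Scheme.Modules.pullback χ.hom).obj N) ≅ N := fun N =>
    (Scheme.Modules.pullbackComp χ.inv χ.hom).app N ≪≫ (Scheme.Modules.pullbackCongr χ.inv_hom_id).app N ≪≫
      (Scheme.Modules.pullbackId _).app N
  exact ⟨(back _).symm ≪≫ (Scheme.Modules.pullback χ.inv).mapIso a ≪≫ PreservesCoproduct.iso _ _ ≪≫
    Limits.Sigma.mapIso fun _ => back _ ≪≫ t⟩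

end Groth.Agent.ASB64
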